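import Cfsg.Prelude.Def_LieExceptional

set_option autoImplicit false
set_option linter.unusedSectionVars false

/-! # Zassenhaus groups: normal subgroups -/

namespace Cfsg.Agent.Lib.Helper6.Zas

open MulAction

/-- faithful, doubly transitive, three point stabilisers trivial -/
structure Base (G Ω : Type*) [Group G] [MulAction G Ω] : Prop where
  faithful : ∀ g : G, (∀ a : Ω, g • a = a) → g = 1
  two : ∀ {a b c d : Ω}, a ≠ b → c ≠ d → ∃ g : G, g • a = c ∧ g • b = d
  three : ∀ g : G, ∀ a b c : Ω, a ≠ b → b ≠ c → a ≠ c → g • a = a → g • b = b → g • c = c → g = 1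

variable {G Ω : Type*} [Group G] [MulAction G Ω]

theorem Base.finite (hb : Base G Ω) [Finite Ω] : Finite G := by
  have hinj : Function.Injective (MulAction.toPermHom G Ω) := by
    rw [injective_iff_map_eq_one]
    intro g hg
    apply hb.faithful
    intro a
    have := congrArg (fun σ : Equiv.Perm Ω => σ a) hg
    simpa using this
  exact Finite.of_injective _ hinj

theorem Base.card_fixedBy_le (hb : Base G Ω) (A : Subgroup G) (x : A) (hx : x ≠ 1)
    [Fintype (fixedBy Ω x)] : Fintype.card (fixedBy Ω x) ≤ 2 := by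
  by_contra hlt
  push Not at hlt
  obtain ⟨⟨a, ha⟩, ⟨b, hb'⟩, ⟨c, hc⟩, hab, hac, hbc⟩ := Fintype.two_lt_card_iff.1 hlt
  apply hx
  apply Subtype.ext
  exact hb.three x a b c (fun h => hab (Subtype.ext h)) (fun h => hbc (Subtype.ext h))
    (fun h => hac (Subtype.ext h)) ha hb' hc

/-- If all two point stabilisers `N_{a c}` are non-trivial then `N_a` is transitive on the
remaining points. -/
theorem Base.trans_of_stab (hb : Base G Ω) [Finite Ω] (N : Subgroup G) (a : Ω)
    (h : ∀ c, c ≠ a → ∃ x ∈ N, x ≠ 1 ∧ x • a = a ∧ x • c = c) :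
    ∀ b c, b ≠ a → c ≠ a → ∃ x ∈ N, x • a = a ∧ x • b = c := by
  classical
  have := hb.finite
  have := Fintype.ofFinite Ω
  set A : Subgroup G := N ⊓ stabilizer G a with hA
  have : Fintype A := Fintype.ofFinite A
  have : Fintype (Quotient (orbitRel A Ω)) := Fintype.ofFinite _
  have burn := MulAction.sum_card_fixedBy_eq_card_orbits_mul_card_group A Ω
  -- (a) `|Ω| ≤ |A|`
  choose! φ hφN hφ1 hφa hφc using h
  have hcard : Fintype.card Ω ≤ Fintype.card A := by
    let ψ : Ω → A := fun c => if hc : c = a then 1 else ⟨φ c, hφN c hc, hφa c hc⟩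
    apply Fintype.card_le_of_injective ψ
    intro c c' hcc
    by_contra hne
    by_cases hc : c = a
    · have hc' : c' ≠ a := fun h' => hne (hc.trans h'.symm)
      simp only [ψ, hc, hc', dif_pos, dif_neg, not_false_eq_true] at hcc
      exact hφ1 c' hc' (congrArg Subtype.val hcc).symm
    · by_cases hc' : c' = a
      · simp only [ψ, hc, hc', dif_pos, dif_neg, not_false_eq_true] at hcc
        exact hφ1 c hc (congrArg Subtype.val hcc)
      · simp only [ψ, hc, hc', dif_neg, not_false_eq_true] at hcc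
        have he : φ c = φ c' := congrArg Subtype.val hcc
        apply hφ1 c hc
        exact hb.three (φ c) a c c' (Ne.symm hc) hne (Ne.symm hc') (hφa c hc) (hφc c hc)
          (he ▸ hφc c' hc')
  -- (b) bound of the sum
  have hsum : ∑ x : A, Fintype.card (fixedBy Ω x) ≤ Fintype.card Ω + 2 * (Fintype.card A - 1) := by
    rw [← Finset.add_sum_erase Finset.univ _ (Finset.mem_univ (1 : A))]
    apply Nat.add_le_add
    · exact Fintype.card_subtype_le _
    · have := Finset.sum_le_card_nsmul (Finset.univ.erase (1 : A))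
        (fun x => Fintype.card (fixedBy Ω x)) 2
        (fun x hx => hb.card_fixedBy_le A x (Finset.ne_of_mem_erase hx))
      rw [Finset.card_erase_of_mem (Finset.mem_univ _), Finset.card_univ, smul_eq_mul,
        mul_comm] at this
      exact this
  have hApos : 0 < Fintype.card A := Fintype.card_pos
  have horb : Fintype.card (Quotient (orbitRel A Ω)) ≤ 2 := by
    by_contra hlt
    push Not at hlt
    have h3 : 3 * Fintype.card A ≤ Fintype.card (Quotient (orbitRel A Ω)) * Fintype.card A :=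
      Nat.mul_le_mul_right _ hlt
    omega
  intro b c hba hca
  by_contra hcon
  apply absurd horb
  push Not
  rw [Fintype.two_lt_card_iff]
  have hmk : ∀ u v : Ω, (Quotient.mk (orbitRel A Ω) u = Quotient.mk (orbitRel A Ω) v) →
      ∃ x : A, x • v = u := by
    intro u v huv
    have := Quotient.exact huv
    exact this
  refine ⟨Quotient.mk _ a, Quotient.mk _ b, Quotient.mk _ c, ?_, ?_, ?_⟩
  · intro he
    obtain ⟨x, hx⟩ := hmk _ _ he.symm
    have : (x : G) • a = a := x.2.2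
    exact hba (hx.symm.trans this)
  · intro he
    obtain ⟨x, hx⟩ := hmk _ _ he.symm
    have : (x : G) • a = a := x.2.2
    exact hca (hx.symm.trans this)
  · intro he
    obtain ⟨x, hx⟩ := hmk _ _ he.symm
    exact hcon ⟨x, x.2.1, x.2.2, hx⟩

/-- Counting the fixed point free elements of a transitive subgroup in which only the identity
fixes two points. -/
theorem Base.card_fpf (_hb : Base G Ω) [Fintype Ω] [DecidableEq Ω] [Nonempty Ω] (N : Subgroup G)
    [Fintype N] [DecidableEq N]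
    (htr : ∀ a b : Ω, ∃ x ∈ N, x • a = b)
    (hsemi : ∀ x ∈ N, ∀ a b : Ω, a ≠ b → x • a = a → x • b = b → x = 1) :
    (Finset.univ.filter (fun x : N => ∀ c : Ω, x • c ≠ c)).card = Fintype.card Ω - 1 := by
  classical
  have : Fintype (Quotient (orbitRel N Ω)) := Fintype.ofFinite _
  have burn := MulAction.sum_card_fixedBy_eq_card_orbits_mul_card_group N Ω
  have horb : Fintype.card (Quotient (orbitRel N Ω)) = 1 := by
    rw [Fintype.card_eq_one_iff]
    obtain ⟨a⟩ := ‹Nonempty Ω›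
    refine ⟨Quotient.mk _ a, ?_⟩
    intro q
    induction q using Quotient.inductionOn with | h b => ?_
    apply Quotient.sound
    obtain ⟨x, hx, hxa⟩ := htr a b
    exact ⟨⟨x, hx⟩, hxa⟩
  rw [horb, one_mul] at burn
  have hpt : ∀ x : N, Fintype.card (fixedBy Ω x) + (if ∀ c : Ω, x • c ≠ c then 1 else 0)
      = 1 + (if x = 1 then Fintype.card Ω - 1 else 0) := by
    intro x
    have hpos : 0 < Fintype.card Ω := Fintype.card_pos
    by_cases hx1 : x = 1
    · subst hx1
      have h1 : ¬ ∀ c : Ω, (1 : N) • c ≠ c := by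
        obtain ⟨a⟩ := ‹Nonempty Ω›
        intro h
        exact h a (one_smul _ _)
      have h2 : Fintype.card (fixedBy Ω (1 : N)) = Fintype.card Ω := by
        apply Fintype.card_of_subtype Finset.univ
        intro c
        simp
      rw [if_neg h1, if_pos rfl, h2]
      omega
    · rw [if_neg hx1]
      by_cases hf : ∀ c : Ω, x • c ≠ c
      · rw [if_pos hf]
        have : Fintype.card (fixedBy Ω x) = 0 := by
          rw [Fintype.card_eq_zero_iff]
          exact ⟨fun c => hf c.1 c.2⟩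
        omega
      · rw [if_neg hf]
        push Not at hf
        obtain ⟨c, hc⟩ := hf
        have : Fintype.card (fixedBy Ω x) = 1 := by
          rw [Fintype.card_eq_one_iff]
          refine ⟨⟨c, hc⟩, ?_⟩
          rintro ⟨d, hd⟩
          apply Subtype.ext
          by_contra hne
          apply hx1
          apply Subtype.ext
          exact hsemi x x.2 d c hne hd hc
        omega
  have hsum := Finset.sum_congr (rfl : (Finset.univ : Finset N) = Finset.univ) (fun x _ => hpt x)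
  rw [Finset.sum_add_distrib, Finset.sum_add_distrib, burn] at hsum
  simp only [Finset.sum_boole, Finset.sum_const, Finset.card_univ, smul_eq_mul, mul_one,
    Finset.sum_ite_eq', Finset.mem_univ, if_true, Nat.cast_id] at hsum
  omega

/-- If `N` is normal and transitive and only the identity of `N` fixes two points, then `G` has a
regular normal subgroup. -/
theorem Base.exists_regular (hb : Base G Ω) [Finite Ω] (N : Subgroup G) [hN : N.Normal]
    (hne : ∃ a b : Ω, a ≠ b)
    (htr : ∀ a b : Ω, ∃ x ∈ N, x • a = b)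
    (hsemi : ∀ x ∈ N, ∀ a b : Ω, a ≠ b → x • a = a → x • b = b → x = 1) :
    ∃ K : Subgroup G, K.Normal ∧ (∀ a b : Ω, ∃ x ∈ K, x • a = b) ∧
      (∀ x ∈ K, ∀ a : Ω, x • a = a → x = 1) := by
  classical
  have := hb.finite
  have := Fintype.ofFinite Ω
  have : Fintype N := Fintype.ofFinite N
  obtain ⟨a₀, b₀, hab₀⟩ := hne
  have : Nonempty Ω := ⟨a₀⟩
  have hcard := hb.card_fpf N htr hsemi
  have hn2 : 2 ≤ Fintype.card Ω := by
    have : 1 < Fintype.card Ω := Fintype.one_lt_card_iff.2 ⟨a₀, b₀, hab₀⟩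
    omega
  set X := Finset.univ.filter (fun x : N => ∀ c : Ω, x • c ≠ c) with hX
  have hXne : X.Nonempty := Finset.card_pos.1 (by omega)
  obtain ⟨x₀, hx₀⟩ := hXne
  have hx₀f : ∀ c : Ω, (x₀ : G) • c ≠ c := (Finset.mem_filter.1 hx₀).2
  -- existence
  have P1e : ∀ c d : Ω, c ≠ d → ∃ x ∈ N, (∀ e : Ω, x • e ≠ e) ∧ x • c = d := by
    intro c d hcd
    obtain ⟨g, hgc, hgd⟩ := hb.two (Ne.symm (hx₀f c)) hcd
    refine ⟨g * x₀ * g⁻¹, hN.conj_mem _ x₀.2 g, ?_, ?_⟩
    · intro e he
      apply hx₀f (g⁻¹ • e)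
      rw [mul_smul, mul_smul] at he
      rw [eq_inv_smul_iff, he]
    · rw [mul_smul, mul_smul]
      have : g⁻¹ • c = c := by rw [inv_smul_eq_iff, hgc]
      rw [this, hgd]
  -- uniqueness
  have P1u : ∀ c : Ω, ∀ x ∈ N, ∀ y ∈ N, (∀ e : Ω, x • e ≠ e) → (∀ e : Ω, y • e ≠ e) →
      x • c = y • c → x = y := by
    intro c
    let F : X → {d : Ω // d ≠ c} := fun x => ⟨(x : N) • c, (Finset.mem_filter.1 x.2).2 c⟩
    have hsurj : Function.Surjective F := by
      rintro ⟨d, hd⟩
      obtain ⟨x, hxN, hxf, hxc⟩ := P1e c d (Ne.symm hd)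
      exact ⟨⟨⟨x, hxN⟩, Finset.mem_filter.2 ⟨Finset.mem_univ _, hxf⟩⟩, Subtype.ext hxc⟩
    have hc1 : Fintype.card X = Fintype.card {d : Ω // d ≠ c} := by
      rw [Fintype.card_coe, hcard, Fintype.card_subtype, Finset.filter_ne' Finset.univ c,
        Finset.card_erase_of_mem (Finset.mem_univ _), Finset.card_univ]
    have hbij := (Fintype.bijective_iff_surjective_and_card F).2 ⟨hsurj, hc1⟩
    intro x hx y hy hxf hyf hxy
    have := hbij.1 (a₁ := ⟨⟨x, hx⟩, Finset.mem_filter.2 ⟨Finset.mem_univ _, hxf⟩⟩)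
      (a₂ := ⟨⟨y, hy⟩, Finset.mem_filter.2 ⟨Finset.mem_univ _, hyf⟩⟩) (Subtype.ext hxy)
    exact congrArg (fun z : X => ((z : N) : G)) this
  have hinv : ∀ x : G, (∀ e : Ω, x • e ≠ e) → ∀ e : Ω, x⁻¹ • e ≠ e := by
    intro x hx e he
    apply hx e
    rw [inv_smul_eq_iff] at he
    exact he.symm
  let K : Subgroup G :=
    { carrier := {x | x ∈ N ∧ (x = 1 ∨ ∀ c : Ω, x • c ≠ c)}
      one_mem' := ⟨N.one_mem, Or.inl rfl⟩
      inv_mem' := by
        rintro x ⟨hxN, hx⟩
        refine ⟨N.inv_mem hxN, ?_⟩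
        rcases hx with rfl | hx
        · left; simp
        · right; exact hinv x hx
      mul_mem' := by
        rintro x y ⟨hxN, hx⟩ ⟨hyN, hy⟩
        refine ⟨N.mul_mem hxN hyN, ?_⟩
        rcases hx with rfl | hx
        · simpa using hy
        rcases hy with rfl | hy
        · right; simpa using hx
        by_cases hf : ∀ c : Ω, (x * y) • c ≠ c
        · right; exact hf
        · left
          push Not at hf
          obtain ⟨c, hc⟩ := hf
          rw [mul_smul] at hc
          have h1 : y • c = x⁻¹ • c := by rw [eq_inv_smul_iff, hc]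
          have := P1u c y hyN x⁻¹ (N.inv_mem hxN) hy (hinv x hx) h1
          rw [this, mul_inv_cancel] }
  refine ⟨K, ⟨?_⟩, ?_, ?_⟩
  · rintro x ⟨hxN, hx⟩ g
    refine ⟨hN.conj_mem x hxN g, ?_⟩
    rcases hx with rfl | hx
    · left; simp
    · right
      intro e he
      apply hx (g⁻¹ • e)
      rw [mul_smul, mul_smul] at he
      rw [eq_inv_smul_iff, he]
  · intro a b
    by_cases hab : a = b
    · exact ⟨1, K.one_mem, by simp [hab]⟩
    · obtain ⟨x, hxN, hxf, hxa⟩ := P1e a b hab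
      exact ⟨x, ⟨hxN, Or.inr hxf⟩, hxa⟩
  · rintro x ⟨_, hx⟩ a hxa
    rcases hx with rfl | hx
    · rfl
    · exact absurd hxa (hx a)

theorem base_of_zassenhaus (hZ : Cfsg.IsZassenhausGroup G Ω) : Base G Ω where
  faithful g hg := by
    have := hZ.1
    apply eq_of_smul_eq_smul (α := Ω)
    intro a
    rw [hg a, one_smul]
  two := MulAction.is_two_pretransitive_iff.1 hZ.2.1
  three := hZ.2.2.1

theorem no_regular (hZ : Cfsg.IsZassenhausGroup G Ω) (K : Subgroup G) (hK : K.Normal)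
    (htr : ∀ a b : Ω, ∃ x ∈ K, x • a = b) (hs : ∀ x ∈ K, ∀ a : Ω, x • a = a → x = 1) : False := by
  have hpre : IsPretransitive K Ω :=
    ⟨fun a b => by obtain ⟨x, hx, h⟩ := htr a b; exact ⟨⟨x, hx⟩, h⟩⟩
  obtain ⟨a, ha⟩ := hZ.2.2.2.2 K hK hpre
  obtain ⟨⟨x, hx⟩, hx1⟩ := Subgroup.ne_bot_iff_exists_ne_one.1 ha
  apply hx1
  apply Subtype.ext
  apply Subtype.ext
  exact hs x x.2 a hx

/-- A non-trivial normal subgroup of a Zassenhaus group has non-trivial two point stabilisers and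
is doubly transitive. -/
theorem normal_props (hZ : Cfsg.IsZassenhausGroup G Ω) [Finite Ω] (N : Subgroup G) [hN : N.Normal]
    (hne : N ≠ ⊥) :
    (∀ a b : Ω, a ≠ b → ∃ x ∈ N, x ≠ 1 ∧ x • a = a ∧ x • b = b) ∧
    (∀ {a b c d : Ω}, a ≠ b → c ≠ d → ∃ x ∈ N, x • a = c ∧ x • b = d) := by
  have hb := base_of_zassenhaus hZ
  obtain ⟨g₀, hg₀, a₀, b₀, hab₀, -, -⟩ := hZ.2.2.2.1
  have htr : ∀ c d : Ω, ∃ x ∈ N, x • c = d := by
    intro c d
    by_cases hcd : c = d
    · exact ⟨1, N.one_mem, by simp [hcd]⟩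
    · obtain ⟨⟨x, hxN⟩, hx1'⟩ := Subgroup.ne_bot_iff_exists_ne_one.1 hne
      have hx1 : x ≠ 1 := fun h => hx1' (Subtype.ext h)
      have : ∃ a : Ω, x • a ≠ a := by
        by_contra hcon
        push Not at hcon
        exact hx1 (hb.faithful x hcon)
      obtain ⟨a, ha⟩ := this
      obtain ⟨g, hga, hgx⟩ := hb.two (Ne.symm ha) hcd
      refine ⟨g * x * g⁻¹, hN.conj_mem x hxN g, ?_⟩
      rw [mul_smul, mul_smul]
      have : g⁻¹ • c = a := by rw [inv_smul_eq_iff, hga]
      rw [this, hgx]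
  have hex : ∃ a b : Ω, a ≠ b ∧ ∃ x ∈ N, x ≠ 1 ∧ x • a = a ∧ x • b = b := by
    by_contra hcon
    push Not at hcon
    obtain ⟨K, hK, hKtr, hKs⟩ := hb.exists_regular N ⟨a₀, b₀, hab₀⟩ htr (by
      intro x hx a b hab hxa hxb
      by_contra hx1
      exact hcon a b hab x hx hx1 hxa hxb)
    exact no_regular hZ K hK hKtr hKs
  obtain ⟨a₁, b₁, hab₁, x₁, hx₁N, hx₁, hx₁a, hx₁b⟩ := hex
  have hstab : ∀ a b : Ω, a ≠ b → ∃ x ∈ N, x ≠ 1 ∧ x • a = a ∧ x • b = b := by
    intro a b hab
    obtain ⟨g, hga, hgb⟩ := hb.two hab₁ hab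
    refine ⟨g * x₁ * g⁻¹, hN.conj_mem x₁ hx₁N g, ?_, ?_, ?_⟩
    · intro h
      apply hx₁
      have : x₁ = g⁻¹ * (g * x₁ * g⁻¹) * g := by group
      rw [this, h]; group
    · rw [mul_smul, mul_smul]
      have : g⁻¹ • a = a₁ := by rw [inv_smul_eq_iff, hga]
      rw [this, hx₁a, hga]
    · rw [mul_smul, mul_smul]
      have : g⁻¹ • b = b₁ := by rw [inv_smul_eq_iff, hgb]
      rw [this, hx₁b, hgb]
  refine ⟨hstab, ?_⟩
  intro a b c d hab hcd
  obtain ⟨x, hxN, hxa⟩ := htr a c
  have hxb : x • b ≠ c := by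
    intro h
    apply hab
    rw [← hxa] at h
    exact (smul_left_cancel x h).symm
  obtain ⟨y, hyN, hyc, hyd⟩ := hb.trans_of_stab N c (fun e he => hstab c e (Ne.symm he)) (x • b) d
    hxb (Ne.symm hcd)
  exact ⟨y * x, N.mul_mem hyN hxN, by rw [mul_smul, hxa, hyc], by rw [mul_smul, hyd]⟩

/-- a semiregular subgroup normalised by `N` (with non-trivial two point stabilisers) has
exponent two. -/
theorem Base.regular_sq (hb : Base G Ω) (N M : Subgroup G)
    (hstab : ∀ a b : Ω, a ≠ b → ∃ x ∈ N, x ≠ 1 ∧ x • a = a ∧ x • b = b)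
    (hMnorm : ∀ x ∈ N, ∀ m ∈ M, x * m * x⁻¹ ∈ M)
    (hMs : ∀ m ∈ M, ∀ a : Ω, m • a = a → m = 1) : ∀ m ∈ M, m * m = 1 := by
  intro m hm
  by_cases hm1 : m = 1
  · simp [hm1]
  have : ∃ a : Ω, m • a ≠ a := by
    by_contra hcon
    push Not at hcon
    exact hm1 (hb.faithful m hcon)
  obtain ⟨a, ha⟩ := this
  obtain ⟨h, hhN, hh1, hha, hhb⟩ := hstab a (m • a) (Ne.symm ha)
  have hcomm : h * m * h⁻¹ = m := by
    have h1 : m⁻¹ * (h * m * h⁻¹) = 1 := by
      apply hMs _ (M.mul_mem (M.inv_mem hm) (hMnorm h hhN m hm)) a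
      rw [mul_smul, mul_smul, mul_smul]
      have : h⁻¹ • a = a := by rw [inv_smul_eq_iff, hha]
      rw [this, hhb, inv_smul_smul]
    exact (eq_of_inv_mul_eq_one h1).symm
  have hcomm' : h * m = m * h := by
    have := congrArg (· * h) hcomm
    simpa using this
  have hfix : h • (m • (m • a)) = m • (m • a) := by
    rw [← mul_smul, hcomm', mul_smul, hhb]
  apply hMs _ (M.mul_mem hm hm) a
  rw [mul_smul]
  by_contra hne
  apply hh1
  refine hb.three h a (m • a) (m • (m • a)) (Ne.symm ha) ?_ (Ne.symm hne) hha hhb hfix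
  intro h'
  exact ha (smul_left_cancel m h'.symm)

/-- uniqueness of the regular normal subgroup -/
theorem Base.regular_unique (hb : Base G Ω) (N M M' : Subgroup G)
    (hstab : ∀ a b : Ω, a ≠ b → ∃ x ∈ N, x ≠ 1 ∧ x • a = a ∧ x • b = b)
    (h2N : ∀ {a b c d : Ω}, a ≠ b → c ≠ d → ∃ x ∈ N, x • a = c ∧ x • b = d)
    (hMN : M ≤ N) (hM'N : M' ≤ N)
    (hMnorm : ∀ x ∈ N, ∀ m ∈ M, x * m * x⁻¹ ∈ M) (hM'norm : ∀ x ∈ N, ∀ m ∈ M', x * m * x⁻¹ ∈ M')
    (hMtr : ∀ a b : Ω, ∃ m ∈ M, m • a = b) (hMs : ∀ m ∈ M, ∀ a : Ω, m • a = a → m = 1)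
    (hM's : ∀ m ∈ M', ∀ a : Ω, m • a = a → m = 1) : M' ≤ M := by
  intro m' hm'
  by_cases hm1 : m' = 1
  · rw [hm1]; exact M.one_mem
  have : ∃ a : Ω, m' • a ≠ a := by
    by_contra hcon
    push Not at hcon
    exact hm1 (hb.faithful m' hcon)
  obtain ⟨a, ha⟩ := this
  by_cases hz : ∃ z, z ∈ M ∧ z ∈ M' ∧ z ≠ 1
  · obtain ⟨z, hzM, hzM', hz1⟩ := hz
    have hza : z • a ≠ a := fun h => hz1 (hMs z hzM a h)
    obtain ⟨h, hhN, hha, hhz⟩ := h2N (Ne.symm hza) (Ne.symm ha)
    have h1 : m'⁻¹ * (h * z * h⁻¹) = 1 := by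
      apply hM's _ (M'.mul_mem (M'.inv_mem hm') (hM'norm h hhN z hzM')) a
      rw [mul_smul, mul_smul, mul_smul]
      have : h⁻¹ • a = a := by rw [inv_smul_eq_iff, hha]
      rw [this, hhz, inv_smul_smul]
    rw [eq_of_inv_mul_eq_one h1]
    exact hMnorm h hhN z hzM
  · push Not at hz
    have hsq := hb.regular_sq N M hstab hMnorm hMs
    have hab : ∀ x ∈ M, ∀ y ∈ M, x * y = y * x := by
      intro x hx y hy
      have h1 := hsq (x * y) (M.mul_mem hx hy)
      have hx2 := hsq x hx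
      have hy2 := hsq y hy
      calc x * y = x * y * (y * x * (y * x)⁻¹) := by group
        _ = x * (y * y) * x * (y * x)⁻¹ := by group
        _ = (y * x)⁻¹ := by rw [hy2, mul_one, hx2, one_mul]
        _ = (y * x)⁻¹ * ((y * x) * (y * x)) := by rw [hsq _ (M.mul_mem hy hx), mul_one]
        _ = y * x := by group
    have hcomm : ∀ m₁ ∈ M, m₁ * m' = m' * m₁ := by
      intro m₁ hm₁
      have h1 : m₁ * m' * m₁⁻¹ * m'⁻¹ = 1 := by
        apply hz
        · have := hMnorm m' (hM'N hm') m₁⁻¹ (M.inv_mem hm₁)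
          have h2 := M.mul_mem hm₁ this
          simpa [mul_assoc] using h2
        · exact M'.mul_mem (hM'norm m₁ (hMN hm₁) m' hm') (M'.inv_mem hm')
      have := congrArg (· * (m' * m₁)) h1
      simpa [mul_assoc] using this
    obtain ⟨m, hm, hma⟩ := hMtr a (m' • a)
    have : m⁻¹ * m' = 1 := by
      apply hb.faithful
      intro c
      obtain ⟨m₁, hm₁, rfl⟩ := hMtr a c
      rw [mul_smul, inv_smul_eq_iff, ← mul_smul, ← hcomm m₁ hm₁, mul_smul, ← hma, ← mul_smul,
        ← mul_smul, hab m₁ hm₁ m hm]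
    rw [← eq_of_inv_mul_eq_one this]
    exact hm

end Cfsg.Agent.Lib.Helper6.Zas
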