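import Cfsg.Agent.Lib.Helper6.Zas6

set_option autoImplicit false
set_option linter.unusedSectionVars false

/-! # Zassenhaus groups with two point stabilisers of odd order: counting classes through pairs of
involutions -/

namespace Cfsg.Agent.Lib.Helper6.Zas

open MulAction Finset

section pairs

variable {G : Type*} [Group G] [Fintype G] [DecidableEq G]

theorem card_invol_pairs_le (g : G) (P : Finset (G × G))
    (hP : ∀ p ∈ P, p.1 * p.1 = 1 ∧ p.2 * p.2 = 1) :
    (P.filter (fun p => p.1 * p.2 = g)).card ≤ (univ.filter (fun x : G => x * g = g * x)).card := by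
  rcases (P.filter (fun p => p.1 * p.2 = g)).eq_empty_or_nonempty with hemp | ⟨p₀, hp₀⟩
  · rw [hemp]; simp
  rw [mem_filter] at hp₀
  obtain ⟨hs₀, ht₀⟩ := hP p₀ hp₀.1
  apply Finset.card_le_card_of_injOn (fun p => p₀.1 * p.1)
  · intro p hp
    rw [coe_filter, Set.mem_ofPred_eq] at hp
    obtain ⟨hs, ht⟩ := hP p hp.1
    simp only [coe_filter, mem_univ, true_and, Set.mem_ofPred_eq]
    have is : p.1⁻¹ = p.1 := (eq_inv_of_mul_eq_one_right hs).symm
    have it : p.2⁻¹ = p.2 := (eq_inv_of_mul_eq_one_right ht).symm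
    have is₀ : p₀.1⁻¹ = p₀.1 := (eq_inv_of_mul_eq_one_right hs₀).symm
    have it₀ : p₀.2⁻¹ = p₀.2 := (eq_inv_of_mul_eq_one_right ht₀).symm
    have h1 : p.1 * g = p.2 := by rw [← hp.2, ← mul_assoc, hs, one_mul]
    have h2 : p.2 = p.1 * (p₀.1 * p₀.2) := by
      rw [hp₀.2, ← hp.2, ← mul_assoc, hs, one_mul]
    have h3 : p.2 = p₀.2 * p₀.1 * p.1 := by
      rw [← it, h2, mul_inv_rev, mul_inv_rev, is, is₀, it₀]
    have h4 : g * (p₀.1 * p.1) = p₀.1 * p.2 := by
      rw [h3, ← hp₀.2]
      group
    rw [mul_assoc, h1, h4]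
  · intro p hp p' hp' hpp
    rw [coe_filter, Set.mem_ofPred_eq] at hp hp'
    have h1 : p.1 = p'.1 := mul_left_cancel hpp
    have h2 : p.2 = p'.2 := by
      have := hp.2.trans hp'.2.symm
      rw [h1] at this
      exact mul_left_cancel this
    exact Prod.ext h1 h2

theorem card_invol_pairs_add_two_le (g : G) (hg1 : g ≠ 1) (hg2 : g * g = 1) (P : Finset (G × G))
    (hP : ∀ p ∈ P, (p.1 ≠ 1 ∧ p.1 * p.1 = 1) ∧ (p.2 ≠ 1 ∧ p.2 * p.2 = 1)) :
    (P.filter (fun p => p.1 * p.2 = g)).card + 2
      ≤ (univ.filter (fun x : G => x * g = g * x)).card := by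
  set C := univ.filter (fun x : G => x * g = g * x) with hC
  have h1C : (1 : G) ∈ C := by simp [hC]
  have hgC : g ∈ C.erase 1 := by simp [hC, hg1]
  have hcard : ((C.erase 1).erase g).card + 2 = C.card := by
    rw [card_erase_of_mem hgC, card_erase_of_mem h1C]
    have h2 : 0 < (C.erase 1).card := card_pos.2 ⟨g, hgC⟩
    rw [card_erase_of_mem h1C] at h2
    omega
  rw [← hcard]
  apply Nat.add_le_add_right
  apply Finset.card_le_card_of_injOn (fun p => p.1)
  · intro p hp
    rw [coe_filter, Set.mem_ofPred_eq] at hp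
    obtain ⟨⟨hs1, hs⟩, ⟨ht1, ht⟩⟩ := hP p hp.1
    have is : p.1⁻¹ = p.1 := (eq_inv_of_mul_eq_one_right hs).symm
    have it : p.2⁻¹ = p.2 := (eq_inv_of_mul_eq_one_right ht).symm
    have ig : g⁻¹ = g := (eq_inv_of_mul_eq_one_right hg2).symm
    rw [mem_coe, mem_erase, mem_erase, hC, mem_filter]
    refine ⟨?_, hs1, mem_univ _, ?_⟩
    · intro h
      apply ht1
      have h' : p.1 = g := h
      have := hp.2
      rw [h'] at this
      exact mul_eq_left.1 this
    · have h1 : p.1 * g = p.2 := by rw [← hp.2, ← mul_assoc, hs, one_mul]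
      have h2 : g * p.1 = p.2 := by
        rw [← ig, ← hp.2, mul_inv_rev, is, it, mul_assoc, hs, mul_one]
      rw [h1, h2]
  · intro p hp p' hp' hpp
    rw [coe_filter, Set.mem_ofPred_eq] at hp hp'
    have h1 : p.1 = p'.1 := hpp
    have h2 : p.2 = p'.2 := by
      have := hp.2.trans hp'.2.symm
      rw [h1] at this
      exact mul_left_cancel this
    exact Prod.ext h1 h2

theorem card_filter_product' {α : Type*} [DecidableEq α] (A B : Finset α) (q : α × α → Prop)
    [DecidablePred q] :
    ((A ×ˢ B).filter q).card = ∑ x ∈ A, (B.filter (fun y => q (x, y))).card := by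
  rw [card_filter, sum_product]
  apply sum_congr rfl
  intro x _
  rw [card_filter]

end pairs

variable {G Ω : Type*} [Group G] [MulAction G Ω]

/-- At least `e` conjugacy classes consist of non-identity elements which do not have exactly one
fixed point. -/
theorem Base.le_card_classes (hb : Base G Ω) [Finite G] [Fintype Ω] {a b : Ω} (hab : a ≠ b)
    {e h : ℕ} (he : Nat.card ↥(stabilizer G a ⊓ stabilizer G b) = e)
    (hh : Fintype.card Ω = h + 1) (hodd : Odd e) (hlt : 2 * e < h - 1)
    (hsw : ∀ c d : Ω, c ≠ d → ∀ s : G, s • c = d → s • d = c → s * s = 1) :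
    e ≤ Nat.card {C : ConjClasses G // ∀ g, ConjClasses.mk g = C →
      (g ≠ 1 ∧ ∀ c : Ω, g • c = c → ∃ d, d ≠ c ∧ g • d = d)} := by
  classical
  have : Fintype G := Fintype.ofFinite G
  have hodd' : Odd (Nat.card ↥(stabilizer G a ⊓ stabilizer G b)) := by rw [he]; exact hodd
  set good : G → Prop := fun g => g ≠ 1 ∧ ∀ c : Ω, g • c = c → ∃ d, d ≠ c ∧ g • d = d with hgood
  have hconj : ∀ g x, good g → good (x * g * x⁻¹) := by
    rintro g x ⟨hg1, hg⟩
    refine ⟨?_, ?_⟩
    · intro h
      exact hg1 (conj_eq_one_iff.1 h)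
    · intro c hc
      have h1 : g • (x⁻¹ • c) = x⁻¹ • c := by
        rw [mul_smul, mul_smul] at hc
        rw [eq_inv_smul_iff]; exact hc
      obtain ⟨d, hd, hgd⟩ := hg _ h1
      refine ⟨x • d, ?_, ?_⟩
      · intro h; apply hd; rw [← h, inv_smul_smul]
      · rw [mul_smul, mul_smul, inv_smul_smul, hgd]
  have hsum := ClassCount.sum_card_commute good hconj
  have hG := hb.card_group hab he hh
  rw [hG] at hsum
  generalize Nat.card {C : ConjClasses G // ∀ g, ConjClasses.mk g = C → good g} = k at hsum ⊢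
  set Inv := univ.filter (fun t : G => t ≠ 1 ∧ t * t = 1) with hInv
  have memInv : ∀ t, t ∈ Inv ↔ (t ≠ 1 ∧ t * t = 1) := by
    intro t; simp [hInv]
  set P := (Inv ×ˢ Inv).filter (fun p => p.1 ≠ p.2 ∧ ∀ c : Ω, p.1 • c = c → p.2 • c ≠ c) with hP
  have memP : ∀ p, p ∈ P ↔ ((p.1 ≠ 1 ∧ p.1 * p.1 = 1) ∧ (p.2 ≠ 1 ∧ p.2 * p.2 = 1)) ∧
      (p.1 ≠ p.2 ∧ ∀ c : Ω, p.1 • c = c → p.2 • c ≠ c) := by
    intro p
    rw [hP, mem_filter, mem_product, memInv, memInv]
  have hPgood : ∀ p ∈ P, p.1 * p.2 ∈ univ.filter good := by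
    rintro ⟨s, t⟩ hp
    rw [memP] at hp
    obtain ⟨⟨⟨hs1, hs2⟩, ⟨ht1, ht2⟩⟩, hst, hfix⟩ := hp
    simp only at hs1 hs2 ht1 ht2 hst hfix
    have is : s⁻¹ = s := (eq_inv_of_mul_eq_one_right hs2).symm
    rw [mem_filter]
    refine ⟨mem_univ _, ?_, ?_⟩
    · intro h
      apply hst
      rw [← is]
      exact (eq_inv_of_mul_eq_one_right h).symm ▸ rfl
    · intro c hc
      by_contra hcon
      push Not at hcon
      have h1 : t • c = s • c := by
        rw [mul_smul] at hc
        rw [← is, eq_inv_smul_iff, hc]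
      have h2 : (s * t) • (s • c) = s • c := by
        rw [mul_smul, ← h1, ← mul_smul t, ht2, one_smul, h1]
      have h3 : s • c = c := by
        by_contra h
        exact hcon _ h h2
      exact hfix c h3 (h1.trans h3)
  have hPcard := Finset.card_eq_sum_card_fiberwise (s := P) (t := univ.filter good)
    (f := fun p : G × G => p.1 * p.2) (by intro p hp; exact hPgood p hp)
  have hPcount : P.card
      = ∑ s ∈ Inv, (Inv.filter (fun t => s ≠ t ∧ ∀ c : Ω, s • c = c → t • c ≠ c)).card := by
    rw [hP, card_filter_product']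
  have hle : ∀ g, (P.filter (fun p => p.1 * p.2 = g)).card
      ≤ (univ.filter (fun x : G => x * g = g * x)).card := by
    intro g
    apply card_invol_pairs_le
    intro p hp
    rw [memP] at hp
    exact ⟨hp.1.1.2, hp.1.2.2⟩
  have hepos : 0 < e := hodd.pos
  have hhpos : 0 < h := by omega
  rcases Nat.even_or_odd h with hpar | hpar
  · -- odd degree
    have hn : Odd (Fintype.card Ω) := by rw [hh]; exact hpar.add_one
    have hfix : ∀ t : G, t ≠ 1 → t * t = 1 →
        ∃ c : Ω, t • c = c ∧ ∀ d : Ω, t • d = d → d = c := by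
      intro t ht1 ht2
      obtain ⟨c, hc⟩ := hb.invol_exists_fix hn t ht1 ht2
      exact ⟨c, hc, fun d hd => hb.invol_fix_unique hab hodd' t ht1 ht2 hd hc⟩
    have hI := (hb.card_invol_of_fix hab he hh hsw hfix).1
    rw [← hInv] at hI
    have h1 : P.card = (h + 1) * e * (h * e) := by
      rw [hPcount, Finset.sum_congr rfl (g := fun _ => h * e), Finset.sum_const, hI,
        smul_eq_mul]
      intro s hs
      rw [memInv] at hs
      obtain ⟨c, hc, hc'⟩ := hfix s hs.1 hs.2
      rw [← hb.card_invol_move hab he hh hsw c, hInv, filter_filter]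
      congr 1
      ext t
      simp only [mem_filter, mem_univ, true_and]
      constructor
      · rintro ⟨h1, -, h2⟩
        exact ⟨h1, h2 c hc⟩
      · rintro ⟨h1, h2⟩
        refine ⟨h1, ?_, ?_⟩
        · rintro rfl
          exact h2 hc
        · intro d hd
          rw [hc' d hd]
          exact h2
    have h2 : P.card ≤ k * ((h + 1) * h * e) := by
      rw [← hsum, hPcard]
      exact Finset.sum_le_sum (fun g _ => hle g)
    rw [h1] at h2
    have h3 : 0 < (h + 1) * h * e := by positivity
    apply Nat.le_of_mul_le_mul_right _ h3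
    calc e * ((h + 1) * h * e) = (h + 1) * e * (h * e) := by ring
      _ ≤ k * ((h + 1) * h * e) := h2
  · -- even degree
    have hn : Even (Fintype.card Ω) := by rw [hh]; exact hpar.add_one
    have hfpf := hb.invol_fpf hab hodd' hn
    have hI := hb.card_invol_of_fpf hab he hh hsw hfpf
    rw [← hInv] at hI
    have h1 : P.card + h * e = h * e * (h * e) := by
      rw [hPcount, Finset.sum_congr rfl (g := fun _ => h * e - 1), Finset.sum_const, hI,
        smul_eq_mul, Nat.mul_sub, mul_one]
      · have : h * e ≤ h * e * (h * e) := Nat.le_mul_of_pos_right _ (by positivity)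
        omega
      intro s hs
      rw [← hI, ← card_erase_of_mem hs]
      congr 1
      ext t
      rw [mem_filter, mem_erase]
      constructor
      · rintro ⟨h1, h2, -⟩
        exact ⟨h2.symm, h1⟩
      · rintro ⟨h1, h2⟩
        rw [memInv] at h2
        exact ⟨(memInv t).2 h2, h1.symm, fun c _ => hfpf t h2.1 h2.2 c⟩
    have hsub : Inv ⊆ univ.filter good := by
      intro t ht
      rw [memInv] at ht
      rw [mem_filter]
      exact ⟨mem_univ _, ht.1, fun c hc => absurd hc (hfpf t ht.1 ht.2 c)⟩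
    have h2 : P.card + 2 * (h * e) ≤ k * ((h + 1) * h * e) := by
      rw [← hsum, hPcard]
      have h3 : 2 * (h * e) = ∑ g ∈ univ.filter good, (if g ∈ Inv then 2 else 0) := by
        rw [Finset.sum_ite_mem, Finset.inter_eq_right.2 hsub, Finset.sum_const, hI, smul_eq_mul,
          mul_comm]
      rw [h3, ← Finset.sum_add_distrib]
      apply Finset.sum_le_sum
      intro g _
      split_ifs with hg
      · rw [memInv] at hg
        apply card_invol_pairs_add_two_le g hg.1 hg.2
        intro p hp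
        rw [memP] at hp
        exact hp.1
      · exact hle g
    have h3 : h * e * (h * e + 1) ≤ h * e * (k * (h + 1)) := by
      calc h * e * (h * e + 1) = (P.card + h * e) + h * e := by rw [h1]; ring
        _ = P.card + 2 * (h * e) := by ring
        _ ≤ k * ((h + 1) * h * e) := h2
        _ = h * e * (k * (h + 1)) := by ring
    have h4 : h * e + 1 ≤ k * (h + 1) := Nat.le_of_mul_le_mul_left h3 (by positivity)
    by_contra hcon
    push Not at hcon
    have h5 : (k + 1) * (h + 1) ≤ e * (h + 1) := Nat.mul_le_mul_right _ hcon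
    have h6 : 2 * e + 1 < h := by omega
    nlinarith [h4, h5, h6]

end Cfsg.Agent.Lib.Helper6.Zas
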