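import Cfsg.Agent.Lib.Helper6.ZasFeit
import Cfsg.Agent.S0884
import Cfsg.Agent.S0339
import Cfsg.Agent.S1524

set_option autoImplicit false
set_option linter.unusedSectionVars false

/-! # Feit's theorem on Zassenhaus groups with two point stabilisers of odd order -/

namespace Cfsg.Agent.Lib.Helper6.Zas

open MulAction
open scoped Pointwise

theorem commutator_subgroupOf_self {L : Type*} [Group L] (K : Subgroup L) :
    (⁅K, K⁆ : Subgroup L).subgroupOf K = commutator K := by
  apply Subgroup.map_injective K.subtype_injective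
  have hle : (⁅K, K⁆ : Subgroup L) ≤ K := by
    rw [Subgroup.commutator_le]
    intro x hx y hy
    exact K.mul_mem (K.mul_mem (K.mul_mem hx hy) (K.inv_mem hx)) (K.inv_mem hy)
  rw [Subgroup.map_subgroupOf_eq_of_le hle, commutator_def,
    Subgroup.map_commutator, ← MonoidHom.range_eq_map, Subgroup.range_subtype]

theorem index_commutator_congr {K L : Type*} [Group K] [Group L] (φ : K ≃* L) :
    (commutator K).index = (commutator L).index := by
  exact Nat.card_congr (MulEquiv.abelianizationCongr φ).toEquiv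

/-- the conclusion of Feit's theorem is invariant under isomorphism -/
theorem concl_congr {K L : Type*} [Group K] [Group L] (φ : K ≃* L) {n : ℕ}
    (h : IsPGroup 2 K ∧ (∃ u v : K, u * v ≠ v * u) ∧ (commutator K).index ≤ n) :
    IsPGroup 2 L ∧ (∃ u v : L, u * v ≠ v * u) ∧ (commutator L).index ≤ n := by
  obtain ⟨h1, ⟨u, v, huv⟩, h3⟩ := h
  refine ⟨h1.of_equiv φ, ⟨φ u, φ v, ?_⟩, (index_commutator_congr φ) ▸ h3⟩
  intro h
  rw [← map_mul, ← map_mul] at h
  exact huv (φ.injective h)

variable {G Ω : Type*} [Group G] [MulAction G Ω]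

theorem feit_simple (hZ : Cfsg.IsZassenhausGroup G Ω) [Finite G] [Fintype Ω] [IsSimpleGroup G]
    {a b : Ω} (hab : a ≠ b) (h e : ℕ) (hh : Fintype.card Ω = h + 1)
    (he : Nat.card ↥(stabilizer G a ⊓ stabilizer G b : Subgroup G) = e) (hodd : Odd e)
    (H : Subgroup G) (hHa : H ≤ stabilizer G a) (hHcard : Nat.card H + 1 = Fintype.card Ω)
    (hHfix : ∀ u ∈ H, u ≠ 1 → ∀ c : Ω, u • c = c → c = a) :
    h - 1 ≤ 2 * e ∨ (IsPGroup 2 H ∧ (∃ u v : H, u * v ≠ v * u) ∧
      (commutator H).index ≤ 4 * e ^ 2 + 1) := by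
  classical
  have hb := base_of_zassenhaus hZ
  have : Fintype G := Fintype.ofFinite G
  have hreg := kernel_regular H hHa hHcard hHfix
  by_cases hd : h - 1 ≤ 2 * e
  · exact Or.inl hd
  right
  have hlt : 2 * e < h - 1 := by omega
  have hs := kernel_setup hb hab H hHa hHcard hHfix
  have hcl := Cfsg.Agent.S0884.result hZ hab h e hh he hodd hlt H hHa hHcard hHfix
  have he2 : 2 ≤ e := he ▸ one_lt_card_stab2 hZ hab
  have : Fintype (stabilizer G a) := Fintype.ofFinite _
  have hcH : Nat.card H = h := by omega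
  have hcA : Nat.card (stabilizer G a) = h * e := by
    rw [← hb.card_stab1 hab he hh a, Nat.card_eq_fintype_card, Fintype.card_subtype]
    rfl
  have hcG : Nat.card G = (h + 1) * h * e := by
    rw [Nat.card_eq_fintype_card]; exact hb.card_group hab he hh
  have hcH' : Nat.card (H.subgroupOf (stabilizer G a)) = h := by
    rw [Nat.card_congr (Subgroup.subgroupOfEquivOfLe hHa).toEquiv, hcH]
  have hidx : (H.subgroupOf (stabilizer G a)).index = e := by
    have h1 := (H.subgroupOf (stabilizer G a)).card_mul_index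
    rw [hcH', hcA] at h1
    exact Nat.eq_of_mul_eq_mul_left (by omega) h1
  have := hs.normal_subgroupOf
  have hset : Cfsg.inducedIrrAbove (H.subgroupOf (stabilizer G a)) ⊥ =
      TIFrob.rel (stabilizer G a) H :=
    FeitCoh.set_eq _ hs.cent'
  have hH1 : H.subgroupOf (stabilizer G a) ≠ ⊥ := by
    intro hbot
    rw [hbot, Subgroup.card_bot] at hcH'
    omega
  have hH2 : H.subgroupOf (stabilizer G a) ≠ ⊤ := by
    intro htop
    rw [htop, Subgroup.index_top] at hidx
    omega
  have hnocoh : ¬ Cfsg.IsCoherent (Cfsg.inducedIrrAbove (H.subgroupOf (stabilizer G a)) ⊥) {1}ᶜ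
      (fun α : stabilizer G a → ℂ => Cfsg.indFun (stabilizer G a) α) := by
    intro hcoh
    rw [hset] at hcoh
    exact hs.final hcoh h e hcH hcA hcG hcl hlt he2
  rcases FeitCoh.main (H.subgroupOf (stabilizer G a)) hs.cent'
    (fun α : stabilizer G a → ℂ => Cfsg.indFun (stabilizer G a) α)
    (by rw [hset]; exact hs.isometry)
    (by rw [hset]; exact fun α hα => TIFrob.ind_one hα)
    hH1 hH2 (by rw [hcH', hidx]; omega) with hcoh | ⟨p, hp, ⟨m, hm⟩, hna, hind⟩
  · exact absurd hcoh hnocoh
  have : Fact p.Prime := ⟨hp⟩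
  rw [hcH'] at hm
  by_cases hp2 : p = 2
  · subst hp2
    apply concl_congr (Subgroup.subgroupOfEquivOfLe hHa)
    refine ⟨IsPGroup.of_card (n := m) (by rw [hcH', hm]), ?_, ?_⟩
    · by_contra hcon
      push Not at hcon
      exact hna ⟨⟨hcon⟩⟩
    · rw [← commutator_subgroupOf_self, ← hidx]
      exact hind
  · exfalso
    apply hnocoh
    have hpodd : Odd p := hp.odd_of_ne_two hp2
    have hHE : H ⊓ (stabilizer G a ⊓ stabilizer G b) = ⊥ := by
      rw [eq_bot_iff]
      rintro x ⟨hx1, -, hx2⟩
      rw [Subgroup.mem_bot]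
      by_contra hx
      exact hab (hHfix x hx1 hx b hx2).symm
    have hHbot : H ≠ ⊥ := by
      intro hbot
      rw [hbot, Subgroup.card_bot] at hcH
      omega
    have hN : Subgroup.normalizer (H : Set G) = stabilizer G a := by
      apply le_antisymm
      · intro g hg
        obtain ⟨⟨u, hu⟩, hu1'⟩ := Subgroup.ne_bot_iff_exists_ne_one.1 hHbot
        have hu1 : u ≠ 1 := fun h => hu1' (Subtype.ext h)
        exact hs.ti g u hu hu1 ((Subgroup.mem_normalizer_iff.1 hg u).1 hu)
      · intro x hx
        rw [Subgroup.mem_normalizer_iff]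
        intro u
        refine ⟨fun hu => hs.normal x hx u hu, fun hu => ?_⟩
        have := hs.normal x⁻¹ (Subgroup.inv_mem _ hx) _ hu
        have h2 : x⁻¹ * (x * u * x⁻¹) * x⁻¹⁻¹ = u := by group
        rwa [h2] at this
    apply Cfsg.Agent.S1524.result H (stabilizer G a) (stabilizer G a ⊓ stabilizer G b)
      (by rw [hcA, hm]; exact (hpodd.pow).mul hodd) hHa inf_le_left hHbot
    · intro hbot
      rw [hbot, Subgroup.card_bot] at he
      omega
    · exact (IsPGroup.of_card (n := m) (by rw [hcH, hm])).isNilpotent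
    · exact hs.normal
    · exact hHE
    · apply le_antisymm (sup_le hHa inf_le_left)
      intro x hx
      have hxa : x • a = a := hx
      have hxb : x • b ≠ a := by
        intro h1
        exact hab (MulAction.injective x (hxa.trans h1.symm))
      obtain ⟨u, hu, -⟩ := hreg b (x • b) hab.symm hxb
      have hua : (u : G) • a = a := hHa u.2
      have : x = u * ((u : G)⁻¹ * x) := by group
      rw [this]
      apply Subgroup.mul_mem_sup u.2
      refine ⟨?_, ?_⟩
      · show ((u : G)⁻¹ * x) • a = a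
        rw [mul_smul, hxa, inv_smul_eq_iff, hua]
      · show ((u : G)⁻¹ * x) • b = b
        rw [mul_smul, inv_smul_eq_iff, hu]
    · intro w hw hw1 u hu hwu
      by_contra hu1
      have h1 : w ∈ H := hs.cent u hu hu1 (Subgroup.mem_centralizer_singleton_iff.2 hwu)
      have h2 : w ∈ H ⊓ (stabilizer G a ⊓ stabilizer G b) := ⟨h1, hw⟩
      rw [hHE, Subgroup.mem_bot] at h2
      exact hw1 h2
    · intro g hg u hu hgu
      by_contra hu1
      apply hg
      rw [hN]
      exact hs.ti g u hu hu1 hgu
    · exact hN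

universe u v

theorem feit_general {Ω : Type v} [Fintype Ω] (n : ℕ) :
    ∀ (G : Type u) [Group G] [Finite G] [MulAction G Ω], Nat.card G = n →
    Cfsg.IsZassenhausGroup G Ω → ∀ {a b : Ω}, a ≠ b → ∀ (h e : ℕ), Fintype.card Ω = h + 1 →
    Nat.card ↥(stabilizer G a ⊓ stabilizer G b : Subgroup G) = e → Odd e →
    ∀ (H : Subgroup G), H ≤ stabilizer G a → Nat.card H + 1 = Fintype.card Ω →
    (∀ u ∈ H, u ≠ 1 → ∀ c : Ω, u • c = c → c = a) →
    h - 1 ≤ 2 * e ∨ (IsPGroup 2 H ∧ (∃ u v : H, u * v ≠ v * u) ∧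
      (commutator H).index ≤ 4 * e ^ 2 + 1) := by
  induction n using Nat.strong_induction_on with
  | _ n ih =>
    intro G _ _ _ hn hZ a b hab h e hh he hodd H hHa hHcard hHfix
    by_cases hsimple : IsSimpleGroup G
    · exact feit_simple hZ hab h e hh he hodd H hHa hHcard hHfix
    have hb := base_of_zassenhaus hZ
    obtain ⟨N, hNn, hNbot, hNtop⟩ : ∃ N : Subgroup G, N.Normal ∧ N ≠ ⊥ ∧ N ≠ ⊤ := by
      by_contra hcon
      push Not at hcon
      apply hsimple
      obtain ⟨g, hg, -⟩ := hZ.2.2.2.1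
      have : Nontrivial G := ⟨⟨g, 1, hg⟩⟩
      exact ⟨fun N hN => or_iff_not_imp_left.2 (hcon N hN)⟩
    have hZN : Cfsg.IsZassenhausGroup N Ω := Cfsg.Agent.S0339.result hZ N hNbot
    obtain ⟨HN, hHNa, -, hHNcard, hHNfix⟩ := exists_kernel hZN hab
    have hlt : Nat.card N < n := by
      rw [← hn]
      refine lt_of_le_of_ne (Subgroup.card_le_card_group N) ?_
      intro h1
      exact hNtop (Subgroup.eq_top_of_card_eq N h1)
    have hdvd : Nat.card ↥(stabilizer N a ⊓ stabilizer N b : Subgroup N) ∣ e := by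
      rw [← he, ← Subgroup.card_map_of_injective N.subtype_injective]
      apply Subgroup.card_dvd_of_le
      rintro _ ⟨x, ⟨hx1, hx2⟩, rfl⟩
      exact ⟨hx1, hx2⟩
    have he0 : 0 < e := hodd.pos
    have hle := Nat.le_of_dvd he0 hdvd
    have hmap : HN.map N.subtype = H := by
      apply Subgroup.eq_of_le_of_card_ge
      · rintro _ ⟨x, hx, rfl⟩
        by_cases hx1 : x = 1
        · rw [hx1]; exact H.one_mem
        · apply mem_kernel hb hab H hHa hHcard hHfix
          · exact hHNa hx
          · exact hHNfix x hx hx1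
      · rw [Subgroup.card_map_of_injective N.subtype_injective]
        omega
    rcases ih _ hlt N rfl hZN hab h _ hh rfl (Odd.of_dvd_nat hodd hdvd) HN hHNa hHNcard hHNfix
      with h1 | h1
    · left
      omega
    · right
      have h2 := concl_congr ((Subgroup.equivMapOfInjective HN N.subtype
        N.subtype_injective).trans (MulEquiv.subgroupCongr hmap)) h1
      refine ⟨h2.1, h2.2.1, h2.2.2.trans ?_⟩
      have := Nat.pow_le_pow_left hle 2
      omega

end Cfsg.Agent.Lib.Helper6.Zas
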