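import Mathlib

set_option autoImplicit false

/-! # An involution acting on a Hall Z-subgroup of odd order -/

namespace Cfsg.Agent.Lib.Helper6.InvHall

open scoped Pointwise

/-- An involution normalising a subgroup of odd order normalises one of its Sylow subgroups. -/
theorem exists_invariant_sylow {G : Type*} [Group G] (E : Subgroup G) [Finite E]
    (hodd : Odd (Nat.card E)) (t : G) (ht : t * t = 1) (hn : ∀ x ∈ E, t * x * t⁻¹ ∈ E)
    (q : ℕ) [Fact q.Prime] :
    ∃ P : Sylow q E, ∀ x : E, x ∈ P → (⟨t * x * t⁻¹, hn x x.2⟩ : E) ∈ P := by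
  have htinv : t⁻¹ = t := (eq_inv_of_mul_eq_one_right ht).symm
  have htN : t ∈ Subgroup.normalizer (E : Set G) := by
    rw [Subgroup.mem_normalizer_iff]
    intro x
    refine ⟨hn x, fun h => ?_⟩
    have := hn _ h
    rw [htinv] at this
    have e1 : t * (t * x * t) * t = (t * t) * x * (t * t) := by group
    rwa [e1, ht, one_mul, mul_one] at this
  have hT : Subgroup.zpowers t ≤ Subgroup.normalizer (E : Set G) := by
    rw [Subgroup.zpowers_le]; exact htN
  let _ := MulDistribMulAction.compHom E (E.normalizerMonoidHom.comp (Subgroup.inclusion hT))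
  have hp : IsPGroup 2 (Subgroup.zpowers t) := by
    intro g
    refine ⟨1, ?_⟩
    obtain ⟨g, hg⟩ := g
    obtain ⟨k, rfl⟩ := Subgroup.mem_zpowers_iff.1 hg
    apply Subtype.ext
    show (t ^ k) ^ (2 ^ 1) = 1
    rw [pow_one, ← zpow_natCast, ← zpow_mul, mul_comm, zpow_mul]
    have : t ^ ((2 : ℕ) : ℤ) = 1 := by rw [zpow_natCast, pow_two, ht]
    rw [this, one_zpow]
  have : Fact (Nat.Prime 2) := ⟨Nat.prime_two⟩
  have hcard : ¬ 2 ∣ Nat.card (Sylow q E) := by
    intro h
    have P : Sylow q E := default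
    have h1 := (h.trans P.card_dvd_index).trans (Subgroup.index_dvd_card _)
    exact (Nat.not_even_iff_odd.2 hodd) (even_iff_two_dvd.2 h1)
  obtain ⟨P, hP⟩ := hp.nonempty_fixed_point_of_prime_not_dvd_card (Sylow q E) hcard
  refine ⟨P, fun x hx => ?_⟩
  have h1 := hP ⟨t, Subgroup.mem_zpowers t⟩
  have h2 : (⟨t, Subgroup.mem_zpowers t⟩ : Subgroup.zpowers t) • x ∈
      (⟨t, Subgroup.mem_zpowers t⟩ : Subgroup.zpowers t) • (P : Subgroup E) :=
    Subgroup.smul_mem_pointwise_smul _ _ _ hx
  rw [← Sylow.pointwise_smul_def, h1] at h2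
  exact h2

/-- An element of odd order cannot invert a non-identity element of odd order. -/
theorem eq_one_of_odd_inverts {G : Type*} [Group G] (z x : G) (hz : Odd (orderOf z))
    (hx : Odd (orderOf x)) (h : z * x * z⁻¹ = x⁻¹) : x = 1 := by
  have hc : Commute (z * z) x := by
    have h1 : z * z * x = z * (z * x * z⁻¹) * z := by group
    have h2 : z * x⁻¹ * z⁻¹ = x := by
      have : z * x⁻¹ * z⁻¹ = (z * x * z⁻¹)⁻¹ := by group
      rw [this, h, inv_inv]
    show z * z * x = x * (z * z)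
    rw [h1, h]
    have : z * x⁻¹ * z = (z * x⁻¹ * z⁻¹) * (z * z) := by group
    rw [this, h2]
  obtain ⟨j, hj⟩ := hz
  have h1 : (z * z) ^ j * z = 1 := by
    rw [← pow_two, ← pow_mul, ← pow_succ, ← hj, pow_orderOf_eq_one]
  have h2 : z = ((z * z) ^ j)⁻¹ := eq_inv_of_mul_eq_one_right h1
  have h3 : Commute z x := by
    rw [h2]
    exact (hc.pow_left j).inv_left
  have h4 : x = x⁻¹ := by
    rw [← h, h3.eq, mul_inv_cancel_right]
  have h5 : x ^ 2 = 1 := by
    rw [pow_two]
    nth_rewrite 1 [h4]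
    exact inv_mul_cancel x
  have h6 : orderOf x ∣ 2 := orderOf_dvd_of_pow_eq_one h5
  have h7 : orderOf x = 1 := by
    rcases (Nat.dvd_prime Nat.prime_two).1 h6 with h | h
    · exact h
    · rw [h] at hx
      exact absurd hx (by decide)
  exact orderOf_eq_one_iff.1 h7

/-- The dichotomy for an involution acting on a cyclic `q`-group, `q` odd. -/
theorem invol_cyclic_dichotomy {G : Type*} [Group G] (Q : Subgroup G) [Finite Q] [IsCyclic Q] (q : ℕ)
    [Fact q.Prime] (hQ : IsPGroup q Q) (hq : q ≠ 2) (t : G) (ht : t * t = 1)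
    (hn : ∀ x ∈ Q, t * x * t⁻¹ ∈ Q) :
    (∀ x ∈ Q, t * x * t⁻¹ = x) ∨ (∀ x ∈ Q, t * x * t⁻¹ = x⁻¹) := by
  have htinv : t⁻¹ = t := (eq_inv_of_mul_eq_one_right ht).symm
  have htN : t ∈ Subgroup.normalizer (Q : Set G) := by
    rw [Subgroup.mem_normalizer_iff]
    intro x
    refine ⟨hn x, fun h => ?_⟩
    have := hn _ h
    rw [htinv] at this
    have e1 : t * (t * x * t) * t = (t * t) * x * (t * t) := by group
    rwa [e1, ht, one_mul, mul_one] at this
  have hT : Subgroup.zpowers t ≤ Subgroup.normalizer (Q : Set G) := by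
    rw [Subgroup.zpowers_le]; exact htN
  have hmem : ∀ k ∈ Subgroup.zpowers t, k = 1 ∨ k = t := by
    intro k hk
    obtain ⟨j, rfl⟩ := Subgroup.mem_zpowers_iff.1 hk
    have h2 : t ^ (2 : ℤ) = 1 := by
      rw [show (2 : ℤ) = ((2 : ℕ) : ℤ) from rfl, zpow_natCast, pow_two, ht]
    rcases Int.even_or_odd' j with ⟨i, hi | hi⟩
    · left; rw [hi, zpow_mul, h2, one_zpow]
    · right; rw [hi, zpow_add, zpow_mul, h2, one_zpow, one_mul, zpow_one]
  have hcop : (Nat.card Q).Coprime (Nat.card (Subgroup.zpowers t)) := by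
    have h1 : Nat.card (Subgroup.zpowers t) ∣ 2 := by
      rw [Nat.card_zpowers]
      exact orderOf_dvd_of_pow_eq_one (by rw [pow_two, ht])
    apply Nat.Coprime.coprime_dvd_right h1
    obtain ⟨k, hk⟩ := hQ.exists_card_eq
    rw [hk]
    apply Nat.Coprime.pow_left
    exact (Nat.coprime_primes Fact.out Nat.prime_two).2 hq
  rcases hQ.commutator_eq_bot_or_commutator_eq_self hT hcop with h | h
  · left
    rw [Subgroup.commutator_eq_bot_iff_le_centralizer] at h
    intro x hx
    have := h (Subgroup.mem_zpowers t) x hx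
    rw [← this, mul_inv_cancel_right]
  · right
    have hcomm : ∀ x ∈ Q, ∀ y ∈ Q, x * y = y * x := by
      intro x hx y hy
      have := IsCyclic.commGroup (α := Q) |>.mul_comm ⟨x, hx⟩ ⟨y, hy⟩
      exact congrArg Subtype.val this
    let I : Subgroup G :=
      { carrier := {y | y ∈ Q ∧ t * y * t⁻¹ = y⁻¹}
        mul_mem' := by
          rintro x y ⟨hx, hx'⟩ ⟨hy, hy'⟩
          refine ⟨Q.mul_mem hx hy, ?_⟩
          have : t * (x * y) * t⁻¹ = (t * x * t⁻¹) * (t * y * t⁻¹) := by group
          rw [this, hx', hy', hcomm x hx y hy, mul_inv_rev]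
        one_mem' := ⟨Q.one_mem, by simp⟩
        inv_mem' := by
          rintro x ⟨hx, hx'⟩
          refine ⟨Q.inv_mem hx, ?_⟩
          have : t * x⁻¹ * t⁻¹ = (t * x * t⁻¹)⁻¹ := by group
          rw [this, hx'] }
    have hle : ⁅Subgroup.zpowers t, Q⁆ ≤ I := by
      rw [Subgroup.commutator_le]
      intro k hk y hy
      rcases hmem k hk with rfl | rfl
      · rw [commutatorElement_one_left]; exact I.one_mem
      · refine ⟨?_, ?_⟩
        · rw [commutatorElement_def]
          exact Q.mul_mem (hn y hy) (Q.inv_mem hy)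
        · rw [commutatorElement_def, htinv]
          have e1 : k * (k * y * k * y⁻¹) * k = (k * k) * y * k * y⁻¹ * k := by group
          have e2 : (k * y * k * y⁻¹)⁻¹ = y * k⁻¹ * y⁻¹ * k⁻¹ := by group
          rw [e1, e2, ht, htinv, one_mul]
    rw [h] at hle
    intro x hx
    exact (hle hx).2

/-- Let `E` be a Hall subgroup of odd order of `G` all of whose Sylow subgroups are cyclic, `t` an
involution normalising `E` such that the normaliser of every non-trivial subgroup of `E` lies in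
`E ∪ t E`.  If no Sylow subgroup of `E` is central in its normaliser (for instance if `G` has no
normal `q`-complements) then `t` centralises no non-identity element of `E`. -/
theorem invol_centralizer_trivial {G : Type*} [Group G] [Finite G] (E : Subgroup G) [IsZGroup E]
    (hodd : Odd (Nat.card E)) (t : G) (ht : t * t = 1) (hn : ∀ x ∈ E, t * x * t⁻¹ ∈ E)
    (hcop : (Nat.card E).Coprime E.index)
    (hN : ∀ Q : Subgroup G, Q ≤ E → Q ≠ ⊥ → ∀ g ∈ Subgroup.normalizer (Q : Set G),
      g ∈ E ∨ t⁻¹ * g ∈ E)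
    (hB : ∀ (q : ℕ) [Fact q.Prime] (P : Sylow q G), (P : Subgroup G) ≤ E → (P : Subgroup G) ≠ ⊥ →
      ¬ Subgroup.normalizer ((P : Subgroup G) : Set G) ≤
        Subgroup.centralizer ((P : Subgroup G) : Set G)) :
    ∀ x ∈ E, t * x = x * t → x = 1 := by
  by_contra hcon
  push Not at hcon
  obtain ⟨x₀, hx₀E, hx₀t, hx₀1⟩ := hcon
  have htinv : t⁻¹ = t := (eq_inv_of_mul_eq_one_right ht).symm
  have hoddE : ∀ z ∈ E, Odd (orderOf z) := by
    intro z hz
    have h1 : orderOf (⟨z, hz⟩ : E) ∣ Nat.card E := orderOf_dvd_natCard _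
    rw [Subgroup.orderOf_mk] at h1
    exact Odd.of_dvd_nat hodd h1
  set C : Subgroup G := E ⊓ Subgroup.centralizer {t} with hC
  have memC : ∀ y, y ∈ C ↔ y ∈ E ∧ t * y = y * t := by
    intro y
    rw [hC, Subgroup.mem_inf, Subgroup.mem_centralizer_singleton_iff, eq_comm]
  have hCne : Nat.card C ≠ 1 := by
    intro h
    rw [Subgroup.card_eq_one] at h
    have : x₀ ∈ C := (memC _).2 ⟨hx₀E, hx₀t⟩
    rw [h, Subgroup.mem_bot] at this
    exact hx₀1 this
  obtain ⟨q, hq⟩ : ∃ q, (Nat.card C).minFac = q := ⟨_, rfl⟩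
  have hqp : q.Prime := hq ▸ Nat.minFac_prime hCne
  have : Fact q.Prime := ⟨hqp⟩
  have hqC : q ∣ Nat.card C := hq ▸ Nat.minFac_dvd _
  have hqE : q ∣ Nat.card E := hqC.trans (Subgroup.card_dvd_of_le inf_le_left)
  have hq2 : q ≠ 2 := by
    rintro rfl
    exact (Nat.not_even_iff_odd.2 hodd) (even_iff_two_dvd.2 hqE)
  obtain ⟨x, hx⟩ := exists_prime_orderOf_dvd_card' (G := C) q hqC
  obtain ⟨P₀, hP₀⟩ := exists_invariant_sylow E hodd t ht hn q
  set Q : Subgroup G := (P₀ : Subgroup E).map E.subtype with hQ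
  have hQE : Q ≤ E := Subgroup.map_subtype_le _
  have hQp : IsPGroup q Q := P₀.2.map _
  have memQ : ∀ y (hy : y ∈ E), y ∈ Q ↔ (⟨y, hy⟩ : E) ∈ P₀ := by
    intro y hy
    rw [hQ, Subgroup.mem_map]
    constructor
    · rintro ⟨z, hz, rfl⟩; exact hz
    · intro h; exact ⟨_, h, rfl⟩
  have hQcyc : IsCyclic Q := by
    have : IsCyclic (P₀ : Subgroup E) := inferInstance
    exact isCyclic_of_surjective _
      ((P₀ : Subgroup E).equivMapOfInjective E.subtype E.subtype_injective).surjective
  have hQt : ∀ y ∈ Q, t * y * t⁻¹ ∈ Q := by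
    intro y hy
    have hyE := hQE hy
    rw [memQ _ (hn y hyE)]
    exact hP₀ ⟨y, hyE⟩ ((memQ y hyE).1 hy)
  have hQidx : ¬ q ∣ Q.index := by
    rw [hQ, Subgroup.index_map_subtype]
    apply Nat.Prime.not_dvd_mul hqp P₀.not_dvd_index
    intro h
    exact Nat.Prime.not_coprime_iff_dvd.2 ⟨q, hqp, hqE, h⟩ hcop
  have hQne : Q ≠ ⊥ := by
    intro h
    apply hQidx
    rw [h, Subgroup.index_bot]
    exact hqE.trans (Subgroup.card_subgroup_dvd_card E)
  rcases invol_cyclic_dichotomy Q q hQp hq2 t ht hQt with hcen | hinv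
  swap
  · -- `t` inverts `Q`
    have hxE : (x : G) ∈ E := ((memC _).1 x.2).1
    have hxt : t * (x : G) = x * t := ((memC _).1 x.2).2
    have hxo : orderOf (x : G) = q := by rw [Subgroup.orderOf_coe]; exact hx
    let x' : E := ⟨x, hxE⟩
    have hx'p : IsPGroup q (Subgroup.zpowers x') := by
      apply IsPGroup.of_card (n := 1)
      rw [Nat.card_zpowers, pow_one, ← hxo, ← Subgroup.orderOf_coe]
    obtain ⟨P₁, hP₁⟩ := hx'p.exists_le_sylow
    obtain ⟨g, hg⟩ := MulAction.exists_smul_eq E P₁ P₀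
    have h1 : g * x' * g⁻¹ ∈ P₀ := by
      rw [← hg, Sylow.smul_def]
      have := Subgroup.smul_mem_pointwise_smul x' (MulAut.conj g) (P₁ : Subgroup E)
        (hP₁ (Subgroup.mem_zpowers x'))
      rw [MulAut.smul_def, MulAut.conj_apply] at this
      exact this
    have h2 : (g : G) * x * (g : G)⁻¹ ∈ Q := (memQ _ (g * x' * g⁻¹).2).2 h1
    have h3 := hinv _ h2
    set z : G := (g : G)⁻¹ * (t * g * t⁻¹) with hz
    have hzE : z ∈ E := E.mul_mem (E.inv_mem g.2) (hn g g.2)
    have hzx : z * x * z⁻¹ = (x : G)⁻¹ := by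
      have e0 : t⁻¹ * (x : G) * t = x := by rw [mul_assoc, ← hxt, inv_mul_cancel_left]
      have e1 : z * x * z⁻¹ = (g : G)⁻¹ * (t * (g * (t⁻¹ * x * t) * (g : G)⁻¹) * t⁻¹) * g := by
        rw [hz]; group
      rw [e1, e0, h3]; group
    have hx1 := eq_one_of_odd_inverts z x (hoddE z hzE) (hoddE x hxE) hzx
    rw [hx1, orderOf_one] at hxo
    exact hqp.one_lt.ne hxo
  · -- `t` centralises `Q`
    have hQC : Q ≤ C := fun y hy => (memC y).2 ⟨hQE hy, by
      have := hcen y hy
      rw [mul_inv_eq_iff_eq_mul] at this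
      exact this⟩
    let P : Sylow q G := hQp.toSylow hQidx
    let PC : Sylow q C := P.subtype hQC
    have hPCcyc : IsCyclic PC :=
      isCyclic_of_surjective _ (Subgroup.subgroupOfEquivOfLe hQC).symm.surjective
    have key := IsCyclic.normalizer_le_centralizer hq hPCcyc
    have key' : ∀ c ∈ C, c ∈ Subgroup.normalizer (Q : Set G) →
        c ∈ Subgroup.centralizer (Q : Set G) := by
      intro c hc hcN
      have h1 : (⟨c, hc⟩ : C) ∈ Subgroup.normalizer ((PC : Subgroup C) : Set C) := by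
        rw [Subgroup.mem_normalizer_iff]
        intro y
        exact (Subgroup.mem_normalizer_iff.1 hcN) y
      have h2 := key h1
      rw [Subgroup.mem_centralizer_iff] at h2 ⊢
      intro y hy
      exact congrArg Subtype.val (h2 ⟨y, hQC hy⟩ hy)
    have htcen : t ∈ Subgroup.centralizer (Q : Set G) := by
      rw [Subgroup.mem_centralizer_iff]
      intro y hy
      have := hcen y hy
      rw [mul_inv_eq_iff_eq_mul] at this
      exact this.symm
    have htnorm : t ∈ Subgroup.normalizer (Q : Set G) := Subgroup.centralizer_le_normalizer _ htcen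
    have main : ∀ y ∈ E, y ∈ Subgroup.normalizer (Q : Set G) →
        y ∈ Subgroup.centralizer (Q : Set G) := by
      intro y hyE hyN
      set w := y⁻¹ * (t * y * t⁻¹) with hw
      have hwE : w ∈ E := E.mul_mem (E.inv_mem hyE) (hn y hyE)
      have hwQ : w ∈ Subgroup.centralizer (Q : Set G) := by
        have h1 : y⁻¹ * t * y ∈ Subgroup.centralizer (Q : Set G) := by
          rw [Subgroup.mem_centralizer_iff]
          intro u hu
          have hu' : y * u * y⁻¹ ∈ Q := (Subgroup.mem_normalizer_iff.1 hyN u).1 hu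
          have h2 := hcen _ hu'
          have h3 : t * (y * u * y⁻¹) = y * u * y⁻¹ * t := by
            rw [mul_inv_eq_iff_eq_mul] at h2; exact h2
          have e1 : y⁻¹ * t * y * u = y⁻¹ * (t * (y * u * y⁻¹)) * y := by group
          rw [e1, h3]; group
        have e2 : w = (y⁻¹ * t * y) * t⁻¹ := by rw [hw]; group
        rw [e2]
        exact Subgroup.mul_mem _ h1 (Subgroup.inv_mem _ htcen)
      have hwt : t * w * t⁻¹ = w⁻¹ := by
        rw [hw, htinv]
        have e1 : t * (y⁻¹ * (t * y * t)) * t = t * y⁻¹ * t * y * (t * t) := by group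
        have e2 : (y⁻¹ * (t * y * t))⁻¹ = t⁻¹ * y⁻¹ * t⁻¹ * y := by group
        rw [e1, e2, ht, htinv, mul_one]
      obtain ⟨k, hk⟩ := hoddE w hwE
      set v := w ^ (k + 1) with hv
      have hv2 : v * v = w := by
        rw [hv, ← pow_add, show k + 1 + (k + 1) = (2 * k + 1) + 1 by ring, ← hk, pow_succ,
          pow_orderOf_eq_one, one_mul]
      have hvt : t * v * t⁻¹ = v⁻¹ := by
        rw [hv, ← conj_pow, hwt, inv_pow]
      have hvQ : v ∈ Subgroup.centralizer (Q : Set G) := Subgroup.pow_mem _ hwQ _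
      have hvE : v ∈ E := E.pow_mem hwE _
      have hcC : y * v ∈ C := by
        rw [memC]
        refine ⟨E.mul_mem hyE hvE, ?_⟩
        have e1 : t * (y * v) = y * (y⁻¹ * (t * y * t⁻¹)) * (t * v * t⁻¹) * t := by group
        rw [e1, ← hw, hvt, ← hv2]
        group
      have hcN : y * v ∈ Subgroup.normalizer (Q : Set G) :=
        Subgroup.mul_mem _ hyN (Subgroup.centralizer_le_normalizer _ hvQ)
      have hcQ := key' _ hcC hcN
      have e3 : y = (y * v) * v⁻¹ := by group
      rw [e3]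
      exact Subgroup.mul_mem _ hcQ (Subgroup.inv_mem _ hvQ)
    apply hB q P hQE hQne
    intro g hg
    rcases hN Q hQE hQne g hg with h | h
    · exact main g h hg
    · have e4 : g = t * (t⁻¹ * g) := by group
      rw [e4]
      exact Subgroup.mul_mem _ htcen
        (main _ h (Subgroup.mul_mem _ (Subgroup.inv_mem _ htnorm) hg))

end Cfsg.Agent.Lib.Helper6.InvHall
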