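import Cfsg.Agent.Lib.Helper6.Zas4
import Cfsg.Agent.Lib.Helper6.InvHall
import Cfsg.Agent.S0035
import Cfsg.Agent.S0039
import Cfsg.Agent.S0040

set_option autoImplicit false
set_option linter.unusedSectionVars false

/-! # Zassenhaus groups with two point stabilisers of odd order: structure of the stabiliser -/

namespace Cfsg.Agent.Lib.Helper6.Zas

open MulAction
open scoped Pointwise

variable {G Ω : Type*} [Group G] [MulAction G Ω]

theorem one_lt_card_stab2 (hZ : Cfsg.IsZassenhausGroup G Ω) [Finite G] {a b : Ω} (hab : a ≠ b) :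
    1 < Nat.card ↥(stabilizer G a ⊓ stabilizer G b) := by
  have hb := base_of_zassenhaus hZ
  obtain ⟨g, hg, a', b', hab', hga, hgb⟩ := hZ.2.2.2.1
  rw [← hb.card_stab2 hab hab', Finite.one_lt_card_iff_nontrivial]
  exact ⟨⟨⟨g, hga, hgb⟩, 1, fun h => hg (congrArg Subtype.val h)⟩⟩

/-- The Sylow subgroups of a two point stabiliser of odd order are cyclic. -/
theorem isZGroup_stab2 (hZ : Cfsg.IsZassenhausGroup G Ω) [Finite G] {a b : Ω} (hab : a ≠ b)
    (hodd : Odd (Nat.card ↥(stabilizer G a ⊓ stabilizer G b))) :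
    IsZGroup ↥(stabilizer G a ⊓ stabilizer G b) := by
  have hb := base_of_zassenhaus hZ
  set A : Subgroup G := stabilizer G a with hA
  set F : Subgroup A := (A ⊓ stabilizer G b).subgroupOf A with hF
  have memF : ∀ x : A, x ∈ F ↔ (x : G) • b = b := by
    intro x
    rw [hF, Subgroup.mem_subgroupOf, Subgroup.mem_inf]
    exact ⟨fun h => h.2, fun h => ⟨x.2, h⟩⟩
  have hFbot : F ≠ ⊥ := by
    intro h
    have h1 := one_lt_card_stab2 hZ hab
    rw [Finite.one_lt_card_iff_nontrivial] at h1
    obtain ⟨x, hx⟩ := exists_ne (1 : ↥(stabilizer G a ⊓ stabilizer G b))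
    have h2 : (⟨x, x.2.1⟩ : A) ∈ F := (memF _).2 x.2.2
    rw [h, Subgroup.mem_bot] at h2
    have h3 : (x : G) = 1 := congrArg Subtype.val h2
    exact hx (Subtype.ext h3)
  have hFtop : F ≠ ⊤ := by
    intro h
    obtain ⟨c, hca, hcb⟩ := exists_third hZ a b
    obtain ⟨g, hga, hgb⟩ := hb.two hab hca.symm
    have h2 : (⟨g, hga⟩ : A) ∈ F := by rw [h]; exact Subgroup.mem_top _
    rw [memF] at h2
    exact hcb (hgb.symm.trans h2)
  have hFrob : Cfsg.IsFrobeniusComplement F := by
    refine ⟨hFbot, hFtop, ?_⟩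
    intro g hg
    rw [eq_bot_iff]
    rintro x ⟨hx1, hx2⟩
    rw [Subgroup.mem_bot]
    obtain ⟨y, hy, hyx⟩ := hx2
    have hyb : (y : G) • b = b := (memF y).1 hy
    have hxb : (x : G) • b = b := (memF x).1 hx1
    have hxe : (x : G) = g * y * (g : G)⁻¹ := by
      rw [← hyx]
      simp [MulAut.conj_apply]
    have hgb : (g : G) • b ≠ b := fun h => hg ((memF g).2 h)
    have hga : (g : G) • a = a := g.2
    have hgba : (g : G) • b ≠ a := by
      intro h
      exact hab (MulAction.injective (g : G) (hga.trans h.symm))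
    apply Subtype.ext
    apply hb.three (x : G) a b ((g : G) • b) hab hgb.symm hgba.symm x.2 hxb
    rw [hxe, mul_smul, mul_smul, inv_smul_smul, hyb]
  obtain ⟨N, -, hNn, hNc⟩ := Cfsg.Agent.S0035.result F hFrob
  have hNbot : N ≠ ⊥ := by
    rintro rfl
    exact hFtop (Subgroup.isComplement'_bot_left.1 hNc)
  have hfpf := (Cfsg.Agent.S0039.result N F hNc hNbot hFbot).1 hFrob
  have hcardF : Nat.card F = Nat.card ↥(A ⊓ stabilizer G b) :=
    Nat.card_congr (Subgroup.subgroupOfEquivOfLe inf_le_left).toEquiv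
  have hZF : IsZGroup F := by
    rw [isZGroup_iff]
    intro p hp P
    have : Fact p.Prime := ⟨hp⟩
    rcases Cfsg.Agent.S0040.result N F hNc hNbot hfpf p P with h | ⟨n, ⟨φ⟩⟩
    · exact h
    · exfalso
      have h1 : Nat.card P = 4 * 2 ^ n := by
        rw [Nat.card_congr φ.toEquiv, Nat.card_eq_fintype_card, QuaternionGroup.card]
      have h2 : Nat.card P ∣ Nat.card F := Subgroup.card_subgroup_dvd_card _
      rw [h1, hcardF] at h2
      have h3 : 2 ∣ Nat.card ↥(A ⊓ stabilizer G b) := Dvd.dvd.trans ⟨2 * 2 ^ n, by ring⟩ h2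
      exact (Nat.not_even_iff_odd.2 hodd) (even_iff_two_dvd.2 h3)
  exact IsZGroup.of_injective (f := (Subgroup.subgroupOfEquivOfLe
    (inf_le_left : A ⊓ stabilizer G b ≤ A)).symm.toMonoidHom)
    (Subgroup.subgroupOfEquivOfLe _).symm.injective

/-- The order of a two point stabiliser divides `|Ω| - 2`. -/
theorem Base.card_stab2_dvd (hb : Base G Ω) [Finite G] [Fintype Ω] {a b : Ω} (hab : a ≠ b) {h : ℕ}
    (hh : Fintype.card Ω = h + 1) : Nat.card ↥(stabilizer G a ⊓ stabilizer G b) ∣ h - 1 := by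
  classical
  set E : Subgroup G := stabilizer G a ⊓ stabilizer G b with hE
  have : Fintype E := Fintype.ofFinite E
  have : Fintype (Quotient (orbitRel E Ω)) := Fintype.ofFinite _
  have burn := MulAction.sum_card_fixedBy_eq_card_orbits_mul_card_group E Ω
  have h1 : ∀ x : E, x ≠ 1 → Fintype.card (fixedBy Ω x) = 2 := by
    intro x hx
    rw [← Finset.card_pair hab]
    apply Fintype.card_of_subtype
    intro c
    simp only [Finset.mem_insert, Finset.mem_singleton, mem_fixedBy]
    constructor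
    · rintro (rfl | rfl)
      · exact x.2.1
      · exact x.2.2
    · intro hc
      by_contra hcon
      push Not at hcon
      apply hx
      apply Subtype.ext
      exact hb.three (x : G) a b c hab hcon.2.symm hcon.1.symm x.2.1 x.2.2 hc
  have h2 : Fintype.card (fixedBy Ω (1 : E)) = h + 1 := by
    rw [← hh]
    apply Fintype.card_of_subtype Finset.univ
    intro c
    simp
  rw [← Finset.add_sum_erase Finset.univ _ (Finset.mem_univ (1 : E)), h2,
    Finset.sum_congr rfl (g := fun _ => 2) (fun x hx => h1 x (Finset.ne_of_mem_erase hx)),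
    Finset.sum_const, Finset.card_erase_of_mem (Finset.mem_univ _), Finset.card_univ,
    smul_eq_mul] at burn
  rw [Nat.card_eq_fintype_card]
  have hpos : 0 < Fintype.card E := Fintype.card_pos
  have hh1 : 1 ≤ h := by
    have : 1 < Fintype.card Ω := Fintype.one_lt_card_iff.2 ⟨a, b, hab⟩
    omega
  have h3 : (h - 1) + Fintype.card E * 2
      = Fintype.card (Quotient (orbitRel E Ω)) * Fintype.card E := by
    rw [← burn, Nat.sub_mul]
    omega
  have h4 : Fintype.card E ∣ (h - 1) + Fintype.card E * 2 := by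
    rw [h3]; exact Dvd.intro_left _ rfl
  exact (Nat.dvd_add_left (Dvd.intro _ rfl)).1 h4

theorem Base.coprime_card_index_stab2 (hb : Base G Ω) [Finite G] [Fintype Ω] {a b : Ω}
    (hab : a ≠ b) (hodd : Odd (Nat.card ↥(stabilizer G a ⊓ stabilizer G b))) :
    (Nat.card ↥(stabilizer G a ⊓ stabilizer G b)).Coprime
      (stabilizer G a ⊓ stabilizer G b).index := by
  classical
  have : Fintype G := Fintype.ofFinite G
  obtain ⟨h, hh⟩ : ∃ h, Fintype.card Ω = h + 1 :=
    ⟨Fintype.card Ω - 1, by have : 0 < Fintype.card Ω := Fintype.card_pos_iff.2 ⟨a⟩; omega⟩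
  have hdvd := hb.card_stab2_dvd hab hh
  have hG := hb.card_group hab rfl hh
  have hidx := Subgroup.card_mul_index (stabilizer G a ⊓ stabilizer G b)
  rw [Nat.card_eq_fintype_card (α := G), hG] at hidx
  have hpos : 0 < Nat.card ↥(stabilizer G a ⊓ stabilizer G b) := Nat.card_pos
  have hidx' : (stabilizer G a ⊓ stabilizer G b).index = (h + 1) * h := by
    apply Nat.eq_of_mul_eq_mul_left hpos
    rw [hidx]; ring
  rw [hidx']
  have hh1 : 1 ≤ h := by
    have : 1 < Fintype.card Ω := Fintype.one_lt_card_iff.2 ⟨a, b, hab⟩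
    omega
  generalize Nat.card ↥(stabilizer G a ⊓ stabilizer G b) = e at *
  apply Nat.Coprime.mul_right
  · -- gcd (e, h + 1) divides 2
    have h1 : Nat.gcd e (h + 1) ∣ 2 := by
      have h2 : Nat.gcd e (h + 1) ∣ h - 1 := (Nat.gcd_dvd_left _ _).trans hdvd
      have h3 : Nat.gcd e (h + 1) ∣ (h - 1) + 2 := by
        have h4 : (h - 1) + 2 = h + 1 := by omega
        rw [h4]; exact Nat.gcd_dvd_right _ _
      exact (Nat.dvd_add_right h2).1 h3
    rcases (Nat.dvd_prime Nat.prime_two).1 h1 with h5 | h5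
    · exact h5
    · exfalso
      have : 2 ∣ e := h5 ▸ Nat.gcd_dvd_left _ _
      exact (Nat.not_even_iff_odd.2 hodd) (even_iff_two_dvd.2 this)
  · have h1 : Nat.gcd e h ∣ 1 := by
      have h2 : Nat.gcd e h ∣ h - 1 := (Nat.gcd_dvd_left _ _).trans hdvd
      have h3 : Nat.gcd e h ∣ (h - 1) + 1 := by
        have h4 : (h - 1) + 1 = h := by omega
        rw [h4]; exact Nat.gcd_dvd_right _ _
      exact (Nat.dvd_add_right h2).1 h3
    exact Nat.dvd_one.1 h1

theorem Base.normalizer_sub (hb : Base G Ω) {a b : Ω} (hab : a ≠ b) (t : G) (hta : t • a = b)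
    (htb : t • b = a) (Q : Subgroup G) (hQ : Q ≤ stabilizer G a ⊓ stabilizer G b) (hQne : Q ≠ ⊥)
    (g : G) (hg : g ∈ Subgroup.normalizer (Q : Set G)) :
    g ∈ stabilizer G a ⊓ stabilizer G b ∨ t⁻¹ * g ∈ stabilizer G a ⊓ stabilizer G b := by
  obtain ⟨x, hx⟩ := (Subgroup.ne_bot_iff_exists_ne_one.1 hQne)
  have hxQ : (x : G) ∈ Q := x.2
  have hx1' : (x : G) ≠ 1 := fun h => hx (Subtype.ext h)
  have hxa : (x : G) • a = a := (hQ hxQ).1
  have hxb : (x : G) • b = b := (hQ hxQ).2
  have hy : g * x * g⁻¹ ∈ Q := (Subgroup.mem_normalizer_iff.1 hg x).1 hxQ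
  have hya : (g * x * g⁻¹) • a = a := (hQ hy).1
  have hyb : (g * x * g⁻¹) • b = b := (hQ hy).2
  have honly : ∀ c : Ω, (x : G) • c = c → c = a ∨ c = b := by
    intro c hc
    by_contra hcon
    push Not at hcon
    exact hx1' (hb.three (x : G) a b c hab hcon.2.symm hcon.1.symm hxa hxb hc)
  have h1 : (x : G) • (g⁻¹ • a) = g⁻¹ • a := by
    rw [mul_smul, mul_smul] at hya
    rw [eq_inv_smul_iff]; exact hya
  have h2 : (x : G) • (g⁻¹ • b) = g⁻¹ • b := by
    rw [mul_smul, mul_smul] at hyb
    rw [eq_inv_smul_iff]; exact hyb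
  have hne : g⁻¹ • a ≠ g⁻¹ • b := fun h => hab (MulAction.injective _ h)
  have hta' : t⁻¹ • b = a := by rw [inv_smul_eq_iff, hta]
  have htb' : t⁻¹ • a = b := by rw [inv_smul_eq_iff, htb]
  rcases honly _ h1 with ha | ha <;> rcases honly _ h2 with hb' | hb'
  · exact absurd (ha.trans hb'.symm) hne
  · left
    rw [inv_smul_eq_iff] at ha hb'
    exact ⟨ha.symm, hb'.symm⟩
  · right
    rw [inv_smul_eq_iff] at ha hb'
    constructor
    · show (t⁻¹ * g) • a = a
      rw [mul_smul, ← hb', hta']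
    · show (t⁻¹ * g) • b = b
      rw [mul_smul, ← ha, htb']
  · exact absurd (ha.trans hb'.symm) hne

/-- If `G` has no normal `q`-complements for the primes `q` dividing the odd order of the two
point stabiliser, every element interchanging `a` and `b` is an involution inverting the
stabiliser. -/
theorem swap_inverts_of_no_complement (hZ : Cfsg.IsZassenhausGroup G Ω) [Finite G] [Fintype Ω]
    {a b : Ω} (hab : a ≠ b) (hodd : Odd (Nat.card ↥(stabilizer G a ⊓ stabilizer G b)))
    (hnil : ∀ q : ℕ, q.Prime → q ∣ Nat.card ↥(stabilizer G a ⊓ stabilizer G b) →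
      ¬ ∃ N : Subgroup G, N.Normal ∧ N.index = q ^ (Nat.card G).factorization q)
    (s : G) (hsa : s • a = b) (hsb : s • b = a) :
    s * s = 1 ∧ ∀ x ∈ stabilizer G a ⊓ stabilizer G b, s * x * s⁻¹ = x⁻¹ := by
  have hb := base_of_zassenhaus hZ
  obtain ⟨t, ht2, hta, htb⟩ := exists_invol_swap hZ hab
  have htinv : t⁻¹ = t := (eq_inv_of_mul_eq_one_right ht2).symm
  have := isZGroup_stab2 hZ hab hodd
  have hn : ∀ x ∈ stabilizer G a ⊓ stabilizer G b,
      t * x * t⁻¹ ∈ stabilizer G a ⊓ stabilizer G b := by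
    rintro x ⟨hxa, hxb⟩
    replace hxa : x • a = a := hxa
    replace hxb : x • b = b := hxb
    constructor
    · show (t * x * t⁻¹) • a = a
      rw [htinv, mul_smul, mul_smul, hta, hxb, htb]
    · show (t * x * t⁻¹) • b = b
      rw [htinv, mul_smul, mul_smul, htb, hxa, hta]
  have hf := InvHall.invol_centralizer_trivial (stabilizer G a ⊓ stabilizer G b) hodd t ht2 hn
    (hb.coprime_card_index_stab2 hab hodd) (hb.normalizer_sub hab t hta htb) (by
      intro q _ P hPE hPne hNC
      apply hnil q Fact.out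
      · have h1 : q ∣ Nat.card (P : Subgroup G) := by
          obtain ⟨k, hk⟩ := P.2.exists_card_eq
          rcases Nat.eq_zero_or_pos k with rfl | hkpos
          · rw [pow_zero, Subgroup.card_eq_one] at hk
            exact absurd hk hPne
          · rw [hk]; exact dvd_pow_self q hkpos.ne'
        exact h1.trans (Subgroup.card_dvd_of_le hPE)
      · refine ⟨(MonoidHom.transferSylow P hNC).ker, inferInstance, ?_⟩
        rw [(MonoidHom.ker_transferSylow_isComplement' P hNC).symm.index_eq_card,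
          P.card_eq_multiplicity])
  have hinv := inverts_of_fpf _ t ht2 hn hf
  apply coset_inverts _ t ht2 hinv
  constructor
  · show (t⁻¹ * s) • a = a
    rw [htinv, mul_smul, hsa, htb]
  · show (t⁻¹ * s) • b = b
    rw [htinv, mul_smul, hsb, hta]

end Cfsg.Agent.Lib.Helper6.Zas
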