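import Mathlib

set_option autoImplicit false

/-! # Counting conjugacy classes inside an invariant set -/

namespace Cfsg.Agent.Lib.Helper6.ClassCount

open Finset

variable {G : Type*} [Group G] [Fintype G] [DecidableEq G]

theorem card_class_mul_card_commute [DecidableEq (ConjClasses G)] (g : G) :
    (univ.filter (fun y : G => ConjClasses.mk y = ConjClasses.mk g)).card *
      (univ.filter (fun x : G => x * g = g * x)).card = Fintype.card G := by
  classical
  have horb := MulAction.card_orbit_mul_card_stabilizer_eq_card_group (ConjAct G) g
  have h1 : Fintype.card (MulAction.orbit (ConjAct G) g)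
      = (univ.filter (fun y : G => ConjClasses.mk y = ConjClasses.mk g)).card := by
    apply Fintype.card_of_subtype
    intro y
    rw [ConjAct.mem_orbit_conjAct, mem_filter, ConjClasses.mk_eq_mk_iff_isConj]
    simp
  have h2 : Fintype.card (MulAction.stabilizer (ConjAct G) g)
      = (univ.filter (fun x : G => x * g = g * x)).card := by
    rw [← Fintype.card_subtype]
    apply Fintype.card_congr
    apply ConjAct.ofConjAct.toEquiv.subtypeEquiv
    intro x
    rw [MulAction.mem_stabilizer_iff, ConjAct.smul_def, mul_inv_eq_iff_eq_mul]
    rfl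
  rw [h1, h2, ConjAct.card] at horb
  exact horb

theorem sum_class_card_commute [DecidableEq (ConjClasses G)] (C : ConjClasses G) :
    ∑ g ∈ univ.filter (fun y : G => ConjClasses.mk y = C),
      (univ.filter (fun x : G => x * g = g * x)).card = Fintype.card G := by
  obtain ⟨g₀, rfl⟩ := ConjClasses.exists_rep C
  set S := univ.filter (fun y : G => ConjClasses.mk y = ConjClasses.mk g₀) with hS
  have hpos : 0 < S.card := Finset.card_pos.2 ⟨g₀, by simp [hS]⟩
  apply Nat.eq_of_mul_eq_mul_left hpos
  rw [Finset.mul_sum, Finset.sum_congr rfl (g := fun _ => Fintype.card G), Finset.sum_const,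
    smul_eq_mul]
  intro g hg
  have hg' : ConjClasses.mk g = ConjClasses.mk g₀ := by simpa [hS] using hg
  rw [hS, ← hg']
  exact card_class_mul_card_commute g

/-- The number of conjugacy classes contained in an invariant set. -/
theorem sum_card_commute (p : G → Prop) [DecidablePred p]
    (hp : ∀ g x, p g → p (x * g * x⁻¹)) :
    ∑ g ∈ univ.filter p, (univ.filter (fun x : G => x * g = g * x)).card
      = Nat.card {C : ConjClasses G // ∀ g, ConjClasses.mk g = C → p g} * Fintype.card G := by
  classical
  rw [Nat.card_eq_fintype_card, Fintype.card_subtype]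
  set K := univ.filter (fun C : ConjClasses G => ∀ g, ConjClasses.mk g = C → p g) with hK
  rw [← Finset.sum_fiberwise_of_maps_to (s := univ.filter p) (t := K)
    (g := fun g => ConjClasses.mk g)]
  · rw [Finset.sum_congr rfl (g := fun _ => Fintype.card G), Finset.sum_const, smul_eq_mul]
    intro C hC
    rw [← sum_class_card_commute C]
    apply Finset.sum_congr _ (fun _ _ => rfl)
    ext g
    simp only [mem_filter, mem_univ, true_and]
    constructor
    · exact fun h => h.2
    · intro h
      refine ⟨?_, h⟩
      rw [hK, mem_filter] at hC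
      exact hC.2 g h
  · intro g hg
    rw [mem_filter] at hg
    rw [hK, mem_filter]
    refine ⟨mem_univ _, ?_⟩
    intro g' hg'
    rw [ConjClasses.mk_eq_mk_iff_isConj, isConj_comm, isConj_iff] at hg'
    obtain ⟨x, hx⟩ := hg'
    rw [← hx]
    exact hp g x hg.2

end Cfsg.Agent.Lib.Helper6.ClassCount
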