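import Cfsg.Agent.Lib.Helper6.Zas5
import Cfsg.Agent.Lib.Helper6.ClassCount

set_option autoImplicit false
set_option linter.unusedSectionVars false

/-! # Simple Zassenhaus groups with two point stabilisers of odd order -/

namespace Cfsg.Agent.Lib.Helper6.Zas

open MulAction

variable {G Ω : Type*} [Group G] [MulAction G Ω]

theorem no_complement_of_simple (hZ : Cfsg.IsZassenhausGroup G Ω) [Finite G] [Fintype Ω]
    [IsSimpleGroup G] {a b : Ω} (hab : a ≠ b)
    (hodd : Odd (Nat.card ↥(stabilizer G a ⊓ stabilizer G b))) :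
    ∀ q : ℕ, q.Prime → q ∣ Nat.card ↥(stabilizer G a ⊓ stabilizer G b) →
      ¬ ∃ N : Subgroup G, N.Normal ∧ N.index = q ^ (Nat.card G).factorization q := by
  rintro q hq hqe ⟨N, hN, hidx⟩
  have hqG : q ∣ Nat.card G := hqe.trans (Subgroup.card_subgroup_dvd_card _)
  rcases hN.eq_bot_or_eq_top with rfl | rfl
  · rw [Subgroup.index_bot] at hidx
    obtain ⟨t, ht2, hta, -⟩ := exists_invol_swap hZ hab
    have ht1 : t ≠ 1 := by
      rintro rfl
      rw [one_smul] at hta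
      exact hab hta
    have h3 : orderOf t = 2 := orderOf_eq_prime (by rw [pow_two]; exact ht2) ht1
    have h4 : 2 ∣ Nat.card G := h3 ▸ orderOf_dvd_natCard t
    rw [hidx] at h4
    have h5 : 2 ∣ q := Nat.Prime.dvd_of_dvd_pow Nat.prime_two h4
    exact (Nat.not_even_iff_odd.2 hodd) (even_iff_two_dvd.2 (h5.trans hqe))
  · rw [Subgroup.index_top] at hidx
    have h1 : 0 < (Nat.card G).factorization q :=
      hq.factorization_pos_of_dvd Nat.card_pos.ne' hqG
    have h2 : 1 < q ^ (Nat.card G).factorization q := Nat.one_lt_pow h1.ne' hq.one_lt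
    omega

theorem swap_inverts_of_simple (hZ : Cfsg.IsZassenhausGroup G Ω) [Finite G] [Fintype Ω]
    [IsSimpleGroup G] {a b : Ω} (hab : a ≠ b)
    (hodd : Odd (Nat.card ↥(stabilizer G a ⊓ stabilizer G b))) {c d : Ω} (hcd : c ≠ d)
    (s : G) (hsc : s • c = d) (hsd : s • d = c) :
    s * s = 1 ∧ ∀ x ∈ stabilizer G c ⊓ stabilizer G d, s * x * s⁻¹ = x⁻¹ := by
  have hb := base_of_zassenhaus hZ
  have hodd' : Odd (Nat.card ↥(stabilizer G c ⊓ stabilizer G d)) := by
    rw [hb.card_stab2 hab hcd]; exact hodd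
  exact swap_inverts_of_no_complement hZ hcd hodd' (no_complement_of_simple hZ hcd hodd') s hsc hsd

/-- All involutions are conjugate. -/
theorem Base.invol_isConj (hb : Base G Ω) [Finite G] {a b : Ω} (hab : a ≠ b)
    (hodd : Odd (Nat.card ↥(stabilizer G a ⊓ stabilizer G b)))
    (hsw : ∀ s : G, s • a = b → s • b = a →
      s * s = 1 ∧ ∀ x ∈ stabilizer G a ⊓ stabilizer G b, s * x * s⁻¹ = x⁻¹)
    (x y : G) (hx1 : x ≠ 1) (hx2 : x * x = 1) (hy1 : y ≠ 1) (hy2 : y * y = 1) : IsConj x y := by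
  have stepA : ∀ x : G, x ≠ 1 → x * x = 1 →
      ∃ g : G, (g * x * g⁻¹) • a = b ∧ (g * x * g⁻¹) • b = a := by
    intro x hx1 hx2
    obtain ⟨c, hc⟩ : ∃ c : Ω, x • c ≠ c := by
      by_contra h
      push Not at h
      exact hx1 (hb.faithful x h)
    obtain ⟨g, hgc, hgx⟩ := hb.two (Ne.symm hc) hab
    refine ⟨g, ?_, ?_⟩
    · have h1 : g⁻¹ • a = c := by rw [inv_smul_eq_iff, hgc]
      rw [mul_smul, mul_smul, h1, hgx]
    · have h1 : g⁻¹ • b = x • c := by rw [inv_smul_eq_iff, hgx]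
      rw [mul_smul, mul_smul, h1, ← mul_smul x, hx2, one_smul, hgc]
  have stepB : ∀ x y : G, x • a = b → x • b = a → y • a = b → y • b = a → IsConj x y := by
    intro x y hxa hxb hya hyb
    obtain ⟨hx2, hxinv⟩ := hsw x hxa hxb
    have hxi : x⁻¹ = x := (eq_inv_of_mul_eq_one_right hx2).symm
    set E : Subgroup G := stabilizer G a ⊓ stabilizer G b with hE
    have huE : x⁻¹ * y ∈ E := by
      constructor
      · show (x⁻¹ * y) • a = a
        rw [hxi, mul_smul, hya, hxb]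
      · show (x⁻¹ * y) • b = b
        rw [hxi, mul_smul, hyb, hxa]
    set u := x⁻¹ * y with hu
    have huodd : Odd (orderOf u) := by
      have h1 : orderOf (⟨u, huE⟩ : E) ∣ Nat.card E := orderOf_dvd_natCard _
      rw [Subgroup.orderOf_mk] at h1
      exact Odd.of_dvd_nat hodd h1
    obtain ⟨k, hk⟩ := huodd
    set v := u ^ (k + 1) with hv
    have hv2 : v * v = u := by
      rw [hv, ← pow_add, show k + 1 + (k + 1) = (2 * k + 1) + 1 by ring, ← hk, pow_succ,
        pow_orderOf_eq_one, one_mul]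
    have hvE : v ∈ E := E.pow_mem huE _
    rw [isConj_iff]
    refine ⟨v⁻¹, ?_⟩
    have h1 := hxinv _ (E.inv_mem hvE)
    rw [inv_inv] at h1
    have h2 : v⁻¹ * x * v⁻¹⁻¹ = x⁻¹ * (x * v⁻¹ * x⁻¹) * (x * x) * v := by group
    rw [h2, h1, hx2, mul_one, mul_assoc, hv2, hu, hxi, ← mul_assoc, hx2, one_mul]
  obtain ⟨g, hga, hgb⟩ := stepA x hx1 hx2
  obtain ⟨g', hga', hgb'⟩ := stepA y hy1 hy2
  have h1 : IsConj x (g * x * g⁻¹) := isConj_iff.2 ⟨g, rfl⟩
  have h2 : IsConj y (g' * y * g'⁻¹) := isConj_iff.2 ⟨g', rfl⟩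
  exact (h1.trans (stepB _ _ hga hgb hga' hgb')).trans h2.symm

end Cfsg.Agent.Lib.Helper6.Zas
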