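import Cfsg.Agent.Lib.Helper6.TIFrob2

/-!
# A coherent kernel in a simple group of order `(h+1) h e` with many classes missing the kernel
-/

set_option autoImplicit false
set_option linter.unusedSectionVars false
set_option linter.unusedVariables false

namespace Cfsg.Agent.Lib.Helper6.TIFrob

open Cfsg Cfsg.Agent.Lib.Helper15 Cfsg.Agent.Lib.Helper26

theorem arith_final {ι : Type*} [Fintype ι] [DecidableEq ι] (m d : ι → ℕ) (X : Finset ι) (o : ι)
    (ho : o ∈ X) (h e : ℕ) (he : 2 ≤ e) (hlt : 2 * e < h - 1) (hmo : m o = 1) (hdo : d o = 1)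
    (hlt' : ∀ ψ, ψ ≠ o → m ψ < d ψ) (hdvd : ∀ ψ ∈ X, (h - 1) ∣ d ψ - m ψ)
    (hm0 : ∀ ψ ∈ X, m ψ ≠ 0) (hX : e + 1 ≤ X.card)
    (E1 : ∑ ψ, m ψ * d ψ = (h + 1) * e) (E2 : ∑ ψ, m ψ ^ 2 = 2 * e) : False := by
  set X' := X.erase o with hX'
  have hX'c : e ≤ X'.card := by
    rw [hX', Finset.card_erase_of_mem ho]; omega
  have hle : ∀ ψ, m ψ ≤ d ψ := by
    intro ψ
    by_cases h : ψ = o
    · rw [h, hmo, hdo]
    · exact (hlt' ψ h).le
  have ht : ∑ ψ, m ψ * (d ψ - m ψ) + 2 * e = (h + 1) * e := by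
    rw [← E1, ← E2, ← Finset.sum_add_distrib]
    apply Finset.sum_congr rfl
    intro ψ _
    obtain ⟨k, hk⟩ := Nat.exists_eq_add_of_le (hle ψ)
    rw [hk, Nat.add_sub_cancel_left]; ring
  have hsplit := Finset.sum_add_sum_compl X' (fun ψ => m ψ * (d ψ - m ψ))
  have hmem : ∀ ψ ∈ X', ψ ≠ o ∧ ψ ∈ X := fun ψ hψ => Finset.mem_erase.1 hψ
  have h1 : ∀ ψ ∈ X', (h - 1) * m ψ ≤ m ψ * (d ψ - m ψ) := by
    intro ψ hψ
    obtain ⟨hne, hψX⟩ := hmem ψ hψ
    have hpos : 0 < d ψ - m ψ := Nat.sub_pos_of_lt (hlt' ψ hne)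
    have := Nat.le_of_dvd hpos (hdvd ψ hψX)
    rw [mul_comm]
    exact Nat.mul_le_mul_left _ this
  have h2 : (h - 1) * ∑ ψ ∈ X', m ψ ≤ ∑ ψ ∈ X', m ψ * (d ψ - m ψ) := by
    rw [Finset.mul_sum]
    exact Finset.sum_le_sum h1
  have hone : ∀ ψ ∈ X', 1 ≤ m ψ := fun ψ hψ => Nat.one_le_iff_ne_zero.2 (hm0 ψ (hmem ψ hψ).2)
  have h3 : X'.card ≤ ∑ ψ ∈ X', m ψ := by
    rw [Finset.card_eq_sum_ones]
    exact Finset.sum_le_sum hone
  obtain ⟨k, hk⟩ : ∃ k, h = k + 1 := ⟨h - 1, by omega⟩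
  subst hk
  simp only [Nat.add_sub_cancel] at *
  have hk0 : 0 < k := by omega
  set M := ∑ ψ ∈ X', m ψ with hM
  set T' := ∑ ψ ∈ X', m ψ * (d ψ - m ψ) with hT'
  set R := ∑ ψ ∈ X'ᶜ, m ψ * (d ψ - m ψ) with hR
  have e1 : T' + R = k * e := by
    have : (k + 1 + 1) * e = k * e + 2 * e := by ring
    omega
  have e2 : k * e ≤ k * M := Nat.mul_le_mul_left _ (hX'c.trans h3)
  have hR0 : R = 0 := by omega
  have hMe : M = e := by
    have : k * M = k * e := by omega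
    exact Nat.eq_of_mul_eq_mul_left hk0 this
  have hcard : X'.card = e := by omega
  have hm1 : ∀ ψ ∈ X', m ψ = 1 := by
    by_contra hcon
    push Not at hcon
    obtain ⟨ψ₀, hψ₀, hne⟩ := hcon
    have hlt2 : 1 < m ψ₀ := by have := hone ψ₀ hψ₀; omega
    have : ∑ _ψ ∈ X', 1 < ∑ ψ ∈ X', m ψ := Finset.sum_lt_sum hone ⟨ψ₀, hψ₀, hlt2⟩
    rw [← Finset.card_eq_sum_ones] at this
    omega
  have hrest : ∀ ψ ∈ X'ᶜ, ψ ≠ o → m ψ = 0 := by
    intro ψ hψ hne
    have := (Finset.sum_eq_zero_iff.1 hR0) ψ hψ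
    rcases Nat.mul_eq_zero.1 this with h | h
    · exact h
    · have := hlt' ψ hne; omega
  have hsplit2 := Finset.sum_add_sum_compl X' (fun ψ => m ψ ^ 2)
  have s1 : ∑ ψ ∈ X', m ψ ^ 2 = e := by
    rw [← hcard, Finset.card_eq_sum_ones]
    apply Finset.sum_congr rfl
    intro ψ hψ
    rw [hm1 ψ hψ]; norm_num
  have s2 : ∑ ψ ∈ X'ᶜ, m ψ ^ 2 = 1 := by
    rw [Finset.sum_eq_single o]
    · rw [hmo]; norm_num
    · intro ψ hψ hne
      rw [hrest ψ hψ hne]; norm_num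
    · intro h
      exfalso
      apply h
      rw [Finset.mem_compl, hX']
      exact Finset.notMem_erase o X
  omega

theorem not_dvd_aux {k e D : ℕ} (hk : 2 * e < k) (he : 0 < e) (h1 : k ∣ D)
    (h2 : D ∣ (k + 1 + 1) * (k + 1) * e) : False := by
  have h3 : k ∣ (k + 1 + 1) * (k + 1) * e := h1.trans h2
  have hcop : Nat.Coprime k (k + 1) := by simp
  have h4 : k ∣ (k + 1 + 1) * e := by
    have : (k + 1 + 1) * (k + 1) * e = (k + 1) * ((k + 1 + 1) * e) := by ring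
    rw [this] at h3
    exact hcop.dvd_of_dvd_mul_left h3
  have h5 : k ∣ 2 * e := by
    have : (k + 1 + 1) * e = k * e + 2 * e := by ring
    rw [this] at h4
    exact (Nat.dvd_add_right (Dvd.intro _ rfl)).1 h4
  have := Nat.le_of_dvd (by omega) h5
  omega

variable {G : Type*} [Group G] [Fintype G] {A H : Subgroup G} [Fintype A]

open Classical in
/-- The contradiction: `G` simple of order `(h+1) h e`, `H` a T.I. subgroup of order `h` whose
normaliser `A` is a Frobenius group of order `h e`, `Irr(A | H)` coherent, at least `e` classes of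
`G` miss `H`, and `2e < h - 1`. -/
theorem Setup.final [IsSimpleGroup G] (hs : Setup A H)
    (hcoh : IsCoherent (rel A H) ({1}ᶜ : Set A) (fun α : A → ℂ => indFun A α))
    (h e : ℕ) (hH : Nat.card H = h) (hA : Nat.card A = h * e) (hG : Nat.card G = (h + 1) * h * e)
    (hcl : e ≤ Nat.card {C : ConjClasses G // ∀ g : G, ConjClasses.mk g = C → g ∉ H})
    (hlt : 2 * e < h - 1) (he : 2 ≤ e) : False := by
  have : Fintype H := Fintype.ofFinite H
  have hh0 : 0 < h := by omega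
  have hmx : ∀ ψ : IrrCharacter G, ∃ n : ℕ,
      classInner (fun u : H => (ψ : G → ℂ) u) (fun _ => 1) = n := fun ψ =>
    inner_nat (char_restrict (irr_char ψ.2) H) (irr_char Cfsg.Agent.Lib.Helper74.isIrrCharacter_one)
  choose m hm using hmx
  have hd : ∀ ψ : IrrCharacter G, (ψ : G → ℂ) 1 = (charDegree (ψ : G → ℂ) : ℂ) := fun ψ =>
    Cfsg.Agent.Lib.Helper80.char_one_eq_charDegree (irr_char ψ.2)
  set d : IrrCharacter G → ℕ := fun ψ => charDegree (ψ : G → ℂ) with hddef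
  obtain ⟨E1, E2⟩ := hs.sums m d hm hd
  have hidx : H.index = (h + 1) * e := by
    have := H.card_mul_index
    rw [hH, hG] at this
    apply Nat.eq_of_mul_eq_mul_left hh0
    rw [this]; ring
  have hrel : H.relIndex A = e := by
    have := Subgroup.relIndex_mul_relIndex ⊥ H A bot_le hs.le
    rw [Subgroup.relIndex_bot_left, Subgroup.relIndex_bot_left, hH, hA] at this
    exact Nat.eq_of_mul_eq_mul_left hh0 this
  rw [hidx] at E1
  rw [hidx, hrel, hH] at E2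
  have E2' : ∑ ψ, m ψ ^ 2 = 2 * e := by
    apply Nat.eq_of_mul_eq_mul_left hh0
    have : (h + 1) * e + h * e = h * (2 * e) + e := by ring
    omega
  let o : IrrCharacter G := ⟨fun _ => 1, Cfsg.Agent.Lib.Helper74.isIrrCharacter_one⟩
  have hHbot : H ≠ ⊥ := by
    intro hb
    rw [hb, Subgroup.card_bot] at hH
    omega
  have hlt' : ∀ ψ, ψ ≠ o → m ψ < d ψ := by
    intro ψ hne
    obtain ⟨h1, h2⟩ := mult_le (char_restrict (irr_char ψ.2) H) (hm ψ) (hd ψ)
    refine lt_of_le_of_ne h1 ?_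
    intro heq
    apply hne
    have h3 := h2 heq
    have hker : H ≤ Cfsg.Agent.Lib.Helper80.charKer (ψ : G → ℂ) (irr_char ψ.2) := by
      intro u hu
      exact h3 ⟨u, hu⟩
    have hn := Cfsg.Agent.Lib.Helper80.charKer_normal (irr_char ψ.2)
    rcases hn.eq_bot_or_eq_top with hb | ht
    · exact absurd (le_bot_iff.1 (hb ▸ hker)) hHbot
    · apply Subtype.ext
      apply IndIrr.eq_one_of_const ψ.2
      intro g
      have : g ∈ Cfsg.Agent.Lib.Helper80.charKer (ψ : G → ℂ) (irr_char ψ.2) := by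
        rw [ht]; exact Subgroup.mem_top g
      exact this
  have hmo : m o = 1 := by
    have h1 := hm o
    have h2 : classInner (fun _ : H => (1 : ℂ)) (fun _ => 1) = 1 :=
      irr_inner_self Cfsg.Agent.Lib.Helper74.isIrrCharacter_one
    have h3 : (fun u : H => (o : G → ℂ) u) = fun _ => 1 := rfl
    rw [h3, h2] at h1
    exact_mod_cast h1.symm
  have hdo : d o = 1 := by
    have h1 := hd o
    have h2 : (o : G → ℂ) 1 = 1 := rfl
    rw [h2] at h1
    exact_mod_cast h1.symm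
  set X := Finset.univ.filter (fun ψ : IrrCharacter G =>
      ¬ ∃ a ∈ H, ∃ b ∈ H, a ≠ 1 ∧ b ≠ 1 ∧ (ψ : G → ℂ) a ≠ (ψ : G → ℂ) b) with hX
  have hXc : ∀ ψ ∈ X, ∀ a ∈ H, ∀ b ∈ H, a ≠ 1 → b ≠ 1 → (ψ : G → ℂ) a = (ψ : G → ℂ) b := by
    intro ψ hψ
    rw [hX, Finset.mem_filter] at hψ
    have := hψ.2
    push Not at this
    exact this
  have hdvd : ∀ ψ ∈ X, (h - 1) ∣ d ψ - m ψ := by
    intro ψ hψ
    have h1 := (mult_le (char_restrict (irr_char ψ.2) H) (hm ψ) (hd ψ)).1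
    have := const_dvd (H := H) (irr_char ψ.2) (hXc ψ hψ) (hm ψ) (hd ψ) h1 (by omega)
    rwa [hH] at this
  have hm0 : ∀ ψ ∈ X, m ψ ≠ 0 := by
    intro ψ hψ h0
    have h1 := hdvd ψ hψ
    rw [h0, Nat.sub_zero] at h1
    have h2 : d ψ ∣ Nat.card G := Cfsg.Agent.Lib.Helper80.charDegree_dvd_card ψ
    rw [hG] at h2
    obtain ⟨k, rfl⟩ : ∃ k, h = k + 1 := ⟨h - 1, by omega⟩
    rw [Nat.add_sub_cancel] at h1 hlt
    exact not_dvd_aux hlt (by omega) h1 h2
  have hXcard : e + 1 ≤ X.card := by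
    have h1 := hs.card_const_ge hcoh
    have h2 : (Finset.univ.filter (fun ψ : IrrCharacter G =>
      ¬ ∃ a ∈ H, ∃ b ∈ H, a ≠ 1 ∧ b ≠ 1 ∧ (ψ : G → ℂ) a ≠ (ψ : G → ℂ) b)).card = X.card := by
      rw [hX]
    rw [h2] at h1
    omega
  have hoX : o ∈ X := by
    rw [hX, Finset.mem_filter]
    refine ⟨Finset.mem_univ _, ?_⟩
    rintro ⟨a, _, b, _, _, _, hab⟩
    exact hab rfl
  exact arith_final m d X o hoX h e he hlt hmo hdo hlt' hdvd hm0 hXcard E1 E2'

end Cfsg.Agent.Lib.Helper6.TIFrob
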