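import Cfsg.Agent.Lib.Helper6.Zas7
import Cfsg.Agent.Lib.Helper6.TIFrob3

set_option autoImplicit false
set_option linter.unusedSectionVars false

/-! # Zassenhaus groups: the Frobenius kernel of a point stabiliser -/

namespace Cfsg.Agent.Lib.Helper6.Zas

open MulAction
open scoped Pointwise

variable {G Ω : Type*} [Group G] [MulAction G Ω]

/-- The Frobenius kernel of the point stabiliser. -/
theorem exists_kernel (hZ : Cfsg.IsZassenhausGroup G Ω) [Finite G] [Fintype Ω] {a b : Ω}
    (hab : a ≠ b) :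
    ∃ H : Subgroup G, H ≤ stabilizer G a ∧ (H.subgroupOf (stabilizer G a)).Normal ∧
      Nat.card H + 1 = Fintype.card Ω ∧ (∀ u ∈ H, u ≠ 1 → ∀ c : Ω, u • c = c → c = a) := by
  classical
  have hb := base_of_zassenhaus hZ
  have : Fintype G := Fintype.ofFinite G
  set A : Subgroup G := stabilizer G a with hA
  set F : Subgroup A := (A ⊓ stabilizer G b).subgroupOf A with hF
  have memF : ∀ x : A, x ∈ F ↔ (x : G) • b = b := by
    intro x
    rw [hF, Subgroup.mem_subgroupOf, Subgroup.mem_inf]
    exact ⟨fun h => h.2, fun h => ⟨x.2, h⟩⟩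
  have hFbot : F ≠ ⊥ := by
    intro h
    have h1 := one_lt_card_stab2 hZ hab
    rw [Finite.one_lt_card_iff_nontrivial] at h1
    obtain ⟨x, hx⟩ := exists_ne (1 : ↥(stabilizer G a ⊓ stabilizer G b))
    have h2 : (⟨x, x.2.1⟩ : A) ∈ F := (memF _).2 x.2.2
    rw [h, Subgroup.mem_bot] at h2
    have h3 : (x : G) = 1 := congrArg Subtype.val h2
    exact hx (Subtype.ext h3)
  have hFtop : F ≠ ⊤ := by
    intro h
    obtain ⟨c, hca, hcb⟩ := exists_third hZ a b
    obtain ⟨g, hga, hgb⟩ := hb.two hab hca.symm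
    have h2 : (⟨g, hga⟩ : A) ∈ F := by rw [h]; exact Subgroup.mem_top _
    rw [memF] at h2
    exact hcb (hgb.symm.trans h2)
  have hFrob : Cfsg.IsFrobeniusComplement F := by
    refine ⟨hFbot, hFtop, ?_⟩
    intro g hg
    rw [eq_bot_iff]
    rintro x ⟨hx1, hx2⟩
    rw [Subgroup.mem_bot]
    obtain ⟨y, hy, hyx⟩ := hx2
    have hyb : (y : G) • b = b := (memF y).1 hy
    have hxb : (x : G) • b = b := (memF x).1 hx1
    have hxe : (x : G) = g * y * (g : G)⁻¹ := by
      rw [← hyx]
      simp [MulAut.conj_apply]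
    have hgb : (g : G) • b ≠ b := fun h => hg ((memF g).2 h)
    have hga : (g : G) • a = a := g.2
    have hgba : (g : G) • b ≠ a := by
      intro h
      exact hab (MulAction.injective (g : G) (hga.trans h.symm))
    apply Subtype.ext
    apply hb.three (x : G) a b ((g : G) • b) hab hgb.symm hgba.symm x.2 hxb
    rw [hxe, mul_smul, mul_smul, inv_smul_smul, hyb]
  obtain ⟨N, hNset, hNn, hNc⟩ := Cfsg.Agent.S0035.result F hFrob
  obtain ⟨h, hh⟩ : ∃ h, Fintype.card Ω = h + 1 :=
    ⟨Fintype.card Ω - 1, by have : 0 < Fintype.card Ω := Fintype.card_pos_iff.2 ⟨a⟩; omega⟩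
  have hcardF : Nat.card F = Nat.card ↥(A ⊓ stabilizer G b) :=
    Nat.card_congr (Subgroup.subgroupOfEquivOfLe inf_le_left).toEquiv
  have hcardA : Nat.card A = h * Nat.card ↥(A ⊓ stabilizer G b) := by
    rw [← hb.card_stab1 hab rfl hh a, Nat.card_eq_fintype_card, Fintype.card_subtype]
    rfl
  have hcardN : Nat.card N = h := by
    have h1 := hNc.card_mul_card
    rw [hcardF, hcardA] at h1
    exact Nat.eq_of_mul_eq_mul_right Nat.card_pos h1
  refine ⟨N.map A.subtype, Subgroup.map_subtype_le N, ?_, ?_, ?_⟩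
  · have : (N.map A.subtype).subgroupOf A = N :=
      Subgroup.comap_map_eq_self_of_injective A.subtype_injective N
    rw [this]
    exact hNn
  · rw [Subgroup.card_map_of_injective A.subtype_injective, hcardN, hh]
  · rintro u ⟨x, hx, rfl⟩ hu1 c hc
    by_contra hca
    obtain ⟨g, hga, hgb⟩ := hb.two hab (Ne.symm hca)
    have hx' : x ∈ Cfsg.frobeniusKernel F := by rw [← hNset]; exact hx
    rcases hx' with rfl | hx'
    · exact hu1 rfl
    · apply hx' ⟨g, hga⟩
      refine ⟨(⟨g, hga⟩ : A)⁻¹ * x * ⟨g, hga⟩, ?_, ?_⟩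
      · rw [SetLike.mem_coe, memF]
        show (g⁻¹ * (x : G) * g) • b = b
        rw [mul_smul, mul_smul, hgb, inv_smul_eq_iff, hgb]
        exact hc
      · simp [MulAut.conj_apply, mul_assoc]

/-- The kernel acts regularly on the remaining points. -/
theorem kernel_regular [Fintype Ω] {a : Ω} (H : Subgroup G) (hHa : H ≤ stabilizer G a)
    (hHcard : Nat.card H + 1 = Fintype.card Ω)
    (hHfix : ∀ u ∈ H, u ≠ 1 → ∀ c : Ω, u • c = c → c = a) :
    ∀ y z : Ω, y ≠ a → z ≠ a → ∃! u : H, (u : G) • y = z := by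
  classical
  intro y z hy hz
  have hfin : Finite H := Nat.finite_of_card_ne_zero (by
    have : 1 < Fintype.card Ω := Fintype.one_lt_card_iff.2 ⟨y, a, hy⟩
    omega)
  have : Fintype H := Fintype.ofFinite H
  let f : H → {c : Ω // c ≠ a} := fun u => ⟨(u : G) • y, by
    intro h
    apply hy
    have h1 : (u : G) • a = a := hHa u.2
    exact MulAction.injective (u : G) (h.trans h1.symm)⟩
  have hinj : Function.Injective f := by
    intro u v huv
    have h1 : (u : G) • y = (v : G) • y := congrArg Subtype.val huv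
    by_contra hne
    apply hy
    apply hHfix ((v : G)⁻¹ * u) (H.mul_mem (H.inv_mem v.2) u.2)
    · intro h
      apply hne
      apply Subtype.ext
      exact (inv_mul_eq_one.1 h).symm
    · rw [mul_smul, h1, inv_smul_smul]
  have hcard : Fintype.card H = Fintype.card {c : Ω // c ≠ a} := by
    rw [Fintype.card_subtype_compl, Fintype.card_subtype_eq, ← Nat.card_eq_fintype_card]
    omega
  have hbij := (Fintype.bijective_iff_injective_and_card f).2 ⟨hinj, hcard⟩
  obtain ⟨u, hu⟩ := hbij.2 ⟨z, hz⟩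
  refine ⟨u, congrArg Subtype.val hu, ?_⟩
  intro v hv
  apply hinj
  rw [hu]
  exact Subtype.ext hv

/-- The elements fixing only `a` lie in the kernel. -/
theorem mem_kernel (hb : Base G Ω) [Finite G] [Fintype Ω] {a b : Ω} (hab : a ≠ b)
    (H : Subgroup G) (hHa : H ≤ stabilizer G a)
    (hHcard : Nat.card H + 1 = Fintype.card Ω)
    (hHfix : ∀ u ∈ H, u ≠ 1 → ∀ c : Ω, u • c = c → c = a) :
    ∀ g : G, g • a = a → (∀ d : Ω, g • d = d → d = a) → g ∈ H := by
  classical
  have : Fintype G := Fintype.ofFinite G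
  obtain ⟨h, hh⟩ : ∃ h, Fintype.card Ω = h + 1 :=
    ⟨Fintype.card Ω - 1, by have : 0 < Fintype.card Ω := Fintype.card_pos_iff.2 ⟨a⟩; omega⟩
  have hSa := hb.card_fix_only hab rfl hh a
  set Sa := Finset.univ.filter (fun g : G => g • a = a ∧ ∀ d : Ω, g • d = d → d = a) with hSa'
  set Hf := (Finset.univ.filter (fun g : G => g ∈ H)).erase 1 with hHf
  have h1 : Hf ⊆ Sa := by
    intro g hg
    rw [hHf, Finset.mem_erase, Finset.mem_filter] at hg
    rw [hSa', Finset.mem_filter]
    exact ⟨Finset.mem_univ _, hHa hg.2.2, hHfix g hg.2.2 hg.1⟩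
  have h2 : Hf.card + 1 = h := by
    have h3 : (Finset.univ.filter (fun g : G => g ∈ H)).card = Nat.card H := by
      rw [Nat.card_eq_fintype_card, ← Fintype.card_subtype]
    rw [hHf, Finset.card_erase_of_mem (by simp [H.one_mem]), h3]
    have : 0 < Nat.card H := Nat.card_pos
    omega
  have h4 : Hf = Sa := Finset.eq_of_subset_of_card_le h1 (by omega)
  intro g hga hg
  have h5 : g ∈ Sa := by
    rw [hSa', Finset.mem_filter]
    exact ⟨Finset.mem_univ _, hga, hg⟩
  rw [← h4, hHf, Finset.mem_erase, Finset.mem_filter] at h5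
  exact h5.2.2

/-- The kernel is a T.I. subgroup with Frobenius normaliser. -/
theorem kernel_setup (hb : Base G Ω) [Finite G] [Fintype Ω] {a b : Ω} (hab : a ≠ b)
    (H : Subgroup G) (hHa : H ≤ stabilizer G a)
    (hHcard : Nat.card H + 1 = Fintype.card Ω)
    (hHfix : ∀ u ∈ H, u ≠ 1 → ∀ c : Ω, u • c = c → c = a) :
    TIFrob.Setup (stabilizer G a) H where
  le := hHa
  normal := by
    intro x hx u hu
    by_cases hu1 : u = 1
    · subst hu1
      simp [H.one_mem]
    have hxa : x • a = a := hx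
    have hxa' : x⁻¹ • a = a := by rw [inv_smul_eq_iff, hxa]
    have hua : u • a = a := hHa hu
    apply mem_kernel hb hab H hHa hHcard hHfix
    · rw [mul_smul, mul_smul, hxa', hua, hxa]
    · intro d hd
      rw [mul_smul, mul_smul, ← eq_inv_smul_iff] at hd
      have := hHfix u hu hu1 _ hd
      rw [inv_smul_eq_iff, hxa] at this
      exact this
  ti := by
    intro g u hu hu1 hgu
    have hua : u • a = a := hHa hu
    have h1 : g * u * g⁻¹ ≠ 1 := by
      intro h
      apply hu1
      have : u = g⁻¹ * (g * u * g⁻¹) * g := by group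
      rw [this, h]; group
    exact hHfix _ hgu h1 (g • a) (by rw [mul_smul, mul_smul, inv_smul_smul, hua])
  cent := by
    intro u hu hu1 x hx
    rw [Subgroup.mem_centralizer_singleton_iff] at hx
    have hua : u • a = a := hHa hu
    have hxa : x • a = a := by
      apply hHfix u hu hu1
      rw [← mul_smul, ← hx, mul_smul, hua]
    by_cases hx1 : x = 1
    · rw [hx1]; exact H.one_mem
    apply mem_kernel hb hab H hHa hHcard hHfix x hxa
    intro c hc
    by_contra hca
    have huc : u • c ≠ c := fun h => hca (hHfix u hu hu1 c h)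
    have huca : u • c ≠ a := by
      intro h
      exact hca (MulAction.injective u (h.trans hua.symm))
    apply hx1
    apply hb.three x a c (u • c) (Ne.symm hca) huc.symm huca.symm hxa hc
    rw [← mul_smul, hx, mul_smul, hc]

end Cfsg.Agent.Lib.Helper6.Zas
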