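import Cfsg.Agent.Lib.Helper6.ZasFeit
import Cfsg.Agent.S0040
import Cfsg.Agent.S0042

set_option autoImplicit false
set_option linter.unusedSectionVars false

/-! # Doubly transitive groups with trivial three point stabilisers and a regular normal subgroup -/

namespace Cfsg.Agent.Lib.Helper6.ZasReg

open MulAction Cfsg.Agent.Lib.Helper6.Zas
open scoped Pointwise

theorem card_of_fixed {F : Type*} [Field F] [Fintype F] (φ : F ≃+* F) (s : ℕ) (hs : orderOf φ = s)
    (hfix : ∀ z : F, φ z = z → z = 0 ∨ z = 1) : Fintype.card F = 2 ^ s := by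
  classical
  let Z : Subgroup (RingAut F) := Subgroup.zpowers φ
  have hfin : Finite (RingAut F) := Finite.of_injective (fun f : RingAut F => (f : F → F)) DFunLike.coe_injective
  have : Fintype Z := Fintype.ofFinite Z
  have h1 : Module.finrank (FixedPoints.subfield Z F) F = Fintype.card Z :=
    FixedPoints.finrank_eq_card Z F
  have h2 : Fintype.card Z = s := by
    rw [← Nat.card_eq_fintype_card, Nat.card_zpowers, hs]
  have : Fintype (FixedPoints.subfield Z F) := Fintype.ofFinite _
  have h3 : Fintype.card (FixedPoints.subfield Z F) = 2 := by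
    rw [← Nat.card_eq_fintype_card, Nat.card_eq_two_iff]
    refine ⟨0, 1, zero_ne_one, ?_⟩
    ext z
    simp only [Set.mem_insert_iff, Set.mem_singleton_iff, Set.mem_univ, iff_true]
    have hz : φ (z : F) = z := z.2 ⟨φ, Subgroup.mem_zpowers φ⟩
    rcases hfix _ hz with h | h
    · left; exact Subtype.ext h
    · right; exact Subtype.ext h
  rw [Module.card_eq_pow_finrank (K := FixedPoints.subfield Z F) (V := F), h3, h1, h2]

theorem card_of_semiaffine {G X F : Type*} [Group G] [MulAction G X] [Field F] [Fintype F]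
    (ε : X ≃ F) (y : G) (s : ℕ) (hs : s.Prime) (hy : orderOf y = s) (α : Fˣ) (β : F) (φ : F ≃+* F)
    (hφ : ∀ x, ε (y • x) = α * φ (ε x) + β) (a b : X) (hab : a ≠ b) (hya : y • a = a)
    (hyb : y • b = b) (hthree : ∀ c : X, y • c = c → c = a ∨ c = b) (hmove : ∃ c : X, y • c ≠ c) :
    Fintype.card F = 2 ^ s := by
  classical
  have hpow : ∀ m : ℕ, ∃ (αm βm : F), ∀ x, ε (y ^ m • x) = αm * (φ ^ m) (ε x) + βm := by
    intro m
    induction m with
    | zero => exact ⟨1, 0, fun x => by simp⟩
    | succ m ih =>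
      obtain ⟨αm, βm, h⟩ := ih
      refine ⟨α * φ αm, α * φ βm + β, fun x => ?_⟩
      rw [pow_succ', mul_smul, hφ, h, pow_succ', RingAut.mul_apply, map_add, map_mul]
      ring
  have hφs : φ ^ s = 1 := by
    obtain ⟨αm, βm, h⟩ := hpow s
    rw [← hy, pow_orderOf_eq_one] at h
    simp only [one_smul] at h
    have h0 := h (ε.symm 0)
    have h1 := h (ε.symm 1)
    simp only [Equiv.apply_symm_apply, map_zero, mul_zero, zero_add, map_one, mul_one] at h0 h1
    rw [← h0, add_zero] at h1
    ext z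
    have hz := h (ε.symm z)
    simp only [Equiv.apply_symm_apply] at hz
    rw [← h0, ← h1, one_mul, add_zero] at hz
    rw [hy] at hz
    rw [← hz]; rfl
  set u := ε a with hu
  set v := ε b with hv
  have huv : v - u ≠ 0 := by
    intro h
    exact hab (ε.injective (sub_eq_zero.1 h).symm)
  have hu' : (α : F) * φ u + β = u := by rw [hu, ← hφ, hya]
  have hv' : (α : F) * φ v + β = v := by rw [hv, ← hφ, hyb]
  have hw : (α : F) * φ (v - u) = v - u := by
    rw [map_sub, mul_sub]
    linear_combination hv' - hu'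
  have hfixpt : ∀ z : F, φ z = z → y • ε.symm (u + (v - u) * z) = ε.symm (u + (v - u) * z) := by
    intro z hz
    apply ε.injective
    rw [hφ, Equiv.apply_symm_apply, map_add, map_mul, hz]
    linear_combination hu' + z * hw
  have hfix : ∀ z : F, φ z = z → z = 0 ∨ z = 1 := by
    intro z hz
    rcases hthree _ (hfixpt z hz) with h | h
    · left
      have h1 : u + (v - u) * z = u := (ε.symm_apply_eq.1 h).trans hu.symm
      have h2 : (v - u) * z = 0 := by linear_combination h1
      exact (mul_eq_zero.1 h2).resolve_left huv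
    · right
      have h1 : u + (v - u) * z = v := (ε.symm_apply_eq.1 h).trans hv.symm
      have h2 : (v - u) * (z - 1) = 0 := by linear_combination h1
      exact sub_eq_zero.1 ((mul_eq_zero.1 h2).resolve_left huv)
  have hφ1 : φ ≠ 1 := by
    intro h
    obtain ⟨c, hc⟩ := hmove
    apply hc
    have h1 := hfixpt ((ε c - u) / (v - u)) (by rw [h]; rfl)
    have h2 : u + (v - u) * ((ε c - u) / (v - u)) = ε c := by field_simp; ring
    rwa [h2, Equiv.symm_apply_apply] at h1
  have : Fact s.Prime := ⟨hs⟩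
  exact card_of_fixed φ s (orderOf_eq_prime hφs hφ1) hfix

theorem isCyclic_of_fpf {G : Type*} [Group G] [Finite G] (N T : Subgroup G) [hNn : N.Normal] (hN : N ≠ ⊥)
    (hfpf : ∀ t ∈ T, t ≠ 1 → ∀ n ∈ N, t * n * t⁻¹ = n → n = 1) (hodd : Odd (Nat.card T))
    (hnil : Group.IsNilpotent T) : IsCyclic T := by
  classical
  set M : Subgroup G := N ⊔ T with hM
  set K : Subgroup M := N.subgroupOf M with hK
  set H : Subgroup M := T.subgroupOf M with hH
  have hKn : K.Normal := hNn.subgroupOf M
  have hdisj : Disjoint K H := by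
    rw [Subgroup.disjoint_def]
    intro x hxK hxH
    rw [hK, Subgroup.mem_subgroupOf] at hxK
    rw [hH, Subgroup.mem_subgroupOf] at hxH
    by_contra hx1
    have hx1' : (x : G) ≠ 1 := fun h => hx1 (Subtype.ext h)
    exact hx1' (hfpf _ hxH hx1' _ hxK (by group))
  have hc : Subgroup.IsComplement' K H := by
    apply Subgroup.isComplement'_of_disjoint_and_mul_eq_univ hdisj
    rw [Set.eq_univ_iff_forall]
    intro x
    have hx : (x : G) ∈ ((N ⊔ T : Subgroup G) : Set G) := x.2
    rw [Subgroup.normal_mul] at hx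
    obtain ⟨n, hn, t, ht, hnt⟩ := hx
    refine ⟨⟨n, Subgroup.mem_sup_left hn⟩, hn, ⟨t, Subgroup.mem_sup_right ht⟩, ht, Subtype.ext hnt⟩
  have hKbot : K ≠ ⊥ := by
    intro h
    apply hN
    rw [eq_bot_iff]
    intro n hn
    have h1 : (⟨n, Subgroup.mem_sup_left hn⟩ : M) ∈ K := hn
    rw [h, Subgroup.mem_bot] at h1
    exact congrArg Subtype.val h1
  have hfpf' : ∀ h ∈ H, h ≠ 1 → K ⊓ Subgroup.centralizer {h} = ⊥ := by
    intro h hh h1
    rw [eq_bot_iff]
    rintro x ⟨hxK, hxc⟩
    rw [Subgroup.mem_bot]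
    apply Subtype.ext
    replace hxc : x ∈ Subgroup.centralizer {h} := hxc
    rw [Subgroup.mem_centralizer_singleton_iff] at hxc
    apply hfpf (h : G) hh (fun h' => h1 (Subtype.ext h')) (x : G) hxK
    have h2 : (h : G) * x = x * h := by
      have := congrArg Subtype.val hxc
      simpa using this.symm
    rw [h2, mul_inv_cancel_right]
  let e : H ≃* T := Subgroup.subgroupOfEquivOfLe le_sup_right
  have hZH : IsZGroup H := by
    rw [isZGroup_iff]
    intro p hp P
    have : Fact p.Prime := ⟨hp⟩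
    rcases Cfsg.Agent.S0040.result K H hc hKbot hfpf' p P with h | ⟨n, ⟨f⟩⟩
    · exact h
    · exfalso
      have h1 : Nat.card P = 4 * 2 ^ n := by
        rw [Nat.card_congr f.toEquiv, Nat.card_eq_fintype_card, QuaternionGroup.card]
      have h2 : Nat.card P ∣ Nat.card H := Subgroup.card_subgroup_dvd_card _
      rw [Nat.card_congr e.toEquiv, h1] at h2
      have h3 : 2 ∣ Nat.card T := Dvd.dvd.trans ⟨2 * 2 ^ n, by ring⟩ h2
      exact (Nat.not_even_iff_odd.2 hodd) (even_iff_two_dvd.2 h3)
  have hZT : IsZGroup T := IsZGroup.of_injective (f := e.symm.toMonoidHom) e.symm.injective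
  infer_instance

/-- The Frobenius kernel of the point stabiliser (no assumption on regular normal subgroups). -/
theorem exists_kernel' {G Ω : Type*} [Group G] [MulAction G Ω] (hb : Base G Ω) [Finite G] [Fintype Ω] {a b : Ω}
    (hab : a ≠ b) (hnt : ∃ x : G, x ≠ 1 ∧ x • a = a ∧ x • b = b) :
    ∃ H : Subgroup G, H ≤ stabilizer G a ∧ (H.subgroupOf (stabilizer G a)).Normal ∧
      Nat.card H + 1 = Fintype.card Ω ∧ (∀ u ∈ H, u ≠ 1 → ∀ c : Ω, u • c = c → c = a) ∧
      Group.IsNilpotent H := by
  classical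
  have : Fintype G := Fintype.ofFinite G
  set A : Subgroup G := stabilizer G a with hA
  set F : Subgroup A := (A ⊓ stabilizer G b).subgroupOf A with hF
  have memF : ∀ x : A, x ∈ F ↔ (x : G) • b = b := by
    intro x
    rw [hF, Subgroup.mem_subgroupOf, Subgroup.mem_inf]
    exact ⟨fun h => h.2, fun h => ⟨x.2, h⟩⟩
  obtain ⟨x₀, hx₀1, hx₀a, hx₀b⟩ := hnt
  have hFbot : F ≠ ⊥ := by
    intro h
    have h2 : (⟨x₀, hx₀a⟩ : A) ∈ F := (memF _).2 hx₀b
    rw [h, Subgroup.mem_bot] at h2
    exact hx₀1 (congrArg Subtype.val h2)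
  have hFtop : F ≠ ⊤ := by
    intro h
    obtain ⟨c, hc⟩ : ∃ c : Ω, x₀ • c ≠ c := by
      by_contra hcon
      push Not at hcon
      exact hx₀1 (hb.faithful x₀ hcon)
    have hca : c ≠ a := fun h' => hc (by rw [h']; exact hx₀a)
    have hcb : c ≠ b := fun h' => hc (by rw [h']; exact hx₀b)
    obtain ⟨g, hga, hgb⟩ := hb.two hab hca.symm
    have h2 : (⟨g, hga⟩ : A) ∈ F := by rw [h]; exact Subgroup.mem_top _
    rw [memF] at h2
    exact hcb (hgb.symm.trans h2)
  have hFrob : Cfsg.IsFrobeniusComplement F := by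
    refine ⟨hFbot, hFtop, ?_⟩
    intro g hg
    rw [eq_bot_iff]
    rintro x ⟨hx1, hx2⟩
    rw [Subgroup.mem_bot]
    obtain ⟨y, hy, hyx⟩ := hx2
    have hyb : (y : G) • b = b := (memF y).1 hy
    have hxb : (x : G) • b = b := (memF x).1 hx1
    have hxe : (x : G) = g * y * (g : G)⁻¹ := by
      rw [← hyx]
      simp [MulAut.conj_apply]
    have hgb : (g : G) • b ≠ b := fun h => hg ((memF g).2 h)
    have hga : (g : G) • a = a := g.2
    have hgba : (g : G) • b ≠ a := by
      intro h
      exact hab (MulAction.injective (g : G) (hga.trans h.symm))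
    apply Subtype.ext
    apply hb.three (x : G) a b ((g : G) • b) hab hgb.symm hgba.symm x.2 hxb
    rw [hxe, mul_smul, mul_smul, inv_smul_smul, hyb]
  obtain ⟨N, hNset, hNn, hNc⟩ := Cfsg.Agent.S0035.result F hFrob
  obtain ⟨N', hN'set, -, hN'nil⟩ := Cfsg.Agent.S0042.result F hFrob
  have hNN' : N' = N := SetLike.coe_injective (hN'set.trans hNset.symm)
  rw [hNN'] at hN'nil
  obtain ⟨h, hh⟩ : ∃ h, Fintype.card Ω = h + 1 :=
    ⟨Fintype.card Ω - 1, by have : 0 < Fintype.card Ω := Fintype.card_pos_iff.2 ⟨a⟩; omega⟩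
  have hcardF : Nat.card F = Nat.card ↥(A ⊓ stabilizer G b) :=
    Nat.card_congr (Subgroup.subgroupOfEquivOfLe inf_le_left).toEquiv
  have hcardA : Nat.card A = h * Nat.card ↥(A ⊓ stabilizer G b) := by
    rw [← hb.card_stab1 hab rfl hh a, Nat.card_eq_fintype_card, Fintype.card_subtype]
    rfl
  have hcardN : Nat.card N = h := by
    have h1 := hNc.card_mul_card
    rw [hcardF, hcardA] at h1
    exact Nat.eq_of_mul_eq_mul_right Nat.card_pos h1
  refine ⟨N.map A.subtype, Subgroup.map_subtype_le N, ?_, ?_, ?_, ?_⟩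
  · have : (N.map A.subtype).subgroupOf A = N :=
      Subgroup.comap_map_eq_self_of_injective A.subtype_injective N
    rw [this]
    exact hNn
  · rw [Subgroup.card_map_of_injective A.subtype_injective, hcardN, hh]
  · rintro u ⟨x, hx, rfl⟩ hu1 c hc
    by_contra hca
    obtain ⟨g, hga, hgb⟩ := hb.two hab (Ne.symm hca)
    have hx' : x ∈ Cfsg.frobeniusKernel F := by rw [← hNset]; exact hx
    rcases hx' with rfl | hx'
    · exact hu1 rfl
    · apply hx' ⟨g, hga⟩
      refine ⟨(⟨g, hga⟩ : A)⁻¹ * x * ⟨g, hga⟩, ?_, ?_⟩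
      · rw [SetLike.mem_coe, memF]
        show (g⁻¹ * (x : G) * g) • b = b
        rw [mul_smul, mul_smul, hgb, inv_smul_eq_iff, hgb]
        exact hc
      · simp [MulAut.conj_apply, mul_assoc]
  · exact (Group.isNilpotent_congr (N.equivMapOfInjective A.subtype A.subtype_injective)).1 hN'nil

end Cfsg.Agent.Lib.Helper6.ZasReg
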