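import Cfsg.Prelude.Def_Sporadic_a

set_option autoImplicit false
set_option linter.unusedSectionVars false

/-! # Counting in Steiner systems -/

namespace Cfsg.Agent.Lib.Helper6.Steiner

open Finset Cfsg

variable {α : Type*} [Fintype α] [DecidableEq α] {t k : ℕ} {B : Set (Finset α)}

open Classical in
/-- the blocks as a finset -/
noncomputable def blocks (B : Set (Finset α)) : Finset (Finset α) := Finset.univ.filter (· ∈ B)

@[simp] theorem mem_blocks {b : Finset α} : b ∈ blocks B ↔ b ∈ B := by
  classical
  simp [blocks]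

theorem coe_blocks : (blocks B : Set (Finset α)) = B := by
  ext b; simp

theorem ncard_eq : B.ncard = (blocks B).card := by
  rw [← Set.ncard_coe_finset, coe_blocks]

theorem ncard_sep (p : Finset α → Prop) [DecidablePred p] :
    {c | c ∈ B ∧ p c}.ncard = ((blocks B).filter p).card := by
  rw [← Set.ncard_coe_finset]
  congr 1
  ext c
  simp

/-- number of `t`-subsets `s` with `I ⊆ s ⊆ c`. -/
theorem card_between {I c : Finset α} (hI : I ⊆ c) (ht : I.card ≤ t) :
    ((powersetCard t c).filter (I ⊆ ·)).card = (c.card - I.card).choose (t - I.card) := by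
  rw [← card_sdiff_of_subset hI, ← card_powersetCard]
  refine card_bij' (fun s _ => s \ I) (fun u _ => u ∪ I) ?_ ?_ ?_ ?_
  · intro s hs
    simp only [mem_filter, mem_powersetCard] at hs ⊢
    obtain ⟨⟨h1, h2⟩, h3⟩ := hs
    exact ⟨sdiff_subset_sdiff h1 (Subset.refl _), by rw [card_sdiff_of_subset h3, h2]⟩
  · intro u hu
    simp only [mem_filter, mem_powersetCard] at hu ⊢
    obtain ⟨h1, h2⟩ := hu
    refine ⟨⟨union_subset (h1.trans sdiff_subset) hI, ?_⟩, subset_union_right⟩
    rw [card_union_of_disjoint, h2]
    · omega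
    · exact disjoint_of_subset_left h1 sdiff_disjoint
  · intro s hs
    simp only [mem_filter, mem_powersetCard] at hs
    exact sdiff_union_of_subset hs.2
  · intro u hu
    simp only [mem_powersetCard] at hu
    refine union_sdiff_cancel_right ?_
    exact disjoint_of_subset_left hu.1 sdiff_disjoint

theorem eq_of_subset (hB : IsSteinerSystem t k B) {s b c : Finset α} (hs : s.card = t)
    (hb : b ∈ B) (hc : c ∈ B) (hsb : s ⊆ b) (hsc : s ⊆ c) : b = c :=
  (hB.2 s hs).unique ⟨hb, hsb⟩ ⟨hc, hsc⟩

theorem eq_of_le_card_inter (hB : IsSteinerSystem t k B) {b c : Finset α}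
    (hb : b ∈ B) (hc : c ∈ B) (h : t ≤ (b ∩ c).card) : b = c := by
  obtain ⟨s, hs, hcard⟩ := exists_subset_card_eq h
  exact eq_of_subset hB hcard hb hc (hs.trans inter_subset_left) (hs.trans inter_subset_right)

/-- the number `λ_i` of blocks containing an `i`-set. -/
theorem card_blocks_containing (hB : IsSteinerSystem t k B) {I : Finset α} (hI : I.card ≤ t) :
    ((blocks B).filter (I ⊆ ·)).card * (k - I.card).choose (t - I.card) =
      (Fintype.card α - I.card).choose (t - I.card) := by
  have h := sum_card_bipartiteAbove_eq_sum_card_bipartiteBelow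
    (s := (powersetCard t (univ : Finset α)).filter (I ⊆ ·))
    (t := (blocks B).filter (I ⊆ ·)) (fun s c => s ⊆ c)
  have h1 : ∀ s ∈ (powersetCard t (univ : Finset α)).filter (I ⊆ ·),
      (bipartiteAbove (fun s c => s ⊆ c) ((blocks B).filter (I ⊆ ·)) s).card = 1 := by
    intro s hs
    simp only [mem_filter, mem_powersetCard] at hs
    obtain ⟨b, ⟨hb, hsb⟩, huniq⟩ := hB.2 s hs.1.2
    rw [card_eq_one]
    refine ⟨b, ?_⟩
    ext c
    simp only [bipartiteAbove, mem_filter, mem_blocks, mem_singleton]
    constructor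
    · rintro ⟨⟨hc, _⟩, hsc⟩
      exact huniq c ⟨hc, hsc⟩
    · rintro rfl
      exact ⟨⟨hb, hs.2.trans hsb⟩, hsb⟩
  have h2 : ∀ c ∈ (blocks B).filter (I ⊆ ·),
      (bipartiteBelow (fun s c => s ⊆ c) ((powersetCard t (univ : Finset α)).filter (I ⊆ ·)) c).card
        = (k - I.card).choose (t - I.card) := by
    intro c hc
    simp only [mem_filter, mem_blocks] at hc
    rw [← hB.1 c hc.1, ← card_between hc.2 hI]
    congr 1
    ext s
    simp only [bipartiteBelow, mem_filter, mem_powersetCard, subset_univ, true_and]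
    tauto
  rw [sum_congr rfl h1, sum_congr rfl h2] at h
  simp only [sum_const, smul_eq_mul, mul_one] at h
  rw [← h, card_between (subset_univ I) hI, card_univ]

/-- moment identity for the intersection sizes with a fixed block. -/
theorem sum_choose_inter (hB : IsSteinerSystem t k B) {b : Finset α} (hb : b ∈ B) {i : ℕ}
    (hi : i ≤ t) :
    (∑ c ∈ blocks B, ((b ∩ c).card).choose i) * (k - i).choose (t - i) =
      k.choose i * (Fintype.card α - i).choose (t - i) := by
  have h := sum_card_bipartiteAbove_eq_sum_card_bipartiteBelow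
    (s := powersetCard i b) (t := blocks B) (fun I c => I ⊆ c)
  have h2 : ∀ c ∈ blocks B, (bipartiteBelow (fun I c => I ⊆ c) (powersetCard i b) c).card
      = ((b ∩ c).card).choose i := by
    intro c _
    rw [← card_powersetCard]
    congr 1
    ext I
    simp only [bipartiteBelow, mem_filter, mem_powersetCard, subset_inter_iff]
    tauto
  rw [sum_congr rfl h2] at h
  rw [← h, sum_mul]
  have h1 : ∀ I ∈ powersetCard i b,
      (bipartiteAbove (fun I c => I ⊆ c) (blocks B) I).card * (k - i).choose (t - i)
        = (Fintype.card α - i).choose (t - i) := by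
    intro I hI
    simp only [mem_powersetCard] at hI
    have := card_blocks_containing hB (I := I) (by rw [hI.2]; exact hi)
    rw [hI.2] at this
    exact this
  rw [sum_congr rfl h1]
  simp only [sum_const, smul_eq_mul, card_powersetCard, hB.1 b hb]

/-- `x_j`: number of blocks meeting `b` in exactly `j` points. -/
noncomputable def xnum (B : Set (Finset α)) (b : Finset α) (j : ℕ) : ℕ :=
  ((blocks B).filter (fun c => (b ∩ c).card = j)).card

theorem sum_xnum (hB : IsSteinerSystem t k B) {b : Finset α} (hb : b ∈ B) (g : ℕ → ℕ) :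
    ∑ c ∈ blocks B, g (b ∩ c).card = ∑ j ∈ range (k + 1), xnum B b j * g j := by
  rw [← sum_fiberwise_of_maps_to (s := blocks B) (t := range (k + 1))
    (g := fun c => (b ∩ c).card)]
  · refine sum_congr rfl fun j _ => ?_
    rw [xnum, card_eq_sum_ones, sum_mul]
    refine sum_congr rfl fun c hc => ?_
    simp only [mem_filter] at hc
    rw [hc.2, one_mul]
  · intro c _
    simp only [mem_range]
    have := card_le_card (inter_subset_left : b ∩ c ⊆ b)
    rw [hB.1 b hb] at this
    omega

theorem moment (hB : IsSteinerSystem t k B) {b : Finset α} (hb : b ∈ B) {i : ℕ} (hi : i ≤ t) :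
    (∑ j ∈ range (k + 1), xnum B b j * j.choose i) * (k - i).choose (t - i) =
      k.choose i * (Fintype.card α - i).choose (t - i) := by
  rw [← sum_xnum hB hb (fun j => j.choose i)]
  exact sum_choose_inter hB hb hi

theorem xnum_top (hB : IsSteinerSystem t k B) {b : Finset α} (hb : b ∈ B) : xnum B b k = 1 := by
  rw [xnum, card_eq_one]
  refine ⟨b, ?_⟩
  ext c
  simp only [mem_filter, mem_blocks, mem_singleton]
  constructor
  · rintro ⟨hc, h⟩
    have h1 : b ∩ c = b := eq_of_subset_of_card_le inter_subset_left (by rw [h, hB.1 b hb])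
    have h2 : b ∩ c = c := eq_of_subset_of_card_le inter_subset_right (by rw [h, hB.1 c hc])
    rw [← h2, h1]
  · rintro rfl
    exact ⟨hb, by rw [inter_self, hB.1 c hb]⟩

theorem xnum_eq_zero (hB : IsSteinerSystem t k B) {b : Finset α} (hb : b ∈ B) {j : ℕ}
    (h1 : t ≤ j) (h2 : j < k) : xnum B b j = 0 := by
  rw [xnum, card_eq_zero, filter_eq_empty_iff]
  intro c hc h
  have := eq_of_le_card_inter hB hb (mem_blocks.1 hc) (by omega)
  subst this
  rw [inter_self, hB.1 b hb] at h
  omega

theorem xnum_pos_of_mem {b c : Finset α} (hc : c ∈ B) : 0 < xnum B b (b ∩ c).card := by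
  rw [xnum, card_pos]
  exact ⟨c, by simp [hc]⟩

end Cfsg.Agent.Lib.Helper6.Steiner
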