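import Cfsg.Agent.S0198
import Cfsg.Agent.S1530
import Cfsg.Agent.Lib.Helper26.Glue
import Cfsg.Agent.Lib.Helper15.CharTools

/-!
# Coherence: sets of irreducible characters of equal degree, and iterated Feit growth

* `coherent_of_equal_degree` : at least two irreducible characters of equal degree, `τ` a linear
  isometry on the degree-zero combinations with values vanishing at `1` : coherent.
* `grow` : iterate the Feit criterion `S1530.general` over a finite set.
-/

set_option autoImplicit false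

namespace Cfsg.Agent.Lib.Helper6.Coh

open Cfsg Cfsg.Agent.Lib.Helper26

local notation "conj" => starRingEnd ℂ

section sums

variable {N : Type*} [Group N] [Fintype N] {G : Type*} [Group G] [Fintype G]

theorem iso_sum {E : Set (N → ℂ)} (hE : IsZMod E) {τ : (N → ℂ) → (G → ℂ)}
    (hτ : IsLinearIsometryOn E τ) {ι : Type*} (s : Finset ι) (c : ι → ℤ) (f : ι → N → ℂ)
    (hf : ∀ i ∈ s, f i ∈ E) :
    (∑ i ∈ s, c i • f i) ∈ E ∧ τ (∑ i ∈ s, c i • f i) = ∑ i ∈ s, c i • τ (f i) := by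
  classical
  induction s using Finset.induction_on with
  | empty => exact ⟨by simpa using hE.zero, by simpa using iso_zero hτ hE⟩
  | insert a s ha ih =>
    obtain ⟨h1, h2⟩ := ih (fun i hi => hf i (Finset.mem_insert_of_mem hi))
    have ha' : f a ∈ E := hf a (Finset.mem_insert_self a s)
    rw [Finset.sum_insert ha, Finset.sum_insert ha]
    refine ⟨hE.add (hE.zsmul _ ha') h1, ?_⟩
    rw [iso_add hτ (hE.zsmul _ ha') h1, iso_zsmul hτ _ ha', h2]

/-- inner product of two integer combinations of an orthonormal family -/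
theorem inner_comb {X : Type*} [Group X] [Fintype X] {ι : Type*} [Fintype ι] [DecidableEq ι]
    (v : ι → X → ℂ) (hv : ∀ i j, classInner (v i) (v j) = if i = j then 1 else 0) (a b : ι → ℤ) :
    classInner (∑ i, a i • v i) (∑ j, b j • v j) = ((∑ i, a i * b i : ℤ) : ℂ) := by
  rw [Helper3.classInner_sum_left]
  push_cast
  apply Finset.sum_congr rfl
  intro i _
  rw [Helper3.classInner_sum_right, Finset.sum_eq_single i]
  · rw [classInner_zsmul_left, classInner_zsmul_right, hv, if_pos rfl, mul_one]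
  · intro j _ hj
    rw [classInner_zsmul_left, classInner_zsmul_right, hv, if_neg (Ne.symm hj)]
    simp
  · intro h; exact absurd (Finset.mem_univ i) h

theorem inner_comb_single {X : Type*} [Group X] [Fintype X] {ι : Type*} [Fintype ι] [DecidableEq ι]
    (v : ι → X → ℂ) (hv : ∀ i j, classInner (v i) (v j) = if i = j then 1 else 0) (a : ι → ℤ)
    (j : ι) : classInner (∑ i, a i • v i) (v j) = (a j : ℂ) := by
  rw [Helper3.classInner_sum_left, Finset.sum_eq_single j]
  · rw [classInner_zsmul_left, hv, if_pos rfl, mul_one]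
  · intro i _ hi
    rw [classInner_zsmul_left, hv, if_neg hi, mul_zero]
  · intro h; exact absurd (Finset.mem_univ j) h

end sums

section base

variable {N : Type*} [Group N] [Fintype N] {G : Type*} [Group G] [Fintype G]

theorem coherent_of_equal_degree_fin (n : ℕ) (hn : 2 ≤ n) (χ : Fin n → N → ℂ)
    (hirr : ∀ i, IsIrrCharacter N (χ i)) (hinj : Function.Injective χ)
    (hdeg : ∀ i j, χ i 1 = χ j 1) (τ : (N → ℂ) → (G → ℂ))
    (hτ : IsLinearIsometryOn (zspanOn (Set.range χ) {1}ᶜ) τ)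
    (hτ1 : ∀ α ∈ zspanOn (Set.range χ) ({1}ᶜ : Set N), τ α 1 = 0) :
    IsCoherent (Set.range χ) {1}ᶜ τ := by
  classical
  set S := Set.range χ with hS
  have hE := isZMod_zspanOn S ({1}ᶜ : Set N)
  let i₀ : Fin n := ⟨0, by omega⟩
  let i₁ : Fin n := ⟨1, by omega⟩
  have hi01 : i₁ ≠ i₀ := by
    intro h
    have := congrArg Fin.val h
    simp [i₀, i₁] at this
  have hmem : ∀ i, χ i ∈ S := fun i => ⟨i, rfl⟩
  have hdiff : ∀ i j, χ i - χ j ∈ zspanOn S ({1}ᶜ : Set N) := fun i j =>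
    mem_zspanOn_one.2 ⟨zspan_sub (mem_zspan (hmem i)) (mem_zspan (hmem j)), by simp [hdeg i j]⟩
  have hon : ∀ i j, classInner (χ i) (χ j) = if i = j then 1 else 0 := by
    intro i j
    split_ifs with h
    · rw [h]; exact Helper3.classInner_irr_self (hirr j)
    · exact Helper3.classInner_irr_ne (hirr i) (hirr j) (fun e => h (hinj e))
  obtain ⟨ε, hε, μ, hμirr, hμinj, hμ⟩ := Cfsg.Agent.S0198.result n i₀ (fun i => τ (χ i - χ i₀))
    (by simpa using iso_zero hτ hE) (fun i => iso_gen hτ (hdiff i i₀)) (fun i => hτ1 _ (hdiff i i₀))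
    (by
      intro i j hi hj
      show classInner (τ (χ i - χ i₀)) (τ (χ j - χ i₀)) = _
      rw [iso_inner hτ (hdiff i i₀) (hdiff j i₀), Helper3.classInner_sub_left,
        Helper3.classInner_sub_right, Helper3.classInner_sub_right, hon, hon, hon, hon,
        if_neg hi, if_neg (Ne.symm hj), if_pos rfl]
      split_ifs <;> norm_num)
  have hεε : ε * conj ε = 1 := by rcases hε with h | h <;> simp [h]
  set ν : Fin n → G → ℂ := fun i => ε • μ i with hν
  have hνon : ∀ i j, classInner (ν i) (ν j) = if i = j then 1 else 0 := by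
    intro i j
    simp only [hν]
    rw [Helper3.classInner_smul_left, Helper3.classInner_smul_right, ← mul_assoc, hεε, one_mul]
    split_ifs with h
    · rw [h]; exact Helper3.classInner_irr_self (hμirr j)
    · exact Helper3.classInner_irr_ne (hμirr i) (hμirr j) (fun e => h (hμinj e))
  have hνgen : ∀ i, IsGeneralizedCharacter G (ν i) := by
    intro i
    simp only [hν]
    rcases hε with h | h
    · rw [h, one_smul]; exact gen_of_irr (hμirr i)
    · rw [h, neg_one_smul]; exact gen_neg (gen_of_irr (hμirr i))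
  have hspan : ∀ α ∈ zspan S, ∃ c : Fin n → ℤ, α = ∑ i, c i • χ i := by
    intro α hα
    obtain ⟨c, hc⟩ := (Submodule.mem_span_range_iff_exists_fun ℤ).1 hα
    exact ⟨c, hc.symm⟩
  let τ₁ : (N → ℂ) → (G → ℂ) := fun α => ∑ i, classInner α (χ i) • ν i
  have hτ₁ : ∀ c : Fin n → ℤ, τ₁ (∑ i, c i • χ i) = ∑ i, c i • ν i := by
    intro c
    show ∑ j, classInner (∑ i, c i • χ i) (χ j) • ν j = _
    apply Finset.sum_congr rfl
    intro j _
    rw [inner_comb_single χ hon, Int.cast_smul_eq_zsmul]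
  refine ⟨⟨χ i₁ - χ i₀, hdiff i₁ i₀, ?_⟩, τ₁, ⟨?_, ?_, ?_, ?_⟩, ?_⟩
  · intro h
    exact hi01 (hinj (sub_eq_zero.1 h))
  · intro α _ β _
    show ∑ i, classInner (α + β) (χ i) • ν i = ∑ i, classInner α (χ i) • ν i +
      ∑ i, classInner β (χ i) • ν i
    rw [← Finset.sum_add_distrib]
    apply Finset.sum_congr rfl
    intro i _
    rw [Helper3.classInner_add_left, add_smul]
  · intro α _ k
    show ∑ i, classInner (k • α) (χ i) • ν i = k • ∑ i, classInner α (χ i) • ν i
    rw [Finset.smul_sum]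
    apply Finset.sum_congr rfl
    intro i _
    rw [classInner_zsmul_left, mul_smul, Int.cast_smul_eq_zsmul]
  · intro α hα β hβ
    obtain ⟨a, rfl⟩ := hspan α hα
    obtain ⟨b, rfl⟩ := hspan β hβ
    rw [hτ₁, hτ₁, inner_comb ν hνon, inner_comb χ hon]
  · intro α hα
    obtain ⟨a, rfl⟩ := hspan α hα
    rw [hτ₁]
    exact gen_sum _ _ (fun i _ => gen_zsmul (hνgen i) _)
  · intro α hα
    obtain ⟨hα1, hα2⟩ := mem_zspanOn_one.1 hα
    obtain ⟨c, rfl⟩ := hspan α hα1
    rw [hτ₁]
    have hsum : ∑ i, c i = 0 := by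
      have h1 : (∑ i, c i • χ i) 1 = ((∑ i, c i : ℤ) : ℂ) * χ i₀ 1 := by
        rw [Finset.sum_apply]
        push_cast
        rw [Finset.sum_mul]
        apply Finset.sum_congr rfl
        intro i _
        rw [Pi.smul_apply, zsmul_eq_mul, hdeg i i₀]
      rw [h1] at hα2
      have := (mul_eq_zero.1 hα2).resolve_right (Helper3.IsIrrCharacter.apply_one_ne_zero (hirr i₀))
      exact_mod_cast this
    have e1 : ∑ i, c i • χ i = ∑ i, c i • (χ i - χ i₀) := by
      simp only [smul_sub]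
      rw [Finset.sum_sub_distrib, ← Finset.sum_smul, hsum, zero_smul, sub_zero]
    rw [e1, (iso_sum hE hτ Finset.univ c (fun i => χ i - χ i₀) (fun i _ => hdiff i i₀)).2]
    have e2 : ∀ i, τ (χ i - χ i₀) = ν i - ν i₀ := by
      intro i
      have := hμ i
      beta_reduce at this
      rw [this, hν, smul_sub]
    simp only [e2, smul_sub]
    rw [Finset.sum_sub_distrib, ← Finset.sum_smul, hsum, zero_smul, sub_zero]

theorem coherent_of_equal_degree (S₁ : Finset (N → ℂ)) (h2 : 2 ≤ S₁.card)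
    (hirr : ∀ χ ∈ S₁, IsIrrCharacter N χ) (hdeg : ∀ χ ∈ S₁, ∀ ξ ∈ S₁, χ 1 = ξ 1)
    (τ : (N → ℂ) → (G → ℂ))
    (hτ : IsLinearIsometryOn (zspanOn (↑S₁ : Set (N → ℂ)) {1}ᶜ) τ)
    (hτ1 : ∀ α ∈ zspanOn (↑S₁ : Set (N → ℂ)) ({1}ᶜ : Set N), τ α 1 = 0) :
    IsCoherent (↑S₁ : Set (N → ℂ)) {1}ᶜ τ := by
  let e := S₁.equivFin.symm
  have hr : Set.range (fun i : Fin S₁.card => ((e i : S₁) : N → ℂ)) = ↑S₁ := by
    ext x
    constructor
    · rintro ⟨i, rfl⟩; exact (e i).2
    · intro hx; exact ⟨e.symm ⟨x, hx⟩, by simp⟩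
  have := coherent_of_equal_degree_fin S₁.card h2 (fun i => ((e i : S₁) : N → ℂ))
    (fun i => hirr _ (e i).2) (fun i j h => e.injective (Subtype.ext h))
    (fun i j => hdeg _ (e i).2 _ (e j).2) τ (by rw [hr]; exact hτ) (by rw [hr]; exact hτ1)
  rw [hr] at this
  exact this

end base

section growth

variable {N : Type*} [Group N] [Fintype N] {G : Type*} [Group G] [Fintype G]

theorem grow (S : Set (N → ℂ)) (hirr : ∀ χ ∈ S, IsIrrCharacter N χ)
    (τ : (N → ℂ) → (G → ℂ)) (hτ : IsLinearIsometryOn (zspanOn S {1}ᶜ) τ)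
    (hτ1 : ∀ α ∈ zspanOn S ({1}ᶜ : Set N), τ α 1 = 0)
    (d : (N → ℂ) → ℕ) (hd : ∀ ξ ∈ S, ξ 1 = (d ξ : ℂ))
    (S₀ T : Finset (N → ℂ)) (hS₀ : ↑S₀ ⊆ S) (hT : ↑T ⊆ S)
    (hcoh : IsCoherent (↑S₀ : Set (N → ℂ)) {1}ᶜ τ) (ψ : N → ℂ) (hψ : ψ ∈ S₀)
    (hdvd : ∀ χ ∈ T, d ψ ∣ d χ) (hlt : ∀ χ ∈ T, 2 * d ψ * d χ < ∑ ξ ∈ S₀, d ξ ^ 2) :
    IsCoherent ((↑S₀ : Set (N → ℂ)) ∪ ↑T) {1}ᶜ τ := by
  rw [← Finset.coe_union]
  induction T using Finset.induction_on with
  | empty => simpa using hcoh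
  | insert χ T hχT ih =>
    have hT' : (↑T : Set (N → ℂ)) ⊆ S := fun x hx => hT (Finset.mem_insert_of_mem hx)
    have ih' := ih hT' (fun x hx => hdvd x (Finset.mem_insert_of_mem hx))
      (fun x hx => hlt x (Finset.mem_insert_of_mem hx))
    by_cases hmem : χ ∈ S₀ ∪ T
    · have : S₀ ∪ insert χ T = S₀ ∪ T := by
        rw [Finset.union_insert, Finset.insert_eq_of_mem hmem]
      rw [this]; exact ih'
    · have hsub : (↑(insert χ (S₀ ∪ T)) : Set (N → ℂ)) ⊆ S := by
        intro x hx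
        rw [Finset.mem_coe, Finset.mem_insert, Finset.mem_union] at hx
        rcases hx with rfl | hx | hx
        · exact hT (Finset.mem_insert_self _ _)
        · exact hS₀ hx
        · exact hT' hx
      have := Cfsg.Agent.S1530.general (S₀ ∪ T) χ
        (fun ξ hξ => hirr ξ (hsub (Finset.mem_insert_of_mem hξ)))
        (hirr χ (hsub (Finset.mem_insert_self _ _))) hmem d (fun ξ hξ => hd ξ (hsub (Finset.mem_coe.2 hξ))) τ
        (iso_mono hτ (zspanOn_mono _ hsub)) (fun α hα => hτ1 α (zspanOn_mono _ hsub hα)) ih' ψ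
        (Finset.mem_union_left _ hψ) (hdvd χ (Finset.mem_insert_self _ _))
        (lt_of_lt_of_le (hlt χ (Finset.mem_insert_self _ _))
          (Finset.sum_le_sum_of_subset Finset.subset_union_left))
      rw [Finset.union_insert]
      exact this

end growth

end Cfsg.Agent.Lib.Helper6.Coh
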