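import Cfsg.Agent.S1528
import Cfsg.Agent.S1529
import Cfsg.Agent.Lib.Helper80.Core

/-!
# Exceptional characters attached to a coherent set `Irr(N | K)`, `N` a Frobenius group with kernel `K`

* `vanish` : members of `Irr(L | K)` vanish off `K`;
* `const_of_prop` : a class function whose multiplicities on `Irr(L | K)` are proportional to the
  degrees is constant on `K \ {1}`;
* `exc_iff` : for a coherent `Irr(N | K)`, an irreducible character of `G` is (up to sign) exceptional
  iff it is not constant on `K \ {1}`.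
-/

set_option autoImplicit false

namespace Cfsg.Agent.Lib.Helper6.Exc

open Cfsg Cfsg.Agent.Lib.Helper15

local notation "conj" => starRingEnd ℂ

section frob

variable {L : Type*} [Group L] [Fintype L] (K : Subgroup L) [K.Normal]

theorem vanish (hC : ∀ k ∈ K, k ≠ 1 → Subgroup.centralizer ({k} : Set L) ≤ K) {χ : L → ℂ}
    (hχ : IsIrrCharacter L χ) (hk : ∃ k ∈ K, χ k ≠ χ 1) {x : L} (hx : x ∉ K) : χ x = 0 := by
  obtain ⟨φ, _, rfl⟩ := Cfsg.Agent.S1528.result K hC χ hχ hk
  exact indFun_normal_not_mem K φ hx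

omit [K.Normal] in
theorem sum_deg_mul [Fintype (IrrCharacter L)] {k : L} (hk : k ≠ 1) :
    ∑ θ : IrrCharacter L, (θ : L → ℂ) 1 * (θ : L → ℂ) k = 0 := by
  classical
  have h := Cfsg.Agent.Lib.Helper80.col_orth k 1
  rw [if_neg (by
    intro hc
    exact hk (isConj_one_left.1 hc))] at h
  rw [← h]
  apply Finset.sum_congr
  · ext; simp
  intro θ _
  obtain ⟨n, hn⟩ := char_one_nat (irr_char θ.2)
  rw [hn, Complex.conj_natCast, mul_comm]

omit [K.Normal] in
/-- A class function whose multiplicities on `Irr(L | K)` are proportional to degrees is constant on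
`K \ {1}`. -/
theorem const_of_prop {f : L → ℂ} (hf : IsClassFunction L f) (c : ℂ)
    (hc : ∀ θ : L → ℂ, IsIrrCharacter L θ → (∃ k ∈ K, θ k ≠ θ 1) → classInner f θ = c * θ 1)
    {a b : L} (ha : a ∈ K) (hb : b ∈ K) (ha1 : a ≠ 1) (hb1 : b ≠ 1) : f a = f b := by
  classical
  have := Fintype.ofFinite (IrrCharacter L)
  have key : ∀ k ∈ K, k ≠ 1 → f k =
      ∑ θ : IrrCharacter L, (classInner f θ - c * (θ : L → ℂ) 1) * (θ : L → ℂ) 1 := by
    intro k hk hk1
    have h1 : f k = ∑ θ : IrrCharacter L, classInner f θ * (θ : L → ℂ) k := by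
      conv_lhs => rw [cf_expansion hf]
      rw [Finset.sum_apply]
      rfl
    have h2 := sum_deg_mul (L := L) hk1
    have h3 : f k = ∑ θ : IrrCharacter L, (classInner f θ - c * (θ : L → ℂ) 1) * (θ : L → ℂ) k := by
      have : ∑ θ : IrrCharacter L, (classInner f θ - c * (θ : L → ℂ) 1) * (θ : L → ℂ) k =
          ∑ θ : IrrCharacter L, classInner f θ * (θ : L → ℂ) k -
            c * ∑ θ : IrrCharacter L, (θ : L → ℂ) 1 * (θ : L → ℂ) k := by
        rw [Finset.mul_sum, ← Finset.sum_sub_distrib]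
        apply Finset.sum_congr rfl
        intro θ _
        ring
      rw [this, h2, mul_zero, sub_zero, h1]
    rw [h3]
    apply Finset.sum_congr rfl
    intro θ _
    by_cases hP : ∃ k ∈ K, (θ : L → ℂ) k ≠ (θ : L → ℂ) 1
    · rw [hc θ θ.2 hP, sub_self, zero_mul, zero_mul]
    · push Not at hP
      rw [hP k hk]
  rw [key a ha ha1, key b hb hb1]

omit [K.Normal] in
/-- If `α` is supported on `K \ {1}`, orthogonal to the principal character, and `f` is constant on
`K \ {1}`, then `⟨α, f⟩ = 0`. -/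
theorem inner_eq_zero_of_const {α f : L → ℂ} (hα : ∀ x, x ∉ K → α x = 0) (hα1 : α 1 = 0)
    (hα0 : classInner α (fun _ => 1) = 0)
    (hf : ∀ a ∈ K, ∀ b ∈ K, a ≠ 1 → b ≠ 1 → f a = f b) : classInner α f = 0 := by
  classical
  by_cases hex : ∃ k₀ ∈ K, k₀ ≠ 1
  · obtain ⟨k₀, hk₀, hk₀1⟩ := hex
    have h1 : classInner α f = conj (f k₀) * classInner α (fun _ => 1) := by
      unfold classInner
      rw [mul_left_comm]
      congr 1
      rw [Finset.mul_sum]
      apply Finset.sum_congr rfl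
      intro x _
      by_cases hx : x ∈ K
      · by_cases hx1 : x = 1
        · rw [hx1, hα1]; ring
        · rw [hf x hx k₀ hk₀ hx1 hk₀1, map_one]; ring
      · rw [hα x hx]; ring
    rw [h1, hα0, mul_zero]
  · push Not at hex
    unfold classInner
    apply mul_eq_zero_of_right
    apply Finset.sum_eq_zero
    intro x _
    by_cases hx : x ∈ K
    · rw [hex x hx, hα1, zero_mul]
    · rw [hα x hx, zero_mul]

end frob

section main

open Cfsg.Agent.Lib.Helper26

variable {G : Type*} [Group G] [Fintype G] (N : Subgroup G) [Fintype N] (K : Subgroup N)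

/-- The basic relation between a coherent extension of induction and restriction. -/
theorem basic_rel (S : Set (N → ℂ)) (hirr : ∀ χ ∈ S, IsIrrCharacter N χ)
    (star : (N → ℂ) → (G → ℂ)) (hstar : IsLinearIsometryOn (zspan S) star)
    (hext : ∀ α ∈ zspanOn S ({1}ᶜ : Set N), star α = indFun N α)
    {ψ : G → ℂ} (hψ : IsClassFunction G ψ) {χ ξ : N → ℂ} (hχ : χ ∈ S) (hξ : ξ ∈ S) :
    χ 1 * classInner (star ξ) ψ - ξ 1 * classInner (star χ) ψ =
      χ 1 * classInner ξ (fun x : N => ψ x) - ξ 1 * classInner χ (fun x : N => ψ x) := by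
  obtain ⟨n, -, hn⟩ := irr_degree (hirr χ hχ)
  obtain ⟨m, -, hm⟩ := irr_degree (hirr ξ hξ)
  have h1 : ((n : ℤ) • ξ) ∈ zspan S := zspan_zsmul _ (mem_zspan hξ)
  have h2 : ((m : ℤ) • χ) ∈ zspan S := zspan_zsmul _ (mem_zspan hχ)
  have h3 : (n : ℤ) • ξ - (m : ℤ) • χ ∈ zspanOn S ({1}ᶜ : Set N) :=
    mem_zspanOn_one.2 ⟨zspan_sub h1 h2, by simp [hn, hm, mul_comm]⟩
  have h4 := hext _ h3
  rw [iso_sub hstar (isZMod_zspan S) h1 h2, iso_zsmul hstar _ (mem_zspan hξ),
    iso_zsmul hstar _ (mem_zspan hχ)] at h4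
  have h5 := congrArg (fun f => classInner f ψ) h4
  beta_reduce at h5
  rw [classInner_indFun_left N _ ψ hψ, Helper15.classInner_sub_left, Helper15.classInner_sub_left,
    classInner_zsmul_left, classInner_zsmul_left, classInner_zsmul_left, classInner_zsmul_left] at h5
  rw [hn, hm]
  push_cast at h5
  exact h5

variable [K.Normal]

theorem exc_iff (hC : ∀ k ∈ K, k ≠ 1 → Subgroup.centralizer ({k} : Set N) ≤ K)
    (S : Set (N → ℂ)) (hS : S = {χ | IsIrrCharacter N χ ∧ ∃ k ∈ K, χ k ≠ χ 1})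
    (htwo : ∃ χ ∈ S, ∃ ξ ∈ S, χ ≠ ξ) (star : (N → ℂ) → (G → ℂ))
    (hstar : IsLinearIsometryOn (zspan S) star)
    (hext : ∀ α ∈ zspanOn S ({1}ᶜ : Set N), star α = indFun N α)
    (ψ : G → ℂ) (hψ : IsIrrCharacter G ψ) :
    (∃ χ ∈ S, ψ = star χ ∨ ψ = -star χ) ↔
      ∃ a ∈ K, ∃ b ∈ K, a ≠ 1 ∧ b ≠ 1 ∧ ψ (a : G) ≠ ψ (b : G) := by
  classical
  have hirr : ∀ χ ∈ S, IsIrrCharacter N χ := by intro χ hχ; rw [hS] at hχ; exact hχ.1
  have hrel : ∀ χ ∈ S, ∃ k ∈ K, χ k ≠ χ 1 := by intro χ hχ; rw [hS] at hχ; exact hχ.2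
  have h0 : ∀ α ∈ zspan S, α 1 = 0 → star α 1 = 0 := by
    intro α hα h1
    rw [hext α (mem_zspanOn_one.2 ⟨hα, h1⟩), indFun_one, h1, mul_zero]
  obtain ⟨hpm, -, -, -⟩ := Cfsg.Agent.S1529.signs S hirr star hstar h0
  have hψNc : IsCharacter N (fun x : N => ψ x) := char_restrict (irr_char hψ) N
  have hψN : IsClassFunction N (fun x : N => ψ x) := char_cf hψNc
  have hbasic := fun {χ ξ : N → ℂ} (hχ : χ ∈ S) (hξ : ξ ∈ S) =>
    basic_rel N S hirr star hstar hext (irr_cf hψ) hχ hξ
  constructor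
  · rintro ⟨χ₀, hχ₀, hψχ⟩
    by_contra hcon
    push Not at hcon
    obtain ⟨ξ, hξ, hne⟩ : ∃ ξ ∈ S, ξ ≠ χ₀ := by
      obtain ⟨a, ha, b, hb, hab⟩ := htwo
      by_cases h : a = χ₀
      · exact ⟨b, hb, fun h' => hab (h.trans h'.symm)⟩
      · exact ⟨a, ha, h⟩
    have hb := hbasic hχ₀ hξ
    have hone : ∀ θ ∈ S, classInner θ (fun _ : N => (1 : ℂ)) = 0 := by
      intro θ hθ
      apply irr_inner_ne (hirr θ hθ) Cfsg.Agent.Lib.Helper74.isIrrCharacter_one
      intro h
      obtain ⟨k, _, hk⟩ := hrel θ hθ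
      apply hk
      rw [h]
    have hR : χ₀ 1 * classInner ξ (fun x : N => ψ x) - ξ 1 * classInner χ₀ (fun x : N => ψ x) = 0 := by
      have := inner_eq_zero_of_const K (α := χ₀ 1 • ξ - ξ 1 • χ₀) (f := fun x : N => ψ x)
        (by
          intro x hx
          simp [vanish K hC (hirr ξ hξ) (hrel ξ hξ) hx, vanish K hC (hirr χ₀ hχ₀) (hrel χ₀ hχ₀) hx])
        (by simp [mul_comm])
        (by
          rw [Helper15.classInner_sub_left, Helper15.classInner_smul_left,
            Helper15.classInner_smul_left, hone ξ hξ, hone χ₀ hχ₀]; simp)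
        (by
          intro a ha b hb ha1 hb1
          exact hcon a ha b hb ha1 hb1)
      rw [Helper15.classInner_sub_left, Helper15.classInner_smul_left,
        Helper15.classInner_smul_left] at this
      exact this
    rw [hR] at hb
    have e1 : classInner (star ξ) (star χ₀) = 0 := by
      rw [iso_inner hstar (mem_zspan hξ) (mem_zspan hχ₀)]
      exact irr_inner_ne (hirr ξ hξ) (hirr χ₀ hχ₀) hne
    have e2 : classInner (star χ₀) (star χ₀) = 1 := by
      rw [iso_inner hstar (mem_zspan hχ₀) (mem_zspan hχ₀)]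
      exact irr_inner_self (hirr χ₀ hχ₀)
    have hξ1 := irr_one_ne_zero (hirr ξ hξ)
    rcases hψχ with h | h
    · rw [h, e1, e2] at hb
      apply hξ1
      linear_combination -hb
    · rw [h, Helper15.classInner_neg_right, Helper15.classInner_neg_right, e1, e2] at hb
      apply hξ1
      linear_combination hb
  · rintro ⟨a, ha, b, hb, ha1, hb1, hab⟩
    by_contra hcon
    push Not at hcon
    apply hab
    have hz : ∀ χ ∈ S, classInner (star χ) ψ = 0 := by
      intro χ hχ
      rcases hpm χ hχ with h | h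
      · exact irr_inner_ne h hψ (fun e => (hcon χ hχ).1 e.symm)
      · have := irr_inner_ne h hψ (fun e => (hcon χ hχ).2 e.symm)
        rwa [Helper15.classInner_neg_left, neg_eq_zero] at this
    obtain ⟨χ₀, hχ₀, -⟩ := htwo
    have hχ₀1 := irr_one_ne_zero (hirr χ₀ hχ₀)
    refine const_of_prop K hψN (classInner (fun x : N => ψ x) χ₀ / χ₀ 1) ?_ ha hb ha1 hb1
    intro θ hθ hk
    have hθS : θ ∈ S := by rw [hS]; exact ⟨hθ, hk⟩
    have h1 := hbasic hχ₀ hθS
    rw [hz _ hθS, hz _ hχ₀, mul_zero, mul_zero, sub_zero] at h1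
    rw [inner_comm_of_char hψNc (irr_char hθ), inner_comm_of_char hψNc (irr_char (hirr χ₀ hχ₀))]
    field_simp
    linear_combination -h1

end main

end Cfsg.Agent.Lib.Helper6.Exc
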