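import Mathlib

/-!
# Normal subgroups inside a nilpotent normal subgroup

`N` a group, `H` a nilpotent normal subgroup.  Iterated commutators `⁅⁅P, H⁆, …, H⁆` of a normal
subgroup `P ≤ H` and their consequences.
-/

set_option autoImplicit false

namespace Cfsg.Agent.Lib.Helper6.NilChain

variable {N : Type*} [Group N]

open scoped commutatorElement

/-- iterated commutator with `H` -/
def ch (H P : Subgroup N) : ℕ → Subgroup N
  | 0 => P
  | n + 1 => ⁅ch H P n, H⁆

theorem ch_le_lcs (H P : Subgroup N) (hP : P ≤ H) : ∀ n, ch H P n ≤ H.lowerCentralSeries n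
  | 0 => hP
  | n + 1 => Subgroup.commutator_mono (ch_le_lcs H P hP n) le_rfl

theorem ch_normal (H P : Subgroup N) [H.Normal] [hP : P.Normal] : ∀ n, (ch H P n).Normal
  | 0 => hP
  | n + 1 => by
    have := ch_normal H P n
    exact Subgroup.commutator_normal (ch H P n) H

theorem ch_succ_le (H P : Subgroup N) [H.Normal] [P.Normal] (n : ℕ) : ch H P (n + 1) ≤ ch H P n := by
  have := ch_normal H P n
  exact Subgroup.commutator_le_left (ch H P n) H

theorem ch_le (H P : Subgroup N) [H.Normal] [P.Normal] : ∀ n, ch H P n ≤ P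
  | 0 => le_rfl
  | n + 1 => (ch_succ_le H P n).trans (ch_le H P n)

theorem exists_ch_eq_bot (H P : Subgroup N) (hnil : Group.IsNilpotent H) (hP : P ≤ H) :
    ∃ n, ch H P n = ⊥ := by
  obtain ⟨n, hn⟩ := (Subgroup.isNilpotent_iff_lowerCentralSeries H).1 hnil
  exact ⟨n, le_bot_iff.1 (hn ▸ ch_le_lcs H P hP n)⟩

theorem sup_commutator_le (A M H : Subgroup N) [A.Normal] [M.Normal] [H.Normal] :
    ⁅A ⊔ M, H⁆ ≤ ⁅A, H⁆ ⊔ ⁅M, H⁆ := by
  rw [Subgroup.commutator_le]
  intro g hg h hh
  obtain ⟨a, ha, m, hm, rfl⟩ := Subgroup.mem_sup_of_normal_right.1 hg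
  have e : ⁅a * m, h⁆ = (a * ⁅m, h⁆ * a⁻¹) * ⁅a, h⁆ := by
    simp only [commutatorElement_def]; group
  rw [e]
  have h1 : a * ⁅m, h⁆ * a⁻¹ ∈ ⁅M, H⁆ :=
    (Subgroup.commutator_normal M H).conj_mem _ (Subgroup.commutator_mem_commutator hm hh) a
  exact Subgroup.mul_mem _ (Subgroup.mem_sup_right h1)
    (Subgroup.mem_sup_left (Subgroup.commutator_mem_commutator ha hh))

/-- A normal subgroup `P ≤ H` not contained in `B` contains a normal subgroup `T`, not contained in
`B`, with `⁅T, H⁆ ≤ B ⊓ P`. -/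
theorem exists_central_mod (H P B : Subgroup N) [H.Normal] [P.Normal]
    (hnil : Group.IsNilpotent H) (hP : P ≤ H) (hPB : ¬ P ≤ B) :
    ∃ T : Subgroup N, T.Normal ∧ T ≤ P ∧ ¬ T ≤ B ∧ ⁅T, H⁆ ≤ B ⊓ P := by
  classical
  have hex : ∃ n, ch H P n ≤ B := by
    obtain ⟨n, hn⟩ := exists_ch_eq_bot H P hnil hP
    exact ⟨n, hn ▸ bot_le⟩
  have hspec := Nat.find_spec hex
  have hmin := fun m => Nat.find_min hex (m := m)
  cases hn : Nat.find hex with
  | zero =>
    rw [hn] at hspec
    exact absurd hspec hPB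
  | succ m =>
    rw [hn] at hspec
    exact ⟨ch H P m, ch_normal H P m, ch_le H P m, hmin m (by omega),
      le_inf hspec (ch_le H P (m + 1))⟩

/-- `B = ⁅B, H⁆ M` forces `B ≤ M`. -/
theorem not_le_commutator_sup (H B M : Subgroup N) [H.Normal] [B.Normal] [M.Normal]
    (hnil : Group.IsNilpotent H) (hB : B ≤ H) (hBM : ¬ B ≤ M) : ¬ B ≤ ⁅B, H⁆ ⊔ M := by
  intro hcon
  have key : ∀ n, B ≤ ch H B n ⊔ M := by
    intro n
    induction n with
    | zero => exact le_sup_left
    | succ n ih =>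
      have := ch_normal H B n
      have h1 : ⁅B, H⁆ ≤ ch H B (n + 1) ⊔ M :=
        calc ⁅B, H⁆ ≤ ⁅ch H B n ⊔ M, H⁆ := Subgroup.commutator_mono ih le_rfl
          _ ≤ ⁅ch H B n, H⁆ ⊔ ⁅M, H⁆ := sup_commutator_le _ _ _
          _ ≤ ch H B (n + 1) ⊔ M := sup_le_sup le_rfl (Subgroup.commutator_le_left M H)
      exact hcon.trans (sup_le h1 le_sup_right)
  obtain ⟨n, hn⟩ := exists_ch_eq_bot H B hnil hB
  have := key n
  rw [hn, bot_sup_eq] at this
  exact hBM this

section sylow

variable [Finite N]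

/-- The Sylow `p`-subgroup of a nilpotent normal subgroup, as a normal subgroup of the whole group. -/
theorem exists_normal_sylow (H : Subgroup N) [H.Normal] (hnil : Group.IsNilpotent H) (p : ℕ)
    [Fact p.Prime] :
    ∃ P : Subgroup N, P.Normal ∧ P ≤ H ∧ IsPGroup p P ∧ ¬ p ∣ P.relIndex H ∧
      (p ∣ Nat.card H → P ≠ ⊥) := by
  obtain ⟨P⟩ : Nonempty (Sylow p H) := inferInstance
  have hPn : (P : Subgroup H).Normal := inferInstance
  have hPc : (P : Subgroup H).Characteristic := P.characteristic_of_normal hPn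
  refine ⟨(P : Subgroup H).map H.subtype, inferInstance, Subgroup.map_subtype_le _, ?_, ?_, ?_⟩
  · exact P.isPGroup'.map H.subtype
  · have : ((P : Subgroup H).map H.subtype).relIndex H = (P : Subgroup H).index := by
      rw [Subgroup.relIndex, Subgroup.subgroupOf,
        Subgroup.comap_map_eq_self_of_injective H.subtype_injective]
    rw [this]
    exact P.not_dvd_index
  · intro hp hbot
    have h1 : (P : Subgroup H) = ⊥ := by
      rw [← le_bot_iff] at hbot ⊢
      intro x hx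
      have : (x : N) ∈ (P : Subgroup H).map H.subtype := ⟨x, hx, rfl⟩
      have := hbot this
      rw [Subgroup.mem_bot] at this ⊢
      exact Subtype.ext this
    have h2 := P.dvd_card_of_dvd_card hp
    rw [h1, Subgroup.card_bot] at h2
    exact (Fact.out : p.Prime).one_lt.ne' (Nat.dvd_one.1 h2)

/-- In a nilpotent normal subgroup `H` whose order is not a prime power, every `B` with
`⊥ ≠ B`, `B < H` is incomparable with some normal subgroup `P ≤ H` of the whole group. -/
theorem exists_incomparable (H : Subgroup N) [H.Normal] (hnil : Group.IsNilpotent H)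
    (hpp : ¬ ∃ p m : ℕ, p.Prime ∧ Nat.card H = p ^ m) (B : Subgroup N) (hB1 : B ≠ ⊥) (hBH : B < H) :
    ∃ P : Subgroup N, P.Normal ∧ P ≤ H ∧ ¬ P ≤ B ∧ ¬ B ≤ P := by
  have hri : B.relIndex H ≠ 1 := by
    rw [Ne, Subgroup.relIndex_eq_one]
    exact not_le_of_gt hBH
  set p := (B.relIndex H).minFac with hp
  have hpp' : p.Prime := Nat.minFac_prime hri
  have := Fact.mk hpp'
  obtain ⟨P, hPn, hPH, hPp, hPi, -⟩ := exists_normal_sylow H hnil p
  have hPB : ¬ P ≤ B := by
    intro h
    exact hPi ((Nat.minFac_dvd _).trans (Subgroup.relIndex_dvd_of_le_left H h))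
  by_cases hBP : B ≤ P
  · obtain ⟨q, hq, hqH, hqp⟩ : ∃ q : ℕ, q.Prime ∧ q ∣ Nat.card H ∧ q ≠ p := by
      by_contra hcon
      push Not at hcon
      exact hpp ⟨p, _, hpp', Nat.eq_prime_pow_of_unique_prime_dvd Nat.card_pos.ne'
        (fun {d} hd hdv => hcon d hd hdv)⟩
    have := Fact.mk hq
    obtain ⟨Q, hQn, hQH, hQp, -, hQ1⟩ := exists_normal_sylow H hnil q
    have hdisj := IsPGroup.disjoint_of_ne q p hqp Q P hQp hPp
    refine ⟨Q, hQn, hQH, ?_, ?_⟩
    · intro h
      apply hQ1 hqH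
      have := hdisj le_rfl (h.trans hBP)
      exact le_bot_iff.1 this
    · intro h
      apply hB1
      exact le_bot_iff.1 (hdisj h hBP)
  · exact ⟨P, hPn, hPH, hPB, hBP⟩

end sylow

end Cfsg.Agent.Lib.Helper6.NilChain
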