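import Cfsg.Agent.Lib.Helper6.CohBase
import Cfsg.Agent.Lib.Helper6.NilChain
import Cfsg.Agent.Lib.Helper26.FrobSection
import Cfsg.Agent.S1519
import Cfsg.Agent.S1528
import Cfsg.Agent.S0033

/-!
# Feit's coherence theorem for Frobenius groups
-/

set_option autoImplicit false

namespace Cfsg.Agent.Lib.Helper6.FeitCoh

open Cfsg Cfsg.Agent.Lib.Helper26 Cfsg.Agent.Lib.Helper15

variable {N : Type*} [Group N] [Fintype N] (H : Subgroup N) [hHn : H.Normal]

section basics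

variable (hC : ∀ h ∈ H, h ≠ 1 → Subgroup.centralizer ({h} : Set N) ≤ H)

include hC in
theorem irr_of_mem {A : Subgroup N} {χ : N → ℂ} (hχ : χ ∈ inducedIrrAbove H A) :
    IsIrrCharacter N χ := by
  obtain ⟨θ, h1, h2, _, rfl⟩ := hχ
  exact Cfsg.Agent.S1528.irr_indFun H hC h1 h2

include hC in
theorem set_eq : inducedIrrAbove H ⊥ = {χ : N → ℂ | IsIrrCharacter N χ ∧ ∃ h ∈ H, χ h ≠ χ 1} := by
  ext χ
  constructor
  · intro hχ
    refine ⟨irr_of_mem H hC hχ, ?_⟩
    obtain ⟨θ, h1, h2, _, rfl⟩ := hχ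
    by_contra hcon
    push Not at hcon
    apply h2
    apply IndIrr.eq_one_of_const h1
    intro a
    exact (Cfsg.Agent.S1487.result H H le_rfl θ h1).2 hcon a a.2
  · rintro ⟨hχ, hk⟩
    obtain ⟨φ, hφ, rfl⟩ := Cfsg.Agent.S1528.result H hC χ hχ hk
    refine ⟨φ, hφ, ?_, ?_, rfl⟩
    · intro h
      obtain ⟨k, hkH, hk⟩ := hk
      apply hk
      exact (Cfsg.Agent.S1487.result H H le_rfl φ hφ).1 (by intro a _; rw [h]) k hkH
    · intro a ha
      have : a = 1 := Subtype.ext (Subgroup.mem_bot.1 ha)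
      rw [this]

omit hHn in
theorem degree_of_mem {A : Subgroup N} {χ : N → ℂ} (hχ : χ ∈ inducedIrrAbove H A) :
    ∃ t : ℕ, 0 < t ∧ χ 1 = ((H.index * t : ℕ) : ℂ) := by
  obtain ⟨θ, h1, _, _, rfl⟩ := hχ
  have := Fintype.ofFinite H
  obtain ⟨t, ht0, ht⟩ := irr_degree h1
  exact ⟨t, ht0, by rw [indFun_one, ht]; push_cast; ring⟩

include hC in
theorem sum_sq_nat (A : Subgroup N) [A.Normal] (hAH : A ≤ H) (d : (N → ℂ) → ℕ)
    (hd : ∀ χ ∈ inducedIrrAbove H A, χ 1 = (d χ : ℂ)) :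
    ∑ χ ∈ (IndIrr.finite H A).toFinset, d χ ^ 2 + H.index = H.index * A.relIndex H := by
  have h := IndIrr.sum_sq H A hAH d (fun _ => 1) hd
    (fun χ hχ => by rw [irr_inner_self (irr_of_mem H hC hχ)]; simp)
  have h' : ((∑ χ ∈ (IndIrr.finite H A).toFinset, d χ ^ 2 + H.index : ℕ) : ℝ) =
      ((H.index * A.relIndex H : ℕ) : ℝ) := by
    push_cast
    simp only [Nat.cast_one, div_one] at h
    rw [h]; ring
  exact_mod_cast h'

include hC in
theorem index_dvd (A : Subgroup N) [A.Normal] (hAH : A ≤ H) : H.index ∣ A.relIndex H - 1 := by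
  classical
  have hdx : ∀ χ : N → ℂ, ∃ t : ℕ, χ ∈ inducedIrrAbove H A → χ 1 = ((H.index * t : ℕ) : ℂ) := by
    intro χ
    by_cases h : χ ∈ inducedIrrAbove H A
    · obtain ⟨t, _, ht⟩ := degree_of_mem H h
      exact ⟨t, fun _ => ht⟩
    · exact ⟨0, fun h' => absurd h' h⟩
  choose t ht using hdx
  have h := sum_sq_nat H hC A hAH (fun χ => H.index * t χ) ht
  have he : 0 < H.index := Nat.pos_of_ne_zero Subgroup.index_ne_zero_of_finite
  have h2 : ∑ χ ∈ (IndIrr.finite H A).toFinset, (H.index * t χ) ^ 2 =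
      H.index * (H.index * ∑ χ ∈ (IndIrr.finite H A).toFinset, t χ ^ 2) := by
    rw [Finset.mul_sum, Finset.mul_sum]
    apply Finset.sum_congr rfl
    intro χ _
    ring
  rw [h2] at h
  have h3 : H.index * ∑ χ ∈ (IndIrr.finite H A).toFinset, t χ ^ 2 + 1 = A.relIndex H := by
    apply Nat.eq_of_mul_eq_mul_left he
    rw [← h]; ring
  exact ⟨∑ χ ∈ (IndIrr.finite H A).toFinset, t χ ^ 2, by omega⟩

end basics

section coh

variable {G : Type*} [Group G] [Fintype G]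
  (hC : ∀ h ∈ H, h ≠ 1 → Subgroup.centralizer ({h} : Set N) ≤ H)
  (τ : (N → ℂ) → (G → ℂ))
  (hτ : IsLinearIsometryOn (zspanOn (inducedIrrAbove H ⊥) {1}ᶜ) τ)
  (hτ1 : ∀ α ∈ zspanOn (inducedIrrAbove H ⊥) ({1}ᶜ : Set N), τ α 1 = 0)

include hC hτ hτ1 in
theorem step (hsolv : Group.IsSolvable H) (A B D : Subgroup N) [A.Normal] [B.Normal]
    (hAH : A < H) (hBA : B ≤ A) (hBD : B ≤ D) (hDH : D ≤ H)
    (hcent : ∀ x ∈ D, ∀ y ∈ H, x * y * x⁻¹ * y⁻¹ ∈ B)
    (hA : IsCoherent (inducedIrrAbove H A) {1}ᶜ τ)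
    (hlt : 4 * H.index ^ 2 * D.relIndex H < (A.relIndex H - 1) ^ 2) :
    IsCoherent (inducedIrrAbove H B) {1}ᶜ τ := by
  set S := inducedIrrAbove H ⊥ with hSdef
  have hdx : ∀ χ : N → ℂ, ∃ m : ℕ, χ ∈ S → χ 1 = (m : ℂ) := by
    intro χ
    by_cases h : χ ∈ S
    · obtain ⟨m, _, hm⟩ := degree_of_mem H h
      exact ⟨_, fun _ => hm⟩
    · exact ⟨0, fun h' => absurd h' h⟩
  choose d hd using hdx
  set S₀ := (IndIrr.finite H A).toFinset with hS₀
  set T := (IndIrr.finite H B).toFinset with hT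
  have hS₀coe : (↑S₀ : Set (N → ℂ)) = inducedIrrAbove H A := Set.Finite.coe_toFinset _
  have hTcoe : (↑T : Set (N → ℂ)) = inducedIrrAbove H B := Set.Finite.coe_toFinset _
  obtain ⟨χ₁, hχ₁, hχ₁d⟩ := IndIrr.exists_linear H hsolv A hAH
  have hdχ₁ : d χ₁ = H.index := by
    have := hd χ₁ (IndIrr.sub_bot H A hχ₁)
    rw [hχ₁d] at this
    exact_mod_cast this.symm
  have hsum := sum_sq_nat H hC A hAH.le d (fun χ hχ => hd χ (IndIrr.sub_bot H A hχ))
  have hKi : 0 < H.index := Nat.pos_of_ne_zero Subgroup.index_ne_zero_of_finite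
  have hdeg : ∀ ψ ∈ T, H.index ∣ d ψ ∧ (d ψ) ^ 2 ≤ H.index ^ 2 * D.relIndex H := by
    intro ψ hψ
    rw [hT, Set.Finite.mem_toFinset] at hψ
    have hψS := IndIrr.sub_bot H B hψ
    obtain ⟨θ, h1, _, h3, rfl⟩ := hψ
    obtain ⟨t, ht⟩ := char_one_nat (irr_char h1)
    have hdt : d (indFun H θ) = H.index * t := by
      have := hd _ hψS
      rw [indFun_one, ht] at this
      exact_mod_cast this.symm
    rw [hdt]
    exact ⟨Dvd.intro _ rfl, Cfsg.Agent.S1519.degree_bound H B H D hBD hDH le_rfl hcent θ h1 h3 t ht⟩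
  have hgrow := Coh.grow S (fun χ hχ => irr_of_mem H hC hχ) τ hτ hτ1 d hd S₀ T
    (by rw [hS₀coe]; exact IndIrr.sub_bot H A) (by rw [hTcoe]; exact IndIrr.sub_bot H B)
    (by rw [hS₀coe]; exact hA) χ₁ (by rw [hS₀, Set.Finite.mem_toFinset]; exact hχ₁)
    (by intro ψ hψ; rw [hdχ₁]; exact (hdeg ψ hψ).1)
    (by
      intro ψ hψ
      rw [hdχ₁]
      have h1 := (hdeg ψ hψ).2
      have h2 : (2 * d ψ) ^ 2 < (A.relIndex H - 1) ^ 2 := by
        calc (2 * d ψ) ^ 2 = 4 * (d ψ) ^ 2 := by ring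
          _ ≤ 4 * (H.index ^ 2 * D.relIndex H) := Nat.mul_le_mul_left _ h1
          _ = 4 * H.index ^ 2 * D.relIndex H := by ring
          _ < _ := hlt
      have h3 : 2 * d ψ < A.relIndex H - 1 := lt_of_pow_lt_pow_left₀ 2 (Nat.zero_le _) h2
      have h4 : 2 * d ψ + 1 < A.relIndex H := by omega
      have h5 : H.index * (2 * d ψ + 1) < H.index * A.relIndex H :=
        Nat.mul_lt_mul_of_pos_left h4 hKi
      rw [← hsum] at h5
      nlinarith)
  rw [hS₀coe, hTcoe, Set.union_eq_self_of_subset_left (IndIrr.mono H hBA)] at hgrow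
  exact hgrow

include hC hτ hτ1 in
theorem base (A : Subgroup N) [A.Normal] (hHA : ⁅H, H⁆ ≤ A) (hAH : A ≤ H)
    (hbig : 2 * H.index + 1 ≤ A.relIndex H) : IsCoherent (inducedIrrAbove H A) {1}ᶜ τ := by
  have hKi : 0 < H.index := Nat.pos_of_ne_zero Subgroup.index_ne_zero_of_finite
  have hdeg : ∀ χ ∈ inducedIrrAbove H A, χ 1 = (H.index : ℂ) := by
    intro χ hχ
    obtain ⟨θ, h1, _, h3, rfl⟩ := hχ
    have := Fintype.ofFinite H
    obtain ⟨t, ht0, ht⟩ := irr_degree h1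
    have hb := Cfsg.Agent.S1519.degree_bound H A H H hAH le_rfl le_rfl
      (fun x hx y hy => hHA (Subgroup.commutator_mem_commutator hx hy)) θ h1 h3 t ht
    rw [Subgroup.relIndex_self, mul_one] at hb
    have h2 : H.index * t ≤ H.index := le_of_pow_le_pow_left₀ (by norm_num) (Nat.zero_le _) hb
    have h4 : t ≤ 1 := by
      by_contra hcon
      push Not at hcon
      nlinarith
    have h5 : t = 1 := by omega
    rw [indFun_one, ht, h5]; simp
  set S₁ := (IndIrr.finite H A).toFinset with hS₁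
  have hS₁coe : (↑S₁ : Set (N → ℂ)) = inducedIrrAbove H A := Set.Finite.coe_toFinset _
  have hsum := sum_sq_nat H hC A hAH (fun _ => H.index) hdeg
  rw [Finset.sum_const, smul_eq_mul] at hsum
  have hcard : 2 ≤ S₁.card := by
    by_contra hcon
    push Not at hcon
    have h1 : S₁.card * H.index ^ 2 ≤ 1 * H.index ^ 2 := Nat.mul_le_mul_right _ (by omega)
    have h2 : H.index * (2 * H.index + 1) ≤ H.index * A.relIndex H := Nat.mul_le_mul_left _ hbig
    nlinarith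
  have hsub : (↑S₁ : Set (N → ℂ)) ⊆ inducedIrrAbove H ⊥ := by
    rw [hS₁coe]; exact IndIrr.sub_bot H A
  have := Coh.coherent_of_equal_degree S₁ hcard
    (fun χ hχ => irr_of_mem H hC (hsub (Finset.mem_coe.2 hχ)))
    (fun χ hχ ξ hξ => by
      rw [hdeg χ (hS₁coe ▸ Finset.mem_coe.2 hχ), hdeg ξ (hS₁coe ▸ Finset.mem_coe.2 hξ)])
    τ (iso_mono hτ (zspanOn_mono _ hsub)) (fun α hα => hτ1 α (zspanOn_mono _ hsub hα))
  rw [hS₁coe] at this
  exact this

end coh

section arith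

theorem num_b {e Y : ℕ} (h : 4 * e ^ 2 + 1 < Y) : 4 * e ^ 2 * Y < (Y - 1) ^ 2 := by
  obtain ⟨Z, rfl⟩ : ∃ Z, Y = Z + 1 := ⟨Y - 1, by omega⟩
  rw [Nat.add_sub_cancel]
  have hZ : 4 * e ^ 2 + 1 ≤ Z := by omega
  nlinarith

theorem num_c {e X w : ℕ} (he : 0 < e) (hX : 2 ≤ X) (hw : 2 ≤ w) (h1 : e ∣ X - 1)
    (h2 : e ∣ w * X - 1) : 4 * e ^ 2 * X < (w * X - 1) ^ 2 := by
  have hX' : e + 1 ≤ X := by
    have := Nat.le_of_dvd (by omega) h1
    omega
  have h3 : e ∣ w - 1 := by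
    have e1 : w * X - 1 = w * (X - 1) + (w - 1) := by
      obtain ⟨X', rfl⟩ : ∃ X', X = X' + 1 := ⟨X - 1, by omega⟩
      obtain ⟨w', rfl⟩ : ∃ w', w = w' + 1 := ⟨w - 1, by omega⟩
      simp only [Nat.add_sub_cancel]
      have : (w' + 1) * (X' + 1) = (w' + 1) * X' + w' + 1 := by ring
      omega
    rw [e1] at h2
    exact (Nat.dvd_add_right (Dvd.dvd.mul_left h1 w)).1 h2
  have hw' : e + 1 ≤ w := by
    have := Nat.le_of_dvd (by omega) h3
    omega
  have h4 : e * (X + 1) ≤ w * X - 1 := by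
    have : (e + 1) * X ≤ w * X := Nat.mul_le_mul_right _ hw'
    have h5 : e * (X + 1) + 1 ≤ (e + 1) * X := by nlinarith
    omega
  have h6 : (e * (X + 1)) ^ 2 ≤ (w * X - 1) ^ 2 := Nat.pow_le_pow_left h4 2
  have h7 : 4 * e ^ 2 * X < (e * (X + 1)) ^ 2 := by
    obtain ⟨X', rfl⟩ : ∃ X', X = X' + 2 := ⟨X - 2, by omega⟩
    have : 0 < e ^ 2 := by positivity
    nlinarith
  omega

end arith

section thompson

variable (hC : ∀ h ∈ H, h ≠ 1 → Subgroup.centralizer ({h} : Set N) ≤ H)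

include hC in
theorem nilpotent (hH1 : H ≠ ⊥) (hH2 : H ≠ ⊤) : Group.IsNilpotent H := by
  have he1 : H.index ≠ 1 := by rwa [Ne, Subgroup.index_eq_one]
  set r := H.index.minFac with hr
  have hrp : r.Prime := Nat.minFac_prime he1
  have := Fact.mk hrp
  have hre : r ∣ H.index := Nat.minFac_dvd _
  have hdvd := index_dvd H hC ⊥ bot_le
  rw [Subgroup.relIndex_bot_left] at hdvd
  have hrH : ¬ r ∣ Nat.card H := by
    intro h
    have h1 : r ∣ Nat.card H - 1 := hre.trans hdvd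
    have h2 : 0 < Nat.card H := Nat.card_pos
    have h3 : r ∣ 1 := by
      have := (Nat.dvd_sub h h1)
      have e : Nat.card H - (Nat.card H - 1) = 1 := by omega
      rwa [e] at this
    exact hrp.one_lt.ne' (Nat.dvd_one.1 h3)
  obtain ⟨y, hy⟩ := exists_prime_orderOf_dvd_card' (G := N) r (hre.trans (Subgroup.index_dvd_card H))
  have hyH : y ∉ H := by
    intro h
    apply hrH
    have := orderOf_dvd_natCard (⟨y, h⟩ : H)
    rwa [Subgroup.orderOf_mk, hy] at this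
  have hfix : ∀ g : H, MulAut.conjNormal y g = g → g = 1 := by
    intro g hg
    by_contra hg1
    apply hyH
    apply hC g g.2 (fun h => hg1 (Subtype.ext h))
    rw [Subgroup.mem_centralizer_singleton_iff]
    have := congrArg Subtype.val hg
    rw [MulAut.conjNormal_apply] at this
    calc y * g = y * g * y⁻¹ * y := by group
      _ = g * y := by rw [this]
  apply Cfsg.Agent.S0033.result (MulAut.conjNormal y : MulAut H) (fun g hg => hfix g hg) r hrp
  apply orderOf_eq_prime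
  · rw [← map_pow, ← hy, pow_orderOf_eq_one, map_one]
  · intro h
    apply hH1
    rw [eq_bot_iff]
    intro g hg
    have := hfix ⟨g, hg⟩ (by rw [h]; rfl)
    exact Subgroup.mem_bot.2 (congrArg Subtype.val this)

end thompson

section main

open NilChain

variable {G : Type*} [Group G] [Fintype G]
  (hC : ∀ h ∈ H, h ≠ 1 → Subgroup.centralizer ({h} : Set N) ≤ H)
  (τ : (N → ℂ) → (G → ℂ))
  (hτ : IsLinearIsometryOn (zspanOn (inducedIrrAbove H ⊥) {1}ᶜ) τ)
  (hτ1 : ∀ α ∈ zspanOn (inducedIrrAbove H ⊥) ({1}ᶜ : Set N), τ α 1 = 0)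

omit [Fintype N] in
theorem relIndex_ne_zero' [Finite N] (A B : Subgroup N) : A.relIndex B ≠ 0 := by
  intro h0
  have := Subgroup.relIndex_dvd_card A B
  rw [h0] at this
  exact Nat.card_pos.ne' (Nat.eq_zero_of_zero_dvd this)

omit [Fintype N] in
theorem card_lt_of_lt [Finite N] {A B : Subgroup N} (h : A < B) : Nat.card A < Nat.card B := by
  have h1 : A.relIndex B * Nat.card A = Nat.card B := by
    have := Subgroup.relIndex_mul_relIndex ⊥ A B bot_le h.le
    rw [Subgroup.relIndex_bot_left, Subgroup.relIndex_bot_left] at this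
    rw [mul_comm]; exact this
  have h2 : A.relIndex B ≠ 1 := by
    rw [Ne, Subgroup.relIndex_eq_one]; exact not_le_of_gt h
  have h3 : A.relIndex B ≠ 0 := relIndex_ne_zero' A B
  have h4 : 0 < Nat.card A := Nat.card_pos
  have h5 : 2 ≤ A.relIndex B := by omega
  nlinarith

include hC hτ hτ1 in
/-- one descent step, case `|H : H'| > 4e² + 1` -/
theorem descent_b (hnil : Group.IsNilpotent H) (hbig : 4 * H.index ^ 2 + 1 < (⁅H, H⁆ : Subgroup N).relIndex H)
    (hH' : (⁅H, H⁆ : Subgroup N) < H)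
    (B : Subgroup N) [B.Normal] (hB : B ≤ ⁅H, H⁆) (hB1 : B ≠ ⊥)
    (hcoh : IsCoherent (inducedIrrAbove H B) {1}ᶜ τ) :
    ∃ B₁ : Subgroup N, B₁.Normal ∧ B₁ < B ∧ IsCoherent (inducedIrrAbove H B₁) {1}ᶜ τ := by
  have hBH : B < H := lt_of_le_of_lt hB hH'
  have hsolv : Group.IsSolvable H := inferInstance
  have hle : (⁅B, H⁆ : Subgroup N) ≤ B := Subgroup.commutator_le_left B H
  refine ⟨⁅B, H⁆, inferInstance, lt_of_le_of_ne hle ?_, ?_⟩
  · intro h
    apply not_le_commutator_sup H B ⊥ hnil hBH.le (fun h' => hB1 (le_bot_iff.1 h'))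
    rw [h]; exact le_sup_left
  · apply step H hC τ hτ hτ1 hsolv B ⁅B, H⁆ B hBH hle hle hBH.le
      (fun x hx y hy => Subgroup.commutator_mem_commutator hx hy) hcoh
    apply num_b
    have h1 := Subgroup.relIndex_dvd_of_le_left H hB
    have h2 : B.relIndex H ≠ 0 := relIndex_ne_zero' B H
    exact lt_of_lt_of_le hbig (Nat.le_of_dvd (Nat.pos_of_ne_zero h2) h1)

include hC hτ hτ1 in
/-- one descent step, case `|H|` not a prime power -/
theorem descent_c (hnil : Group.IsNilpotent H) (hpp : ¬ ∃ p m : ℕ, p.Prime ∧ Nat.card H = p ^ m)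
    (hH' : (⁅H, H⁆ : Subgroup N) < H)
    (B : Subgroup N) [B.Normal] (hB : B ≤ ⁅H, H⁆) (hB1 : B ≠ ⊥)
    (hcoh : IsCoherent (inducedIrrAbove H B) {1}ᶜ τ) :
    ∃ B₁ : Subgroup N, B₁.Normal ∧ B₁ < B ∧ IsCoherent (inducedIrrAbove H B₁) {1}ᶜ τ := by
  have hBH : B < H := lt_of_le_of_lt hB hH'
  have hsolv : Group.IsSolvable H := inferInstance
  obtain ⟨P, hPn, hPH, hPB, hBP⟩ := exists_incomparable H hnil hpp B hB1 hBH
  obtain ⟨T, hTn, hTP, hTB, hTc⟩ := exists_central_mod H P B hnil hPH hPB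
  have hle : (⁅B, H⁆ ⊔ (B ⊓ P) : Subgroup N) ≤ B :=
    sup_le (Subgroup.commutator_le_left B H) inf_le_left
  have hlt : (⁅B, H⁆ ⊔ (B ⊓ P) : Subgroup N) < B := by
    refine lt_of_le_of_ne hle ?_
    intro h
    apply not_le_commutator_sup H B (B ⊓ P) hnil hBH.le (fun h' => hBP (h'.trans inf_le_right))
    rw [h]
  have hDc : (⁅B ⊔ T, H⁆ : Subgroup N) ≤ ⁅B, H⁆ ⊔ (B ⊓ P) :=
    (sup_commutator_le B T H).trans (sup_le_sup le_rfl hTc)
  have hDH : B ⊔ T ≤ H := sup_le hBH.le (hTP.trans hPH)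
  refine ⟨⁅B, H⁆ ⊔ (B ⊓ P), inferInstance, hlt, ?_⟩
  apply step H hC τ hτ hτ1 hsolv B (⁅B, H⁆ ⊔ (B ⊓ P)) (B ⊔ T) hBH hle (hle.trans le_sup_left) hDH
    (fun x hx y hy => hDc (Subgroup.commutator_mem_commutator hx hy)) hcoh
  have hmul := Subgroup.relIndex_mul_relIndex B (B ⊔ T) H le_sup_left hDH
  rw [← hmul]
  have hX1 : (B ⊔ T).relIndex H ≠ 1 := by
    rw [Ne, Subgroup.relIndex_eq_one]
    intro h
    have h1 : (⁅H, H⁆ : Subgroup N) ≤ ⁅B ⊔ T, H⁆ := Subgroup.commutator_mono h le_rfl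
    exact absurd (hB.trans (h1.trans hDc)) (not_le_of_gt hlt)
  have hw1 : B.relIndex (B ⊔ T) ≠ 1 := by
    rw [Ne, Subgroup.relIndex_eq_one]
    intro h
    exact hTB (le_sup_right.trans h)
  have hX0 := relIndex_ne_zero' (B ⊔ T) H
  have hw0 := relIndex_ne_zero' B (B ⊔ T)
  apply num_c (Nat.pos_of_ne_zero Subgroup.index_ne_zero_of_finite) (by omega) (by omega)
    (index_dvd H hC (B ⊔ T) hDH)
  rw [hmul]
  exact index_dvd H hC B hBH.le

include hC hτ hτ1 in
theorem main (hH1 : H ≠ ⊥) (hH2 : H ≠ ⊤) (he : Nat.card H ≠ H.index + 1) :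
    IsCoherent (inducedIrrAbove H ⊥) {1}ᶜ τ ∨
      ∃ p : ℕ, p.Prime ∧ (∃ m : ℕ, Nat.card H = p ^ m) ∧ ¬ IsMulCommutative H ∧
        ((⁅H, H⁆ : Subgroup N).subgroupOf H).index ≤ 4 * H.index ^ 2 + 1 := by
  have hnil := nilpotent H hC hH1 hH2
  have he0 : 0 < H.index := Nat.pos_of_ne_zero Subgroup.index_ne_zero_of_finite
  have hH'le : (⁅H, H⁆ : Subgroup N) ≤ H := Subgroup.commutator_le_left H H
  have hH' : (⁅H, H⁆ : Subgroup N) < H := by
    refine lt_of_le_of_ne hH'le ?_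
    intro h
    apply not_le_commutator_sup H H ⊥ hnil le_rfl (fun h' => hH1 (le_bot_iff.1 h'))
    rw [h]; exact le_sup_left
  -- generic: index ≡ 1 and ≠ 1, ≠ e + 1 gives ≥ 2e + 1
  have hgen : ∀ r : ℕ, H.index ∣ r - 1 → 2 ≤ r → r ≠ H.index + 1 → 2 * H.index + 1 ≤ r := by
    intro r ⟨k, hk⟩ h2 hne
    have hk0 : k ≠ 0 := by rintro rfl; omega
    have hk1 : k ≠ 1 := by rintro rfl; omega
    have : 2 ≤ k := by omega
    have : H.index * 2 ≤ H.index * k := Nat.mul_le_mul_left _ this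
    omega
  have hr'1 : (⁅H, H⁆ : Subgroup N).relIndex H ≠ 1 := by
    rw [Ne, Subgroup.relIndex_eq_one]; exact not_le_of_gt hH'
  have hr'0 : (⁅H, H⁆ : Subgroup N).relIndex H ≠ 0 := relIndex_ne_zero' _ _
  -- the descent
  have descend : (∀ B : Subgroup N, B.Normal → B ≤ ⁅H, H⁆ → B ≠ ⊥ →
      IsCoherent (inducedIrrAbove H B) {1}ᶜ τ →
      ∃ B₁ : Subgroup N, B₁.Normal ∧ B₁ < B ∧ IsCoherent (inducedIrrAbove H B₁) {1}ᶜ τ) →
      IsCoherent (inducedIrrAbove H ⁅H, H⁆) {1}ᶜ τ → IsCoherent (inducedIrrAbove H ⊥) {1}ᶜ τ := by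
    intro hstep h0
    have key : ∀ n : ℕ, ∀ B : Subgroup N, B.Normal → B ≤ ⁅H, H⁆ → Nat.card B ≤ n →
        IsCoherent (inducedIrrAbove H B) {1}ᶜ τ → IsCoherent (inducedIrrAbove H ⊥) {1}ᶜ τ := by
      intro n
      induction n with
      | zero =>
        intro B _ _ hc _
        exact absurd hc (by have : 0 < Nat.card B := Nat.card_pos; omega)
      | succ n ih =>
        intro B hBn hB hc hcoh
        by_cases hB1 : B = ⊥
        · rw [hB1] at hcoh; exact hcoh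
        · obtain ⟨B₁, hB₁n, hlt, hcoh₁⟩ := hstep B hBn hB hB1 hcoh
          exact ih B₁ hB₁n (hlt.le.trans hB) (by have := card_lt_of_lt hlt; omega) hcoh₁
    exact key _ ⁅H, H⁆ inferInstance le_rfl le_rfl h0
  by_cases hab : IsMulCommutative H
  · left
    have hbot : (⁅H, H⁆ : Subgroup N) = ⊥ := by
      rw [Subgroup.commutator_eq_bot_iff_le_centralizer]
      intro x hx y hy
      have := hab.is_comm.comm (⟨y, hy⟩ : H) ⟨x, hx⟩
      exact congrArg Subtype.val this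
    apply base H hC τ hτ hτ1 ⊥ (by rw [hbot]) bot_le
    rw [Subgroup.relIndex_bot_left]
    apply hgen _ _ _ he
    · have := index_dvd H hC ⊥ bot_le
      rwa [Subgroup.relIndex_bot_left] at this
    · have h1 : Nat.card H ≠ 1 := by
        rw [Ne, Subgroup.card_eq_one]; exact hH1
      have : 0 < Nat.card H := Nat.card_pos
      omega
  · by_cases hbig : 4 * H.index ^ 2 + 1 < (⁅H, H⁆ : Subgroup N).relIndex H
    · left
      apply descend
      · intro B hBn hB hB1 hcoh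
        exact descent_b H hC τ hτ hτ1 hnil hbig hH' B hB hB1 hcoh
      · apply base H hC τ hτ hτ1 _ le_rfl hH'le
        nlinarith
    · by_cases hpp : ∃ p m : ℕ, p.Prime ∧ Nat.card H = p ^ m
      · right
        obtain ⟨p, m, hp, hm⟩ := hpp
        exact ⟨p, hp, ⟨m, hm⟩, hab, not_lt.1 hbig⟩
      · left
        apply descend
        · intro B hBn hB hB1 hcoh
          exact descent_c H hC τ hτ hτ1 hnil hpp hH' B hB hB1 hcoh
        · apply base H hC τ hτ hτ1 _ le_rfl hH'le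
          apply hgen _ (index_dvd H hC _ hH'le) (by omega)
          intro hr
          set p := ((⁅H, H⁆ : Subgroup N).relIndex H).minFac with hp
          have hpp' : p.Prime := Nat.minFac_prime hr'1
          have := Fact.mk hpp'
          obtain ⟨P, hPn, hPH, hPp, hPi, -⟩ := exists_normal_sylow H hnil p
          have hMH : P ⊔ ⁅H, H⁆ ≤ H := sup_le hPH hH'le
          have hs1 := index_dvd H hC (P ⊔ ⁅H, H⁆) hMH
          have hs2 : (P ⊔ ⁅H, H⁆).relIndex H ∣ (⁅H, H⁆ : Subgroup N).relIndex H :=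
            Subgroup.relIndex_dvd_of_le_left H le_sup_right
          have hs3 : (P ⊔ ⁅H, H⁆).relIndex H ∣ P.relIndex H :=
            Subgroup.relIndex_dvd_of_le_left H le_sup_left
          have hs4 : (P ⊔ ⁅H, H⁆).relIndex H ≠ (⁅H, H⁆ : Subgroup N).relIndex H := by
            intro h
            apply hPi
            exact (h ▸ Nat.minFac_dvd _ : p ∣ (P ⊔ ⁅H, H⁆).relIndex H).trans hs3
          have hs5 : (P ⊔ ⁅H, H⁆).relIndex H = 1 := by
            by_contra hne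
            have h0 : (P ⊔ ⁅H, H⁆).relIndex H ≠ 0 := fun h0 => hr'0 (by
              rw [h0] at hs2; exact Nat.eq_zero_of_zero_dvd hs2)
            have h1 := Nat.le_of_dvd (by omega) hs1
            have h2 := Nat.le_of_dvd (Nat.pos_of_ne_zero hr'0) hs2
            omega
          rw [Subgroup.relIndex_eq_one, sup_comm] at hs5
          have hHP : H ≤ P := by
            by_contra hcon
            exact not_le_commutator_sup H H P hnil le_rfl hcon hs5
          apply hpp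
          have hPH' : P = H := le_antisymm hPH hHP
          obtain ⟨m, hm⟩ := IsPGroup.iff_card.1 hPp
          exact ⟨p, m, hpp', hPH' ▸ hm⟩

end main

end Cfsg.Agent.Lib.Helper6.FeitCoh
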