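import Cfsg.Agent.Lib.Helper15.CharTools
import Cfsg.Agent.Lib.Helper3.Mono2

set_option autoImplicit false

/-! # The norm of a character induced from a linear character -/

namespace Cfsg.Agent.Lib.Helper6.IndNorm

open scoped ComplexConjugate
open Cfsg Cfsg.Agent.Lib

variable {G : Type*} [Group G] [Fintype G]

theorem conj_hom {A : Type*} [Group A] [Finite A] (f : A →* ℂˣ) (x : A) :
    conj ((f x : ℂˣ) : ℂ) = ((f x⁻¹ : ℂˣ) : ℂ) := by
  have h1 : ((f x : ℂˣ) : ℂ) ^ orderOf x = 1 := by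
    rw [← Units.val_pow_eq_pow_val, ← map_pow, pow_orderOf_eq_one, map_one, Units.val_one]
  have h2 : ‖((f x : ℂˣ) : ℂ)‖ = 1 :=
    Complex.norm_eq_one_of_pow_eq_one h1 (orderOf_pos x).ne'
  rw [map_inv, Units.val_inv_eq_inv_val, Complex.inv_eq_conj h2]

/-- Mackey's criterion in the form we need. -/
theorem classInner_indFun_self (A : Subgroup G) [Fintype A] (f : A →* ℂˣ)
    (h0 : ∀ y : G, y ∉ A → ∑ x : A, ((f x : ℂˣ) : ℂ) *
      conj (extendByZero A (fun x : A => ((f x : ℂˣ) : ℂ)) (y⁻¹ * x * y)) = 0) :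
    classInner (indFun A (fun x : A => ((f x : ℂˣ) : ℂ))) (indFun A (fun x : A => ((f x : ℂˣ) : ℂ)))
      = 1 := by
  classical
  set μ : A → ℂ := fun x : A => ((f x : ℂˣ) : ℂ) with hμ
  rw [Helper3.frobenius_reciprocity A μ (Helper3.isClassFunction_indFun A μ)]
  have hA : (Nat.card A : ℂ) ≠ 0 := by exact_mod_cast Nat.card_pos.ne'
  simp only [classInner, Helper3.indFun_apply, map_mul, map_inv₀, Complex.conj_natCast, map_sum]
  have h1 : ∑ x : A, μ x * ((Nat.card A : ℂ)⁻¹ * ∑ y : G, conj (extendByZero A μ (y⁻¹ * x * y)))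
      = (Nat.card A : ℂ)⁻¹ * ∑ y : G, ∑ x : A, μ x * conj (extendByZero A μ (y⁻¹ * x * y)) := by
    rw [Finset.sum_comm, Finset.mul_sum]
    refine Finset.sum_congr rfl fun x _ => ?_
    rw [Finset.mul_sum, Finset.mul_sum, Finset.mul_sum]
    refine Finset.sum_congr rfl fun y _ => ?_
    ring
  rw [h1]
  have h2 : ∀ y : G, ∑ x : A, μ x * conj (extendByZero A μ (y⁻¹ * x * y))
      = if y ∈ A then (Nat.card A : ℂ) else 0 := by
    intro y
    split_ifs with hy
    · have h3 : ∀ x : A, μ x * conj (extendByZero A μ (y⁻¹ * x * y)) = 1 := by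
        intro x
        have h4 : y⁻¹ * x * y = (((⟨y, hy⟩ : A)⁻¹ * x * ⟨y, hy⟩ : A) : G) := rfl
        rw [h4, Helper3.extendByZero_apply_coe]
        simp only [hμ]
        rw [conj_hom, ← Units.val_mul, ← map_mul]
        have h5 : f (x * ((⟨y, hy⟩ : A)⁻¹ * x * ⟨y, hy⟩)⁻¹) = 1 := by
          simp only [map_mul, map_inv]
          rw [mul_comm (f ⟨y, hy⟩)⁻¹, mul_assoc, inv_mul_cancel, mul_one, mul_inv_cancel]
        rw [h5, Units.val_one]
      rw [Finset.sum_congr rfl (fun x _ => h3 x), Finset.sum_const, Finset.card_univ,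
        Nat.card_eq_fintype_card]
      simp
    · exact h0 y hy
  rw [Finset.sum_congr rfl (fun y _ => h2 y), ← Finset.sum_filter, Finset.sum_const]
  have h6 : (Finset.univ.filter (fun y : G => y ∈ A)).card = Nat.card A := by
    rw [Nat.card_eq_fintype_card, ← Fintype.card_subtype]
  rw [h6, nsmul_eq_mul]
  field_simp

end Cfsg.Agent.Lib.Helper6.IndNorm
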