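import Mathlib
import Cfsg.Agent.Lib.Helper19.PSLCore

set_option autoImplicit false

/-! Zassenhaus-type recognition of `PSL(2,F)`, `|F| ≡ 3 (mod 4)` (adapted from
`Cfsg.Agent.Lib.Helper19.psl2_core`). -/

namespace Cfsg.Agent.Lib.Helper6.PSL3

open OnePoint Matrix Cfsg.Agent.Lib.Helper19

theorem psl2_core3 {G X : Type*} [Group G] [Finite G] [MulAction G X] [FaithfulSMul G X]
    (T D : Subgroup G) (u : G) (oI o0 : X) (hne : o0 ≠ oI)
    (hTc : ∀ s ∈ T, ∀ t ∈ T, s * t = t * s)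
    (hTfix : ∀ t ∈ T, t • oI = oI)
    (hTtrans : ∀ x : X, x ≠ oI → ∃ t ∈ T, t • o0 = x)
    (hTfree : ∀ t ∈ T, t • o0 = o0 → t = 1)
    (hDc : ∀ c ∈ D, ∀ d ∈ D, c * d = d * c)
    (hDfixI : ∀ d ∈ D, d • oI = oI) (hDfix0 : ∀ d ∈ D, d • o0 = o0)
    (hDT : ∀ d ∈ D, ∀ t ∈ T, d * t * d⁻¹ ∈ T)
    (hstab : ∀ g : G, g • oI = oI → ∃ t ∈ T, ∃ d ∈ D, g = t * d)
    (hfree : ∀ d ∈ D, ∀ t ∈ T, t ≠ 1 → d * t * d⁻¹ = t → d = 1)
    (hcard : Nat.card T = 2 * Nat.card D + 1)
    (hDodd : Odd (Nat.card D)) (hufix : ∀ x : X, u • x ≠ x)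
    (hu1 : u • oI = o0) (hu2 : u • o0 = oI) (huu : u * u = 1)
    (hud : ∀ d ∈ D, u * d * u⁻¹ = d⁻¹)
    (h2 : ∀ y₁ y₂ : X, y₁ ≠ y₂ → ∃ g : G, g • oI = y₁ ∧ g • o0 = y₂) :
    ∃ (F : Type) (_ : Field F) (_ : Fintype F), Fintype.card F = Nat.card T ∧ ringChar F ≠ 2 ∧
      Nonempty (G ≃* Matrix.ProjectiveSpecialLinearGroup (Fin 2) F) := by
  classical
  have hDpos : 0 < Nat.card D := Nat.card_pos
  obtain ⟨e, heT, he1⟩ : ∃ e ∈ T, e ≠ 1 := by
    by_contra hcon
    push Not at hcon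
    have : T = ⊥ := (Subgroup.eq_bot_iff_forall T).2 hcon
    rw [this, Subgroup.card_bot] at hcard
    omega
  obtain ⟨F, iF, iFt, τ, hτT, hτsurj, hτinj, hτadd, hτ1, hτD, hcardF⟩ :=
    exists_field_coord2 T D hTc hDc hDT hfree (by omega) e heT he1
  have hF : ringChar F ≠ 2 := by
    intro h
    have := FiniteField.even_card_of_char_two h
    omega
  refine ⟨F, iF, iFt, hcardF, hF, ?_⟩
  have hhalf : Fintype.card F / 2 = Nat.card D := by omega
  have hτ0 : τ 0 = 1 := by
    have := hτadd 0 0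
    rw [add_zero] at this
    exact (mul_eq_left.mp this.symm)
  have hτneg : ∀ a, τ (-a) = (τ a)⁻¹ := by
    intro a
    rw [eq_inv_iff_mul_eq_one, ← hτadd, neg_add_cancel, hτ0]
  -- the scalars
  choose κ hκ0 hκ using fun d : D => hτD d d.2
  have hκuniq : ∀ (d : D) (k : F), (d : G) * τ 1 * (d : G)⁻¹ = τ k → κ d = k := by
    intro d k h
    have := hκ d 1
    rw [mul_one, h] at this
    exact (hτinj this).symm
  have hκmul : ∀ d d' : D, κ (d * d') = κ d * κ d' := by
    intro d d'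
    apply hκuniq
    have : ((d * d' : D) : G) * τ 1 * ((d * d' : D) : G)⁻¹
        = (d : G) * ((d' : G) * τ 1 * (d' : G)⁻¹) * (d : G)⁻¹ := by
      rw [Subgroup.coe_mul]; group
    rw [this, hκ d' 1, hκ d, mul_one]
  have hκone : κ 1 = 1 := by
    apply hκuniq
    simp
  let κH : D →* F := { toFun := κ, map_one' := hκone, map_mul' := hκmul }
  have hκpow : ∀ d : D, κ d ^ Nat.card D = 1 := by
    intro d
    have : κH (d ^ Nat.card D) = κH d ^ Nat.card D := map_pow κH d _
    rw [pow_card_eq_one', map_one] at this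
    exact this.symm
  have hκinj : Function.Injective κ := by
    intro d d' h
    have h1 : ((d' : G)⁻¹ * d) * e * ((d' : G)⁻¹ * d)⁻¹ = e := by
      have e1 := hκ d 1
      have e2 := hκ d' 1
      rw [h, ← e2, hτ1] at e1
      calc ((d' : G)⁻¹ * d) * e * ((d' : G)⁻¹ * d)⁻¹
          = (d' : G)⁻¹ * ((d : G) * e * (d : G)⁻¹) * d' := by group
        _ = e := by rw [e1]; group
    have h2 := hfree _ (D.mul_mem (D.inv_mem d'.2) d.2) e heT he1 h1
    exact Subtype.ext (inv_mul_eq_one.mp h2).symm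
  have hκsq : ∀ d : D, IsSquare (κ d) := by
    intro d
    rw [FiniteField.isSquare_iff hF (hκ0 d), hhalf]
    exact hκpow d
  have := Fintype.ofFinite D
  have hsqκ : ∀ a : F, a ≠ 0 → IsSquare a → ∃ d : D, κ d = a := by
    intro a ha hsq
    have := mem_of_isSquare_of_card hF (Finset.univ.image κ)
      (by
        intro k hk
        obtain ⟨d, -, rfl⟩ := Finset.mem_image.mp hk
        rw [hhalf]; exact hκpow d)
      (by
        rw [Finset.card_image_of_injective _ hκinj, Finset.card_univ, hhalf,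
          Nat.card_eq_fintype_card])
      (by omega) a ha hsq
    obtain ⟨d, -, hd⟩ := Finset.mem_image.mp this
    exact ⟨d, hd⟩
  have hneg1 : ¬ IsSquare (-1 : F) := by
    rw [FiniteField.isSquare_neg_one_iff, not_not]
    obtain ⟨k, hk⟩ := hDodd
    omega
  -- the coordinate
  let γ₀ : OnePoint F → X := fun y => y.elim oI (fun a => τ a • o0)
  have hγI : γ₀ ∞ = oI := rfl
  have hγc : ∀ a : F, γ₀ (a : OnePoint F) = τ a • o0 := fun a => rfl
  have hγcne : ∀ a : F, γ₀ (a : OnePoint F) ≠ oI := by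
    intro a h
    rw [hγc, ← hTfix (τ a) (hτT a)] at h
    exact hne (smul_left_cancel _ h)
  have hγinj : Function.Injective γ₀ := by
    intro y z hyz
    induction y using OnePoint.rec with
    | infty =>
      induction z using OnePoint.rec with
      | infty => rfl
      | coe b => exact absurd hyz.symm (hγcne b)
    | coe a =>
      induction z using OnePoint.rec with
      | infty => exact absurd hyz (hγcne a)
      | coe b =>
        rw [hγc, hγc] at hyz
        have h1 : ((τ b)⁻¹ * τ a) • o0 = o0 := by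
          rw [mul_smul, hyz, inv_smul_smul]
        have h2 := hTfree _ (mul_mem (inv_mem (hτT b)) (hτT a)) h1
        rw [hτinj (inv_mul_eq_one.mp h2).symm]
  have hγsurj : Function.Surjective γ₀ := by
    intro x
    by_cases hx : x = oI
    · exact ⟨∞, hx.symm⟩
    · obtain ⟨t, ht, htx⟩ := hTtrans x hx
      obtain ⟨a, rfl⟩ := hτsurj t ht
      exact ⟨(a : OnePoint F), htx⟩
  let γ : OnePoint F ≃ X := Equiv.ofBijective γ₀ ⟨hγinj, hγsurj⟩
  have hγ : ∀ y, γ y = γ₀ y := fun y => rfl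
  have hγ0 : γ₀ ((0 : F) : OnePoint F) = o0 := by rw [hγc, hτ0, one_smul]
  have hγcinj : ∀ a b : F, γ₀ (a : OnePoint F) = γ₀ (b : OnePoint F) → a = b :=
    fun a b h => OnePoint.coe_injective (hγinj h)
  -- actions
  have hTact : ∀ b a : F, τ b • γ₀ (a : OnePoint F) = γ₀ ((a + b : F) : OnePoint F) := by
    intro b a
    rw [hγc, hγc, ← mul_smul, ← hτadd, add_comm]
  have hDact : ∀ (d : D) (a : F), (d : G) • γ₀ (a : OnePoint F) = γ₀ ((κ d * a : F) : OnePoint F) := by
    intro d a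
    rw [hγc, hγc, ← hκ d a]
    nth_rewrite 2 [← hDfix0 d d.2]
    simp only [← mul_smul]
    congr 1
    group
  have huinv : u⁻¹ = u := inv_eq_of_mul_eq_one_left huu
  -- the function `υ`
  have hυex : ∀ x : F, x ≠ 0 → ∃ y : F, y ≠ 0 ∧ u • γ₀ (x : OnePoint F) = γ₀ (y : OnePoint F) := by
    intro x hx
    obtain ⟨y, hy⟩ := hγsurj (u • γ₀ (x : OnePoint F))
    have hy1 : y ≠ ∞ := by
      rintro rfl
      rw [hγI, ← hu2] at hy
      have := smul_left_cancel u hy
      rw [← hγ0] at this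
      exact hx (hγcinj _ _ this).symm
    have hy2 : y ≠ ((0 : F) : OnePoint F) := by
      rintro rfl
      rw [hγ0, ← hu1] at hy
      exact hγcne x (smul_left_cancel u hy).symm
    obtain ⟨c, rfl⟩ := OnePoint.ne_infty_iff_exists.mp hy1
    exact ⟨c, fun h => hy2 (by rw [h]), hy.symm⟩
  let υ : F → F := fun x => if hx : x ≠ 0 then (hυex x hx).choose else 0
  have hυ0 : ∀ x : F, x ≠ 0 → υ x ≠ 0 := by
    intro x hx
    simp only [υ, dif_pos hx]
    exact (hυex x hx).choose_spec.1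
  have hυ : ∀ x : F, x ≠ 0 → u • γ₀ (x : OnePoint F) = γ₀ (υ x : OnePoint F) := by
    intro x hx
    simp only [υ, dif_pos hx]
    exact (hυex x hx).choose_spec.2
  have hυυ : ∀ x : F, x ≠ 0 → υ (υ x) = x := by
    intro x hx
    apply hγcinj
    rw [← hυ _ (hυ0 x hx), ← hυ x hx, ← mul_smul, huu, one_smul]
  have hυD : ∀ (d : D) (x : F), x ≠ 0 → υ (κ d * x) = (κ d)⁻¹ * υ x := by
    intro d x hx
    apply hγcinj
    rw [← hυ _ (mul_ne_zero (hκ0 d) hx), ← hDact, ← mul_smul]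
    have e3 : u * (d : G) = (d : G)⁻¹ * u := by
      rw [← hud d d.2]; group
    rw [e3, mul_smul, hυ x hx, inv_smul_eq_iff, hDact, mul_inv_cancel_left₀ (hκ0 d)]
  have hsq : ∀ a x : F, a ≠ 0 → IsSquare a → x ≠ 0 → υ (a * x) = a⁻¹ * υ x := by
    intro a x ha hsa hx
    obtain ⟨d, rfl⟩ := hsqκ a ha hsa
    exact hυD d x hx
  set c := υ 1 with hc
  have hc0 : c ≠ 0 := hυ0 1 one_ne_zero
  have hυc : υ c = 1 := hυυ 1 one_ne_zero
  have hcns : ¬ IsSquare c := by
    rintro ⟨s, hs⟩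
    have hs0 : s ≠ 0 := by
      rintro rfl
      exact hc0 (by rw [hs, mul_zero])
    obtain ⟨a, ha0, hasq, haa⟩ : ∃ a : F, a ≠ 0 ∧ IsSquare a ∧ a * a = c := by
      by_cases hss : IsSquare s
      · exact ⟨s, hs0, hss, hs.symm⟩
      · refine ⟨-s, neg_ne_zero.mpr hs0, ?_, by rw [hs]; ring⟩
        have := isSquare_div_of_not hss hneg1
        rwa [div_neg, div_one] at this
    have h1 := hsq a 1 ha0 hasq one_ne_zero
    rw [mul_one, ← hc, ← haa, inv_mul_cancel_left₀ ha0] at h1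
    apply hufix (γ₀ (a : OnePoint F))
    rw [hυ a ha0, h1]
  have hmain : ∀ x : F, x ≠ 0 → υ x = c / x := by
    intro x hx
    by_cases hxs : IsSquare x
    · have h1 := hsq x 1 hx hxs one_ne_zero
      rw [mul_one, ← hc] at h1
      rw [h1]; field_simp
    · have h2 := isSquare_div_of_not hxs hcns
      have h3 := hsq _ _ (div_ne_zero hx hc0) h2 hc0
      rw [div_mul_cancel₀ _ hc0, hυc] at h3
      rw [h3]; field_simp
  -- the elements of `G` are Moebius maps
  let P : G → Prop := fun g => ∃ p : Matrix.SpecialLinearGroup (Fin 2) F, ∀ y, g • γ₀ y = γ₀ (p.toGL • y)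
  have hPT : ∀ t ∈ T, P t := by
    intro t ht
    obtain ⟨b, rfl⟩ := hτsurj t ht
    refine ⟨slT b, fun y => ?_⟩
    induction y using OnePoint.rec with
    | infty => rw [slT_smul_infty, hγI]; exact hTfix _ ht
    | coe a => rw [slT_smul_coe, hTact]
  have hPD : ∀ d ∈ D, P d := by
    intro d hd
    obtain ⟨r, hr⟩ := hκsq ⟨d, hd⟩
    have hr0 : r ≠ 0 := by
      rintro rfl
      exact hκ0 ⟨d, hd⟩ (by rw [hr, mul_zero])
    refine ⟨slD r hr0, fun y => ?_⟩
    induction y using OnePoint.rec with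
    | infty => rw [slD_smul_infty, hγI]; exact hDfixI d hd
    | coe a =>
      rw [slD_smul_coe, pow_two, ← hr]
      exact hDact ⟨d, hd⟩ a
  have hPu : P u := by
    obtain ⟨r, hr⟩ : IsSquare (-c) := by
      have := isSquare_div_of_not hcns hneg1
      rwa [div_neg, div_one] at this
    have hr0 : r ≠ 0 := by
      rintro rfl
      apply hc0
      rw [mul_zero, neg_eq_zero] at hr
      exact hr
    refine ⟨slU r hr0, fun y => ?_⟩
    induction y using OnePoint.rec with
    | infty => rw [slU_smul_infty, hγI, hγ0]; exact hu1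
    | coe a =>
      by_cases ha : a = 0
      · rw [ha, slU_smul_zero, hγ0, hγI]; exact hu2
      · rw [slU_smul_coe r hr0 ha, hυ a ha, hmain a ha]
        congr 2
        rw [pow_two, ← hr, neg_neg]
  have hPmul : ∀ g g' : G, P g → P g' → P (g * g') := by
    rintro g g' ⟨p, hp⟩ ⟨q, hq⟩
    exact ⟨p * q, fun z => by rw [mul_smul, hq, hp, map_mul, mul_smul]⟩
  have hPstab : ∀ g : G, g • oI = oI → P g := by
    intro g hg
    obtain ⟨t, ht, d, hd, rfl⟩ := hstab g hg
    exact hPmul _ _ (hPT t ht) (hPD d hd)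
  have hPall : ∀ g : G, P g := by
    intro g
    by_cases hg : g • oI = oI
    · exact hPstab g hg
    · obtain ⟨t, ht, htg⟩ := hTtrans (g • oI) hg
      have h2' : (u * (t⁻¹ * g)) • oI = oI := by
        rw [mul_smul, mul_smul, ← htg, inv_smul_smul, hu2]
      have h3' := hPstab _ h2'
      have : g = t * (u * (u * (t⁻¹ * g))) := by
        calc g = t * ((u * u) * (t⁻¹ * g)) := by rw [huu]; group
          _ = t * (u * (u * (t⁻¹ * g))) := by group
      rw [this]
      exact hPmul _ _ (hPT t ht) (hPmul _ _ hPu h3')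
  apply nonempty_mulEquiv_PSL γ hPall
  · intro y₁ y₂ h12
    obtain ⟨g, hg1, hg2⟩ := h2 y₁ y₂ h12
    exact ⟨g, hg1, by rw [hγ, hγ0]; exact hg2⟩
  · intro r hr
    obtain ⟨d, hd⟩ := hsqκ (r ^ 2) (pow_ne_zero 2 hr) ⟨r, pow_two r⟩
    refine ⟨d, fun y => ?_⟩
    rw [hγ, hγ]
    induction y using OnePoint.rec with
    | infty => rw [slD_smul_infty, hγI]; exact hDfixI d d.2
    | coe a => rw [slD_smul_coe, ← hd]; exact hDact d a

end Cfsg.Agent.Lib.Helper6.PSL3
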