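import Cfsg.Agent.Lib.Helper6.Exc
import Cfsg.Agent.Lib.Helper6.FeitCoh
import Cfsg.Agent.Lib.Helper6.ClassCount
import Cfsg.Agent.Lib.Helper80.Quot

/-!
# T.I. subgroups with Frobenius normaliser: induction is an isometry on degree-zero combinations
-/

set_option autoImplicit false
set_option linter.unusedSectionVars false
set_option linter.unusedVariables false

namespace Cfsg.Agent.Lib.Helper6.TIFrob

open Cfsg Cfsg.Agent.Lib.Helper15 Cfsg.Agent.Lib.Helper26

local notation "conj" => starRingEnd ℂ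

/-- `H` is a T.I. subgroup of `G` with normaliser `A`, and `A` is a Frobenius group with kernel `H`
(or `A = H`). -/
structure Setup {G : Type*} [Group G] (A H : Subgroup G) : Prop where
  le : H ≤ A
  normal : ∀ x ∈ A, ∀ u ∈ H, x * u * x⁻¹ ∈ H
  ti : ∀ g : G, ∀ u ∈ H, u ≠ 1 → g * u * g⁻¹ ∈ H → g ∈ A
  cent : ∀ u ∈ H, u ≠ 1 → Subgroup.centralizer ({u} : Set G) ≤ H

variable {G : Type*} [Group G] {A H : Subgroup G}

theorem Setup.normal_subgroupOf (hs : Setup A H) : (H.subgroupOf A).Normal := by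
  constructor
  intro n hn g
  rw [Subgroup.mem_subgroupOf] at hn ⊢
  exact hs.normal g g.2 n hn

theorem Setup.cent' (hs : Setup A H) : ∀ k ∈ H.subgroupOf A, k ≠ 1 →
    Subgroup.centralizer ({k} : Set A) ≤ H.subgroupOf A := by
  intro k hk hk1 x hx
  rw [Subgroup.mem_subgroupOf] at hk ⊢
  apply hs.cent k hk (fun h => hk1 (Subtype.ext h))
  rw [Subgroup.mem_centralizer_singleton_iff] at hx ⊢
  exact congrArg Subtype.val hx

/-- the relevant irreducible characters `Irr(A | H)` -/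
def rel (A H : Subgroup G) : Set (A → ℂ) :=
  {χ | IsIrrCharacter A χ ∧ ∃ k ∈ H.subgroupOf A, χ k ≠ χ 1}

variable [Fintype G]

theorem Setup.ind_eq (hs : Setup A H) {β : A → ℂ} (hβ : IsClassFunction A β)
    (hβ0 : ∀ x : A, (x : G) ∉ H → β x = 0) {u : G} (hu : u ∈ H) (hu1 : u ≠ 1) :
    indFun A β u = β ⟨u, hs.le hu⟩ := by
  classical
  rw [indFun_apply]
  have hterm : ∀ x : G, extendByZero A β (x⁻¹ * u * x) = if x ∈ A then β ⟨u, hs.le hu⟩ else 0 := by
    intro x
    split_ifs with hx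
    · have hmem : x⁻¹ * u * x ∈ A := A.mul_mem (A.mul_mem (A.inv_mem hx) (hs.le hu)) hx
      rw [extendByZero_mem A β hmem]
      have := hβ ⟨u, hs.le hu⟩ (⟨x, hx⟩ : A)⁻¹
      rw [← this]
      congr 1
      apply Subtype.ext
      simp
    · by_cases hmem : x⁻¹ * u * x ∈ A
      · rw [extendByZero_mem A β hmem]
        apply hβ0
        intro h
        apply hx
        have := hs.ti x⁻¹ u hu hu1 (by rwa [inv_inv])
        simpa using A.inv_mem this
      · exact extendByZero_not_mem A β hmem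
  rw [Finset.sum_congr rfl (fun x _ => hterm x), Finset.sum_ite, Finset.sum_const_zero, add_zero,
    Finset.sum_const, nsmul_eq_mul]
  have hcard : (Finset.univ.filter (fun x : G => x ∈ A)).card = Nat.card A := by
    rw [Nat.card_eq_fintype_card, Fintype.card_subtype]
  rw [hcard]
  have : (Nat.card A : ℂ) ≠ 0 := by exact_mod_cast Nat.card_pos.ne'
  field_simp

variable [Fintype A]

theorem rel_irr {χ : A → ℂ} (hχ : χ ∈ rel A H) : IsIrrCharacter A χ := hχ.1

theorem Setup.zspan_vanish (hs : Setup A H) {α : A → ℂ} (hα : α ∈ zspan (rel A H)) :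
    ∀ x : A, (x : G) ∉ H → α x = 0 := by
  have := hs.normal_subgroupOf
  intro x hx
  induction hα using Submodule.span_induction with
  | mem χ hχ => exact Exc.vanish (H.subgroupOf A) hs.cent' hχ.1 hχ.2 hx
  | zero => rfl
  | add a b _ _ ha hb => rw [Pi.add_apply, ha, hb, add_zero]
  | smul n a _ ha => rw [Pi.smul_apply, ha, smul_zero]

theorem zspan_gen' {α : A → ℂ} (hα : α ∈ zspan (rel A H)) : IsGeneralizedCharacter A α :=
  zspan_gen (fun χ hχ => gen_of_irr hχ.1) α hα

theorem gen_indFun {α : A → ℂ} (hα : IsGeneralizedCharacter A α) :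
    IsGeneralizedCharacter G (indFun A α) := by
  obtain ⟨a, b, ha, hb, rfl⟩ := hα
  exact ⟨indFun A a, indFun A b, char_indFun A ha, char_indFun A hb, indFun_sub A a b⟩

theorem Setup.inner_ind (hs : Setup A H) {α β : A → ℂ} (hα : α ∈ zspanOn (rel A H) ({1}ᶜ : Set A))
    (hβ : β ∈ zspan (rel A H)) :
    classInner (indFun A α) (indFun A β) = classInner α β := by
  rw [classInner_indFun_left A α _ (indFun_isClassFunction A β)]
  obtain ⟨hα1, hα2⟩ := mem_zspanOn_one.1 hα
  unfold classInner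
  congr 1
  apply Finset.sum_congr rfl
  intro x _
  by_cases hx : (x : G) ∈ H
  · by_cases hx1 : x = 1
    · rw [hx1, hα2, zero_mul, zero_mul]
    · beta_reduce
      rw [hs.ind_eq (gen_classFunction (zspan_gen' hβ)) (hs.zspan_vanish hβ) hx
        (fun h => hx1 (Subtype.ext h))]
  · rw [hs.zspan_vanish hα1 x hx, zero_mul, zero_mul]

theorem Setup.isometry (hs : Setup A H) :
    IsLinearIsometryOn (zspanOn (rel A H) ({1}ᶜ : Set A)) (fun α : A → ℂ => indFun A α) := by
  refine ⟨fun α _ β _ => indFun_add A α β, fun α _ n => ?_, fun α hα β hβ => hs.inner_ind hα hβ.1,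
    fun α hα => gen_indFun (zspan_gen' hα.1)⟩
  show indFun A (n • α) = n • indFun A α
  rw [← Int.cast_smul_eq_zsmul ℂ, indFun_smul, Int.cast_smul_eq_zsmul]

omit [Fintype A] in
theorem ind_one {α : A → ℂ} (hα : α ∈ zspanOn (rel A H) ({1}ᶜ : Set A)) : indFun A α 1 = 0 := by
  rw [indFun_one, (mem_zspanOn_one.1 hα).2, mul_zero]

section classcount

variable {L : Type*} [Group L] [Fintype L] (K : Subgroup L) [hK : K.Normal]

open Classical in
/-- In a Frobenius group `L` with kernel `K`, the number of classes of `L` inside `K` is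
`|Irr(L | K)| + 1`. -/
theorem card_classes_in_kernel
    (hC : ∀ k ∈ K, k ≠ 1 → Subgroup.centralizer ({k} : Set L) ≤ K) :
    Nat.card {C : ConjClasses L // ∀ g, ConjClasses.mk g = C → g ∈ K} =
      (Finset.univ.filter (fun θ : IrrCharacter L =>
        ∃ k ∈ K, (θ : L → ℂ) k ≠ (θ : L → ℂ) 1)).card + 1 := by
  have h1 := ClassCount.sum_card_commute (G := L) (fun g => g ∈ K)
    (fun g x hg => hK.conj_mem g hg x)
  have hL : (Fintype.card L : ℂ) ≠ 0 := by exact_mod_cast Fintype.card_pos.ne'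
  have hcent : ∀ g : L, ((Finset.univ.filter (fun x : L => x * g = g * x)).card : ℂ) =
      ∑ θ : IrrCharacter L, (θ : L → ℂ) g * conj ((θ : L → ℂ) g) := by
    intro g
    rw [Cfsg.Agent.Lib.Helper80.col_orth g g, if_pos (IsConj.refl g), Nat.card_eq_fintype_card,
      Fintype.card_subtype]
    congr 2
    ext x
    simp only [Finset.mem_filter, Finset.mem_univ, true_and, Subgroup.mem_centralizer_singleton_iff]
  have h2 : ((∑ g ∈ Finset.univ.filter (fun g : L => g ∈ K),
      (Finset.univ.filter (fun x : L => x * g = g * x)).card : ℕ) : ℂ) =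
      ∑ θ : IrrCharacter L, ∑ g ∈ Finset.univ.filter (fun g : L => g ∈ K),
        (θ : L → ℂ) g * conj ((θ : L → ℂ) g) := by
    push_cast
    rw [Finset.sum_comm]
    exact Finset.sum_congr rfl (fun g _ => hcent g)
  have hterm : ∀ θ : IrrCharacter L, ∑ g ∈ Finset.univ.filter (fun g : L => g ∈ K),
      (θ : L → ℂ) g * conj ((θ : L → ℂ) g) =
      if (∃ k ∈ K, (θ : L → ℂ) k ≠ (θ : L → ℂ) 1) then (Fintype.card L : ℂ)
      else (Nat.card K : ℂ) * ((charDegree (θ : L → ℂ) ^ 2 : ℕ) : ℂ) := by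
    intro θ
    split_ifs with hP
    · have e1 : ∑ g ∈ Finset.univ.filter (fun g : L => g ∈ K),
          (θ : L → ℂ) g * conj ((θ : L → ℂ) g) = ∑ g : L, (θ : L → ℂ) g * conj ((θ : L → ℂ) g) := by
        rw [Finset.sum_filter]
        apply Finset.sum_congr rfl
        intro g _
        split_ifs with hg
        · rfl
        · rw [Exc.vanish K hC θ.2 hP hg, zero_mul]
      have e2 := irr_inner_self θ.2
      unfold classInner at e2
      rw [e1]
      rw [Nat.card_eq_fintype_card] at e2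
      field_simp at e2
      exact e2
    · push Not at hP
      have e1 : ∀ g ∈ Finset.univ.filter (fun g : L => g ∈ K),
          (θ : L → ℂ) g * conj ((θ : L → ℂ) g) = ((charDegree (θ : L → ℂ) ^ 2 : ℕ) : ℂ) := by
        intro g hg
        rw [Finset.mem_filter] at hg
        rw [hP g hg.2, Cfsg.Agent.Lib.Helper80.char_one_eq_charDegree (irr_char θ.2),
          Complex.conj_natCast]
        push_cast; ring
      rw [Finset.sum_congr rfl e1, Finset.sum_const, nsmul_eq_mul]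
      congr 2
      rw [Nat.card_eq_fintype_card, Fintype.card_subtype]
  rw [Finset.sum_congr rfl (fun θ _ => hterm θ), Finset.sum_ite, Finset.sum_const, nsmul_eq_mul,
    ← Finset.mul_sum] at h2
  have h3 : ∑ θ ∈ Finset.univ.filter (fun θ : IrrCharacter L =>
      ¬ ∃ k ∈ K, (θ : L → ℂ) k ≠ (θ : L → ℂ) 1), charDegree (θ : L → ℂ) ^ 2 = K.index := by
    rw [← Cfsg.Agent.Lib.Helper80.sum_sq_charDegree_quot K]
    apply Finset.sum_congr
    · ext θ
      simp only [Finset.mem_filter, Finset.mem_univ, true_and]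
      push Not
      rfl
    · intro θ _; rfl
  rw [← Nat.cast_sum, h3, h1] at h2
  have h5 : (Nat.card K : ℂ) * (K.index : ℂ) = (Fintype.card L : ℂ) := by
    rw [← Nat.card_eq_fintype_card, ← K.card_mul_index]; push_cast; ring
  rw [h5] at h2
  push_cast at h2
  have h6 : (Nat.card {C : ConjClasses L // ∀ g, ConjClasses.mk g = C → g ∈ K} : ℂ) =
      ((Finset.univ.filter (fun θ : IrrCharacter L =>
        ∃ k ∈ K, (θ : L → ℂ) k ≠ (θ : L → ℂ) 1)).card : ℂ) + 1 := by
    apply mul_right_cancel₀ hL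
    rw [h2]; ring
  exact_mod_cast h6

end classcount

section counting

variable {G : Type*} [Group G] [Fintype G] {A H : Subgroup G} [Fintype A]

omit [Fintype G] in
theorem exists_two_of_coherent {G' : Type*} [Group G'] [Fintype G'] {τ : (A → ℂ) → (G' → ℂ)}
    (hcoh : IsCoherent (rel A H) ({1}ᶜ : Set A) τ) :
    ∃ χ ∈ rel A H, ∃ ξ ∈ rel A H, χ ≠ ξ := by
  obtain ⟨⟨α₀, hα₀, hne⟩, -⟩ := hcoh
  obtain ⟨h1, h2⟩ := mem_zspanOn_one.1 hα₀
  by_contra hcon
  push Not at hcon
  apply hne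
  by_cases hemp : (rel A H).Nonempty
  · obtain ⟨χ₀, hχ₀⟩ := hemp
    have hsub : rel A H ⊆ {χ₀} := fun χ hχ => hcon χ hχ χ₀ hχ₀
    obtain ⟨k, rfl⟩ := mem_zspan_singleton.1 (zspan_mono hsub h1)
    rw [Pi.smul_apply, zsmul_eq_mul] at h2
    have hk := (mul_eq_zero.1 h2).resolve_right (irr_one_ne_zero hχ₀.1)
    have hk' : k = 0 := by exact_mod_cast hk
    rw [hk', zero_smul]
  · rw [Set.not_nonempty_iff_eq_empty] at hemp
    rw [hemp] at h1
    have : α₀ ∈ (Submodule.span ℤ (∅ : Set (A → ℂ)) : Submodule ℤ (A → ℂ)) := h1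
    rw [Submodule.span_empty, Submodule.mem_bot] at this
    exact this

omit [Fintype G] [Fintype A] in
/-- classes of `A` inside `H` inject into the classes of `G` meeting `H` -/
theorem Setup.card_classes_le [Finite G] (hs : Setup A H) :
    Nat.card {C : ConjClasses A // ∀ g, ConjClasses.mk g = C → g ∈ H.subgroupOf A} ≤
      Nat.card {C : ConjClasses G // ∃ g ∈ H, ConjClasses.mk g = C} := by
  apply Nat.card_le_card_of_injective
    (fun C : {C : ConjClasses A // ∀ g, ConjClasses.mk g = C → g ∈ H.subgroupOf A} =>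
      (⟨ConjClasses.map A.subtype C.1, by
        obtain ⟨x, hx⟩ := ConjClasses.exists_rep C.1
        exact ⟨x, C.2 x hx, by rw [← hx]; rfl⟩⟩ :
        {C : ConjClasses G // ∃ g ∈ H, ConjClasses.mk g = C}))
  rintro ⟨C, hC⟩ ⟨D, hD⟩ hCD
  obtain ⟨x, rfl⟩ := ConjClasses.exists_rep C
  obtain ⟨y, rfl⟩ := ConjClasses.exists_rep D
  have h1 : ConjClasses.mk (x : G) = ConjClasses.mk (y : G) := congrArg Subtype.val hCD
  rw [ConjClasses.mk_eq_mk_iff_isConj, isConj_iff] at h1
  obtain ⟨g, hg⟩ := h1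
  apply Subtype.ext
  show ConjClasses.mk x = ConjClasses.mk y
  rw [ConjClasses.mk_eq_mk_iff_isConj, isConj_iff]
  have hxH : (x : G) ∈ H := hC x rfl
  have hyH : (y : G) ∈ H := hD y rfl
  by_cases hx1 : (x : G) = 1
  · refine ⟨1, ?_⟩
    apply Subtype.ext
    rw [hx1] at hg
    simp only [mul_one, mul_inv_cancel] at hg
    simp [hx1, ← hg]
  · have hgA := hs.ti g x hxH hx1 (hg ▸ hyH)
    exact ⟨⟨g, hgA⟩, Subtype.ext hg⟩

open Classical in
/-- For a coherent `Irr(A | H)`: the number of irreducible characters of `G` that are not constant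
on `H \ {1}` is at most `|Irr(A | H)|`. -/
theorem Setup.card_nonconst_le (hs : Setup A H)
    (hcoh : IsCoherent (rel A H) ({1}ᶜ : Set A) (fun α : A → ℂ => indFun A α)) :
    (Finset.univ.filter (fun ψ : IrrCharacter G =>
      ∃ a ∈ H, ∃ b ∈ H, a ≠ 1 ∧ b ≠ 1 ∧ (ψ : G → ℂ) a ≠ (ψ : G → ℂ) b)).card ≤
    (Finset.univ.filter (fun θ : IrrCharacter A =>
        ∃ k ∈ H.subgroupOf A, (θ : A → ℂ) k ≠ (θ : A → ℂ) 1)).card := by
  have htwo := exists_two_of_coherent hcoh
  obtain ⟨-, star, hstar, hext⟩ := hcoh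
  have := hs.normal_subgroupOf
  have key : ∀ ψ : IrrCharacter G,
      (∃ a ∈ H, ∃ b ∈ H, a ≠ 1 ∧ b ≠ 1 ∧ (ψ : G → ℂ) a ≠ (ψ : G → ℂ) b) →
      ∃ θ : IrrCharacter A, (∃ k ∈ H.subgroupOf A, (θ : A → ℂ) k ≠ (θ : A → ℂ) 1) ∧
        ((ψ : G → ℂ) = star θ ∨ (ψ : G → ℂ) = -star θ) := by
    rintro ψ ⟨a, ha, b, hb, ha1, hb1, hab⟩
    obtain ⟨χ, hχ, h⟩ := (Exc.exc_iff A (H.subgroupOf A) hs.cent' (rel A H) rfl htwo star hstar hext
      ψ ψ.2).2 ⟨⟨a, hs.le ha⟩, ha, ⟨b, hs.le hb⟩, hb, fun h => ha1 (congrArg Subtype.val h),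
        fun h => hb1 (congrArg Subtype.val h), hab⟩
    exact ⟨⟨χ, hχ.1⟩, hχ.2, h⟩
  have key' : ∀ ψ : IrrCharacter G, ∃ θ : IrrCharacter A,
      (∃ a ∈ H, ∃ b ∈ H, a ≠ 1 ∧ b ≠ 1 ∧ (ψ : G → ℂ) a ≠ (ψ : G → ℂ) b) →
      (∃ k ∈ H.subgroupOf A, (θ : A → ℂ) k ≠ (θ : A → ℂ) 1) ∧
        ((ψ : G → ℂ) = star θ ∨ (ψ : G → ℂ) = -star θ) := by
    intro ψ
    by_cases h : ∃ a ∈ H, ∃ b ∈ H, a ≠ 1 ∧ b ≠ 1 ∧ (ψ : G → ℂ) a ≠ (ψ : G → ℂ) b
    · obtain ⟨θ, hθ⟩ := key ψ h
      exact ⟨θ, fun _ => hθ⟩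
    · exact ⟨⟨fun _ => 1, Cfsg.Agent.Lib.Helper74.isIrrCharacter_one⟩, fun h' => absurd h' h⟩
  choose f hf using key'
  apply Finset.card_le_card_of_injOn f
  · intro ψ hψ
    rw [Finset.mem_coe, Finset.mem_filter] at hψ ⊢
    exact ⟨Finset.mem_univ _, (hf ψ hψ.2).1⟩
  · intro ψ hψ ψ' hψ' hff
    rw [Finset.mem_coe, Finset.mem_filter] at hψ hψ'
    have h1 := (hf ψ hψ.2).2
    have h2 := (hf ψ' hψ'.2).2
    rw [hff] at h1
    obtain ⟨n, hn0, hn⟩ := irr_degree ψ.2
    obtain ⟨n', hn0', hn'⟩ := irr_degree ψ'.2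
    have hneg : (ψ : G → ℂ) ≠ -(ψ' : G → ℂ) := by
      intro h
      have := congrFun h 1
      rw [Pi.neg_apply, hn, hn'] at this
      have h3 : ((n + n' : ℕ) : ℂ) = 0 := by push_cast; linear_combination this
      have h4 : n + n' = 0 := by exact_mod_cast h3
      omega
    apply Subtype.ext
    rcases h1 with h1 | h1 <;> rcases h2 with h2 | h2
    · rw [h1, h2]
    · exfalso; apply hneg; rw [h1, h2, neg_neg]
    · exfalso; apply hneg; rw [h1, h2]
    · rw [h1, h2]

open Classical in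
/-- For a coherent `Irr(A | H)`: at least (number of classes of `G` missing `H`) `+ 1` irreducible
characters of `G` are constant on `H \ {1}`. -/
theorem Setup.card_const_ge (hs : Setup A H)
    (hcoh : IsCoherent (rel A H) ({1}ᶜ : Set A) (fun α : A → ℂ => indFun A α)) :
    Nat.card {C : ConjClasses G // ∀ g : G, ConjClasses.mk g = C → g ∉ H} + 1 ≤
    (Finset.univ.filter (fun ψ : IrrCharacter G =>
      ¬ ∃ a ∈ H, ∃ b ∈ H, a ≠ 1 ∧ b ≠ 1 ∧ (ψ : G → ℂ) a ≠ (ψ : G → ℂ) b)).card := by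
  have := hs.normal_subgroupOf
  have h1 := hs.card_nonconst_le hcoh
  have h2 := card_classes_in_kernel (H.subgroupOf A) hs.cent'
  have h3 := hs.card_classes_le
  have h4 : Fintype.card (IrrCharacter G) = Nat.card (ConjClasses G) := by
    rw [← Nat.card_eq_fintype_card, Cfsg.Agent.Lib.Helper3.card_irrCharacter]
  have h5 : Nat.card (ConjClasses G) =
      Nat.card {C : ConjClasses G // ∃ g ∈ H, ConjClasses.mk g = C} +
      Nat.card {C : ConjClasses G // ∀ g : G, ConjClasses.mk g = C → g ∉ H} := by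
    have : Fintype (ConjClasses G) := Fintype.ofFinite _
    simp only [Nat.card_eq_fintype_card]
    rw [Fintype.card_subtype, Fintype.card_subtype, ← Finset.card_univ,
      ← Finset.card_filter_add_card_filter_not (s := Finset.univ)
        (fun C : ConjClasses G => ∃ g ∈ H, ConjClasses.mk g = C)]
    congr 2
    ext C
    simp only [Finset.mem_filter, Finset.mem_univ, true_and]
    push Not
    constructor
    · intro h g hg hgH; exact h g hgH hg
    · intro h g hgH hg; exact h g hg hgH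
  have h6 := Finset.card_filter_add_card_filter_not (s := (Finset.univ : Finset (IrrCharacter G)))
    (fun ψ : IrrCharacter G =>
      ∃ a ∈ H, ∃ b ∈ H, a ≠ 1 ∧ b ≠ 1 ∧ (ψ : G → ℂ) a ≠ (ψ : G → ℂ) b)
  rw [Finset.card_univ] at h6
  omega

end counting

end Cfsg.Agent.Lib.Helper6.TIFrob
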