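import Cfsg.Agent.Lib.Helper6.TIFrob
import Cfsg.Agent.Lib.Helper80.CoreDvd
import Cfsg.Agent.Lib.Helper80.Eigen
import Cfsg.Agent.Lib.Helper3.Integral

/-!
# T.I. subgroups with Frobenius normaliser: the permutation character on the cosets of the kernel
-/

set_option autoImplicit false
set_option linter.unusedSectionVars false
set_option linter.unusedVariables false

namespace Cfsg.Agent.Lib.Helper6.TIFrob

open Cfsg Cfsg.Agent.Lib.Helper15 Cfsg.Agent.Lib.Helper26

local notation "conj" => starRingEnd ℂ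

section mult

variable {X : Type*} [Group X] [Fintype X]

theorem norm_le_degree {χ : X → ℂ} (hχ : IsCharacter X χ) {d : ℕ} (hd : χ 1 = d) (u : X) :
    ‖χ u‖ ≤ d := by
  obtain ⟨n, ρ, rfl⟩ := hχ
  have h1 := Cfsg.Agent.Lib.Helper80.norm_char_le ρ u
  rw [Representation.char_one] at hd
  have h2 : Module.finrank ℂ (Fin n → ℂ) = d := by exact_mod_cast hd
  rw [h2] at h1
  exact h1

theorem sum_eq_of_inner_one {χ : X → ℂ} {m : ℂ} (hm : classInner χ (fun _ => 1) = m) :
    ∑ u : X, χ u = m * (Nat.card X : ℂ) := by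
  unfold classInner at hm
  simp only [map_one, mul_one] at hm
  have : (Nat.card X : ℂ) ≠ 0 := by exact_mod_cast Nat.card_pos.ne'
  rw [← hm]
  field_simp

/-- multiplicity of the principal character is at most the degree; equality forces triviality -/
theorem mult_le {χ : X → ℂ} (hχ : IsCharacter X χ) {m d : ℕ}
    (hm : classInner χ (fun _ => 1) = m) (hd : χ 1 = d) :
    m ≤ d ∧ (m = d → ∀ u, χ u = χ 1) := by
  have hnorm := norm_le_degree hχ hd
  have hsum := sum_eq_of_inner_one hm
  have hre : ∑ u : X, (χ u).re = (m : ℝ) * (Nat.card X : ℝ) := by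
    have := congrArg Complex.re hsum
    rw [Complex.re_sum] at this
    rw [this]
    simp
  have hle : ∀ u, (χ u).re ≤ d := fun u => (Complex.re_le_norm _).trans (hnorm u)
  have hcard : (0 : ℝ) < (Nat.card X : ℝ) := by exact_mod_cast Nat.card_pos
  have hsumle : ∑ u : X, (χ u).re ≤ (d : ℝ) * (Nat.card X : ℝ) := by
    calc ∑ u : X, (χ u).re ≤ ∑ _u : X, (d : ℝ) := Finset.sum_le_sum (fun u _ => hle u)
      _ = (d : ℝ) * (Nat.card X : ℝ) := by
        rw [Finset.sum_const, Finset.card_univ, Nat.card_eq_fintype_card, nsmul_eq_mul, mul_comm]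
  refine ⟨?_, ?_⟩
  · rw [hre] at hsumle
    have := le_of_mul_le_mul_right hsumle hcard
    exact_mod_cast this
  · intro hmd u
    have h0 : ∑ u : X, ((d : ℝ) - (χ u).re) = 0 := by
      rw [Finset.sum_sub_distrib, hre, hmd, Finset.sum_const, Finset.card_univ,
        Nat.card_eq_fintype_card, nsmul_eq_mul]
      ring
    have h1 := (Finset.sum_eq_zero_iff_of_nonneg (fun u _ => sub_nonneg.2 (hle u))).1 h0 u
      (Finset.mem_univ u)
    have hre' : (χ u).re = d := by linarith
    have him : (χ u).im = 0 := by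
      have h2 := hnorm u
      have h3 : ‖χ u‖ ^ 2 = (χ u).re ^ 2 + (χ u).im ^ 2 := by
        rw [Complex.sq_norm, Complex.normSq_apply]; ring
      have h4 : ‖χ u‖ ^ 2 ≤ (d : ℝ) ^ 2 := by
        apply pow_le_pow_left₀ (norm_nonneg _) h2
      rw [h3, hre'] at h4
      have : (χ u).im ^ 2 ≤ 0 := by linarith
      have := pow_eq_zero_iff (two_ne_zero) |>.1 (le_antisymm this (sq_nonneg _))
      exact this
    rw [hd]
    apply Complex.ext
    · simp [hre']
    · simp [him]

end mult

section theta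

variable {G : Type*} [Group G] [Fintype G] {A H : Subgroup G}

theorem Setup.theta_apply (hs : Setup A H) {u : G} (hu : u ∈ H) (hu1 : u ≠ 1) :
    indFun H (fun _ => (1 : ℂ)) u = (H.relIndex A : ℂ) := by
  classical
  rw [indFun_apply]
  have hterm : ∀ x : G, extendByZero H (fun _ => (1 : ℂ)) (x⁻¹ * u * x) =
      if x ∈ A then 1 else 0 := by
    intro x
    split_ifs with hx
    · have hmem : x⁻¹ * u * x ∈ H := by
        have := hs.normal x⁻¹ (A.inv_mem hx) u hu
        rwa [inv_inv] at this
      rw [extendByZero_mem H _ hmem]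
    · apply extendByZero_not_mem
      intro h
      apply hx
      have := hs.ti x⁻¹ u hu hu1 (by rwa [inv_inv])
      simpa using A.inv_mem this
  rw [Finset.sum_congr rfl (fun x _ => hterm x), Finset.sum_ite, Finset.sum_const_zero, add_zero,
    Finset.sum_const, nsmul_eq_mul, mul_one]
  have hcard : (Finset.univ.filter (fun x : G => x ∈ A)).card = Nat.card A := by
    rw [Nat.card_eq_fintype_card, Fintype.card_subtype]
  rw [hcard]
  have h1 : H.relIndex A * Nat.card H = Nat.card A := by
    have := Subgroup.relIndex_mul_relIndex ⊥ H A bot_le hs.le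
    rw [Subgroup.relIndex_bot_left, Subgroup.relIndex_bot_left] at this
    rw [mul_comm]; exact this
  have h2 : (Nat.card H : ℂ) ≠ 0 := by exact_mod_cast Nat.card_pos.ne'
  rw [← h1]
  push_cast
  field_simp

variable [Fintype H]

theorem Setup.inner_theta (hs : Setup A H) :
    (Nat.card H : ℂ) * classInner (indFun H (fun _ => (1 : ℂ))) (indFun H (fun _ => (1 : ℂ))) =
      (H.index : ℂ) + ((Nat.card H : ℂ) - 1) * (H.relIndex A : ℂ) := by
  classical
  rw [classInner_indFun_left H _ _ (indFun_isClassFunction H _)]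
  unfold classInner
  have h2 : (Nat.card H : ℂ) ≠ 0 := by exact_mod_cast Nat.card_pos.ne'
  rw [← mul_assoc, mul_inv_cancel₀ h2, one_mul]
  have hterm : ∀ u : H, (1 : ℂ) * conj (indFun H (fun _ => (1 : ℂ)) (u : G)) =
      if u = 1 then (H.index : ℂ) else (H.relIndex A : ℂ) := by
    intro u
    split_ifs with hu
    · rw [hu, Subgroup.coe_one, indFun_one, mul_one, one_mul, Complex.conj_natCast]
    · rw [hs.theta_apply u.2 (fun h => hu (Subtype.ext h)), one_mul, Complex.conj_natCast]
  rw [Finset.sum_congr rfl (fun u _ => hterm u), Finset.sum_ite, Finset.sum_const, Finset.sum_const,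
    Finset.filter_eq' Finset.univ (1 : H), if_pos (Finset.mem_univ _), Finset.card_singleton,
    one_smul, nsmul_eq_mul]
  congr 2
  have h3 : (Finset.univ.filter (fun u : H => ¬ u = 1)).card + 1 = Nat.card H := by
    have := Finset.card_filter_add_card_filter_not (s := (Finset.univ : Finset H)) (fun u : H => u = 1)
    rw [Finset.filter_eq' Finset.univ (1 : H), if_pos (Finset.mem_univ _), Finset.card_singleton,
      Finset.card_univ, ← Nat.card_eq_fintype_card] at this
    omega
  rw [← h3]; push_cast; ring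

/-- `∑ m_ψ ψ(1) = |G : H|` and `|H| ∑ m_ψ² = |G : H| + (|H| - 1) |A : H|`. -/
theorem Setup.sums (hs : Setup A H) (m d : IrrCharacter G → ℕ)
    (hm : ∀ ψ : IrrCharacter G, classInner (fun u : H => (ψ : G → ℂ) u) (fun _ => 1) = m ψ)
    (hd : ∀ ψ : IrrCharacter G, (ψ : G → ℂ) 1 = d ψ) :
    ∑ ψ, m ψ * d ψ = H.index ∧
      Nat.card H * ∑ ψ, m ψ ^ 2 + H.relIndex A = H.index + Nat.card H * H.relIndex A := by
  have hcf : IsClassFunction G (indFun H (fun _ => (1 : ℂ))) := indFun_isClassFunction H _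
  have hco : ∀ ψ : IrrCharacter G, classInner (indFun H (fun _ => (1 : ℂ))) ψ = m ψ := by
    intro ψ
    rw [classInner_indFun_left H _ _ (irr_cf ψ.2), ← Helper15.classInner_conj_symm, hm,
      Complex.conj_natCast]
  constructor
  · have h1 := congrFun (cf_expansion hcf) 1
    rw [indFun_one, mul_one, Finset.sum_apply] at h1
    have h2 : ((∑ ψ, m ψ * d ψ : ℕ) : ℂ) = (H.index : ℂ) := by
      rw [h1]
      push_cast
      apply Finset.sum_congr rfl
      intro ψ _
      rw [Pi.smul_apply, hco, hd, smul_eq_mul]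
    exact_mod_cast h2
  · have h1 := Cfsg.Agent.Lib.Helper3.classInner_eq_sum_coeff
      (b := indFun H (fun _ => (1 : ℂ))) hcf
    have h2 : classInner (indFun H (fun _ => (1 : ℂ))) (indFun H (fun _ => (1 : ℂ))) =
        ((∑ ψ, m ψ ^ 2 : ℕ) : ℂ) := by
      rw [h1]
      push_cast
      apply Finset.sum_congr rfl
      intro ψ _
      rw [← Helper15.classInner_conj_symm (indFun H (fun _ => (1 : ℂ))) ψ, hco,
        Complex.conj_natCast]
      ring
    have h3 := hs.inner_theta
    rw [h2] at h3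
    have h4 : ((Nat.card H * ∑ ψ, m ψ ^ 2 + H.relIndex A : ℕ) : ℂ) =
        ((H.index + Nat.card H * H.relIndex A : ℕ) : ℂ) := by
      push_cast
      push_cast at h3
      rw [h3]; ring
    exact_mod_cast h4

/-- A character of `G` constant on `H \ {1}`: `|H| - 1` divides `ψ(1) - ⟨ψ_H, 1_H⟩`. -/
theorem const_dvd {ψ : G → ℂ} (hψ : IsCharacter G ψ)
    (hconst : ∀ a ∈ H, ∀ b ∈ H, a ≠ 1 → b ≠ 1 → ψ a = ψ b) {m d : ℕ}
    (hm : classInner (fun u : H => ψ u) (fun _ => 1) = m) (hd : ψ 1 = d) (hmd : m ≤ d)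
    (hH : 2 ≤ Nat.card H) : (Nat.card H - 1) ∣ d - m := by
  classical
  obtain ⟨u₀, hu₀⟩ : ∃ u₀ : H, u₀ ≠ 1 := by
    have : Nontrivial H := Finite.one_lt_card_iff_nontrivial.1 (by omega)
    exact exists_ne 1
  have hsum := sum_eq_of_inner_one hm
  have hterm : ∀ u : H, ψ u = if u = 1 then (d : ℂ) else ψ u₀ := by
    intro u
    split_ifs with hu
    · rw [hu, Subgroup.coe_one, hd]
    · exact hconst u u.2 u₀ u₀.2 (fun h => hu (Subtype.ext h)) (fun h => hu₀ (Subtype.ext h))
  rw [Finset.sum_congr rfl (fun u _ => hterm u), Finset.sum_ite, Finset.sum_const, Finset.sum_const,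
    Finset.filter_eq' Finset.univ (1 : H), if_pos (Finset.mem_univ _), Finset.card_singleton,
    one_smul, nsmul_eq_mul] at hsum
  have h3 : (Finset.univ.filter (fun u : H => ¬ u = 1)).card = Nat.card H - 1 := by
    have := Finset.card_filter_add_card_filter_not (s := (Finset.univ : Finset H)) (fun u : H => u = 1)
    rw [Finset.filter_eq' Finset.univ (1 : H), if_pos (Finset.mem_univ _), Finset.card_singleton,
      Finset.card_univ, ← Nat.card_eq_fintype_card] at this
    omega
  rw [h3] at hsum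
  apply Cfsg.Agent.Lib.Helper3.nat_dvd_of_isIntegral_div (by omega)
  have hk : ((Nat.card H - 1 : ℕ) : ℂ) ≠ 0 := by
    have : Nat.card H - 1 ≠ 0 := by omega
    exact_mod_cast this
  have e1 : ((d - m : ℕ) : ℂ) / ((Nat.card H - 1 : ℕ) : ℂ) = (m : ℂ) - ψ u₀ := by
    rw [div_eq_iff hk, Nat.cast_sub hmd]
    have e2 : (Nat.card H : ℂ) = ((Nat.card H - 1 : ℕ) : ℂ) + 1 := by
      rw [Nat.cast_sub (by omega)]; simp
    rw [e2] at hsum
    linear_combination hsum
  rw [e1]
  exact IsIntegral.sub (isIntegral_algebraMap (R := ℤ) (x := (m : ℤ)) |> fun h => by simpa using h)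
    (Cfsg.Agent.Lib.Helper3.IsCharacter.isIntegral hψ _)

end theta

end Cfsg.Agent.Lib.Helper6.TIFrob
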