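import Cfsg.Agent.Lib.Helper6.TIFrob
import Cfsg.Agent.Lib.Helper26.FeitSibley

/-!
# Coherent `Irr(A | H)`: the difference `χ* - χ` on `H \ {1}`
-/

set_option autoImplicit false
set_option linter.unusedSectionVars false
set_option linter.unusedVariables false

namespace Cfsg.Agent.Lib.Helper6.TIFrob

open Cfsg Cfsg.Agent.Lib.Helper15 Cfsg.Agent.Lib.Helper26

local notation "conj" => starRingEnd ℂ

theorem gen_restrict {G : Type*} [Group G] {X : G → ℂ} (hX : IsGeneralizedCharacter G X)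
    (A : Subgroup G) : IsGeneralizedCharacter A (fun x : A => X x) := by
  obtain ⟨a, b, ha, hb, rfl⟩ := hX
  exact ⟨fun x : A => a x, fun x : A => b x, char_restrict ha A, char_restrict hb A, rfl⟩

section frob

variable {L : Type*} [Group L] [Fintype L] (K : Subgroup L)

/-- If `α` is supported on `K \ {1}` and `f` is constant on `K \ {1}`, then
`⟨α, f⟩ = conj (f k₀) ⟨α, 1⟩`. -/
theorem inner_of_const {α f : L → ℂ} (hα : ∀ x, x ∉ K → α x = 0) (hα1 : α 1 = 0)
    {k₀ : L} (hf : ∀ a ∈ K, a ≠ 1 → f a = f k₀) :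
    classInner α f = conj (f k₀) * classInner α (fun _ => 1) := by
  unfold classInner
  rw [mul_left_comm]
  congr 1
  rw [Finset.mul_sum]
  apply Finset.sum_congr rfl
  intro x _
  by_cases hx : x ∈ K
  · by_cases hx1 : x = 1
    · rw [hx1, hα1]; ring
    · rw [hf x hx hx1, map_one]; ring
  · rw [hα x hx]; ring

/-- a Frobenius group has an irreducible character of degree `e` induced from the kernel -/
theorem exists_degree_index [hK : K.Normal]
    (hC : ∀ k ∈ K, k ≠ 1 → Subgroup.centralizer ({k} : Set L) ≤ K) (hK1 : K ≠ ⊥) (hK2 : K ≠ ⊤) :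
    ∃ χ ∈ inducedIrrAbove K ⊥, χ 1 = (K.index : ℂ) := by
  classical
  have hnil := FeitCoh.nilpotent K hC hK1 hK2
  have hlt := FrobKer.comm_lt K hnil hK1
  have hdeg := FeitSibley.deg1' K
  have hsum := FeitCoh.sum_sq_nat K hC ⁅K, K⁆ hlt.le (fun _ => K.index) hdeg
  have hne : (IndIrr.finite K ⁅K, K⁆).toFinset.Nonempty := by
    rw [Finset.nonempty_iff_ne_empty]
    intro h
    rw [h, Finset.sum_empty, zero_add] at hsum
    have he : 0 < K.index := Nat.pos_of_ne_zero Subgroup.index_ne_zero_of_finite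
    have h1 : (⁅K, K⁆ : Subgroup L).relIndex K = 1 := by
      have : K.index * 1 = K.index * (⁅K, K⁆ : Subgroup L).relIndex K := by rw [mul_one]; exact hsum
      exact (Nat.eq_of_mul_eq_mul_left he this).symm
    rw [Subgroup.relIndex_eq_one] at h1
    exact absurd h1 (not_le_of_gt hlt)
  obtain ⟨χ, hχ⟩ := hne
  rw [Set.Finite.mem_toFinset] at hχ
  exact ⟨χ, IndIrr.sub_bot K _ hχ, hdeg χ hχ⟩

end frob

variable {G : Type*} [Group G] [Fintype G] {A H : Subgroup G} [Fintype A]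

theorem Setup.star_sub (hs : Setup A H) (hHA : H ≠ A)
    (star : (A → ℂ) → (G → ℂ)) (hstar : IsLinearIsometryOn (zspan (rel A H)) star)
    (hne : ∃ χ, χ ∈ rel A H)
    (hext : ∀ α ∈ zspanOn (rel A H) ({1}ᶜ : Set A), star α = indFun A α) :
    ∃ m : ℤ, ∀ χ ∈ rel A H, ∀ k : A, (k : G) ∈ H → k ≠ 1 →
      star χ k - χ k = (m : ℂ) * χ 1 / ((H.subgroupOf A).index : ℂ) := by
  classical
  have hn := hs.normal_subgroupOf
  have hirr : ∀ χ ∈ rel A H, IsIrrCharacter A χ := fun χ hχ => hχ.1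
  have hset : inducedIrrAbove (H.subgroupOf A) ⊥ = rel A H := FeitCoh.set_eq _ hs.cent'
  have hK1 : H.subgroupOf A ≠ ⊥ := by
    intro h
    obtain ⟨χ, -, k, hk, hne⟩ := hne
    rw [h, Subgroup.mem_bot] at hk
    rw [hk] at hne
    exact hne rfl
  have hK2 : H.subgroupOf A ≠ ⊤ := by
    intro h
    rw [Subgroup.subgroupOf_eq_top] at h
    exact hHA (le_antisymm hs.le h)
  obtain ⟨χ₀, hχ₀, hχ₀1⟩ := exists_degree_index (H.subgroupOf A) hs.cent' hK1 hK2
  rw [hset] at hχ₀
  obtain ⟨⟨k₀, hk₀⟩, hk₀1'⟩ := Subgroup.ne_bot_iff_exists_ne_one.1 hK1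
  have hk₀1 : k₀ ≠ 1 := fun h => hk₀1' (Subtype.ext h)
  have he0 : ((H.subgroupOf A).index : ℂ) ≠ 0 := by
    exact_mod_cast Subgroup.index_ne_zero_of_finite
  -- proportionality
  have hprop : ∀ χ ∈ rel A H, ∀ ξ ∈ rel A H, ∀ k : A, (k : G) ∈ H → k ≠ 1 →
      ξ 1 * (star χ k - χ k) = χ 1 * (star ξ k - ξ k) := by
    intro χ hχ ξ hξ k hk hk1
    obtain ⟨n, -, hn⟩ := irr_degree (hirr χ hχ)
    obtain ⟨m, -, hm⟩ := irr_degree (hirr ξ hξ)
    have h1 : ((n : ℤ) • ξ) ∈ zspan (rel A H) := zspan_zsmul _ (mem_zspan hξ)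
    have h2 : ((m : ℤ) • χ) ∈ zspan (rel A H) := zspan_zsmul _ (mem_zspan hχ)
    have h3 : (n : ℤ) • ξ - (m : ℤ) • χ ∈ zspanOn (rel A H) ({1}ᶜ : Set A) :=
      mem_zspanOn_one.2 ⟨zspan_sub h1 h2, by simp [hn, hm, mul_comm]⟩
    have h4 := hext _ h3
    rw [iso_sub hstar (isZMod_zspan _) h1 h2, iso_zsmul hstar _ (mem_zspan hξ),
      iso_zsmul hstar _ (mem_zspan hχ)] at h4
    have h5 := congrFun h4 (k : G)
    rw [hs.ind_eq (gen_classFunction (zspan_gen' h3.1)) (hs.zspan_vanish h3.1) hk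
      (fun h => hk1 (Subtype.ext h))] at h5
    have h6 : (n : ℂ) * star ξ k - (m : ℂ) * star χ k = (n : ℂ) * ξ k - (m : ℂ) * χ k := by
      have e1 : ((n : ℤ) • star ξ - (m : ℤ) • star χ) (k : G)
          = (n : ℂ) * star ξ k - (m : ℂ) * star χ k := by
        rw [Pi.sub_apply, Pi.smul_apply, Pi.smul_apply, zsmul_eq_mul, zsmul_eq_mul]
        push_cast; ring
      have e2 : ((n : ℤ) • ξ - (m : ℤ) • χ) (⟨(k : G), hs.le hk⟩ : A)
          = (n : ℂ) * ξ k - (m : ℂ) * χ k := by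
        rw [Pi.sub_apply, Pi.smul_apply, Pi.smul_apply, zsmul_eq_mul, zsmul_eq_mul]
        push_cast; ring
      rw [← e1, ← e2]
      exact h5
    rw [hn, hm]
    linear_combination -h6
  -- the function `f`
  have hXgen : IsGeneralizedCharacter A (fun x : A => star χ₀ x) :=
    gen_restrict (iso_gen hstar (mem_zspan hχ₀)) A
  set f : A → ℂ := (fun x : A => star χ₀ x) - χ₀ with hf
  have hfgen : IsGeneralizedCharacter A f := gen_sub hXgen (gen_of_irr (hirr χ₀ hχ₀))
  have hconst : ∀ a ∈ H.subgroupOf A, a ≠ 1 → f a = f k₀ := by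
    intro a ha ha1
    refine Exc.const_of_prop (H.subgroupOf A) (gen_classFunction hfgen)
      (classInner f χ₀ / χ₀ 1) ?_ ha hk₀ ha1 hk₀1
    intro θ hθ hk
    have hθS : θ ∈ rel A H := ⟨hθ, hk⟩
    have h1 := Exc.basic_rel A (rel A H) hirr star hstar hext
      (gen_classFunction (iso_gen hstar (mem_zspan hχ₀))) hχ₀ hθS
    rw [iso_inner hstar (mem_zspan hθS) (mem_zspan hχ₀),
      iso_inner hstar (mem_zspan hχ₀) (mem_zspan hχ₀)] at h1
    have h2 : classInner f θ = classInner θ (fun x : A => star χ₀ x) - classInner θ χ₀ := by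
      rw [gen_inner_comm hfgen (gen_of_irr hθ), hf, Helper15.classInner_sub_right]
    have h3 : classInner f χ₀ = classInner χ₀ (fun x : A => star χ₀ x) - classInner χ₀ χ₀ := by
      rw [gen_inner_comm hfgen (gen_of_irr (hirr χ₀ hχ₀)), hf, Helper15.classInner_sub_right]
    rw [h2, h3]
    have := irr_one_ne_zero (hirr χ₀ hχ₀)
    field_simp
    linear_combination -h1
  -- integrality
  set π : A → ℂ := indFun (H.subgroupOf A) (fun _ => 1) with hπ
  have hπchar : IsCharacter A π :=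
    char_indFun _ (irr_char Cfsg.Agent.Lib.Helper74.isIrrCharacter_one)
  have hαgen : IsGeneralizedCharacter A (π - χ₀) :=
    gen_sub (gen_of_char hπchar) (gen_of_irr (hirr χ₀ hχ₀))
  have hint : ∃ m : ℤ, f k₀ = m := by
    have h1 := inner_of_const (H.subgroupOf A) (α := π - χ₀) (f := f) (k₀ := k₀) (by
        intro x hx
        rw [Pi.sub_apply, hπ, indFun_normal_not_mem _ _ hx,
          Exc.vanish (H.subgroupOf A) hs.cent' hχ₀.1 hχ₀.2 hx, sub_zero])
      (by rw [Pi.sub_apply, hπ, indFun_one, hχ₀1, mul_one, sub_self]) hconst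
    have h2 : classInner (π - χ₀) (fun _ : A => (1 : ℂ)) = 1 := by
      have : Fintype (H.subgroupOf A) := Fintype.ofFinite _
      rw [Helper15.classInner_sub_left, hπ,
        classInner_indFun_left _ _ _ (irr_cf Cfsg.Agent.Lib.Helper74.isIrrCharacter_one)]
      have e1 : classInner (fun _ : H.subgroupOf A => (1 : ℂ)) (fun _ => 1) = 1 :=
        irr_inner_self Cfsg.Agent.Lib.Helper74.isIrrCharacter_one
      have e2 : classInner χ₀ (fun _ : A => (1 : ℂ)) = 0 := by
        apply irr_inner_ne (hirr χ₀ hχ₀) Cfsg.Agent.Lib.Helper74.isIrrCharacter_one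
        intro h
        obtain ⟨k, _, hk⟩ := hχ₀.2
        apply hk
        rw [h]
      rw [e2, sub_zero]
      exact e1
    rw [h2, mul_one] at h1
    obtain ⟨m, hm⟩ := gen_inner_int hαgen hfgen
    refine ⟨m, ?_⟩
    rw [hm] at h1
    have := congrArg conj h1
    rw [Complex.conj_conj, map_intCast] at this
    exact this.symm
  obtain ⟨m, hm⟩ := hint
  refine ⟨m, ?_⟩
  intro χ hχ k hk hk1
  have h1 := hprop χ hχ χ₀ hχ₀ k hk hk1
  have h2 : star χ₀ k - χ₀ k = m := by
    rw [← hm, ← hconst k hk hk1]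
    rfl
  rw [h2, hχ₀1] at h1
  field_simp
  linear_combination h1

end Cfsg.Agent.Lib.Helper6.TIFrob
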