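import Cfsg.Agent.Lib.Helper6.Zas

set_option autoImplicit false
set_option linter.unusedSectionVars false

/-! # Zassenhaus groups: involutions -/

namespace Cfsg.Agent.Lib.Helper6.Zas

open MulAction

variable {G Ω : Type*} [Group G] [MulAction G Ω]

/-- If the two point stabiliser has even order, every third point is fixed by an involution
interchanging `a` and `b`. -/
theorem Base.exists_invol_fix_swap (hb : Base G Ω) [Finite Ω] {a b : Ω} (hab : a ≠ b)
    (heven : Even (Nat.card ↥(stabilizer G a ⊓ stabilizer G b))) (c : Ω) (hca : c ≠ a)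
    (hcb : c ≠ b) : ∃ t : G, t * t = 1 ∧ t • c = c ∧ t • a = b ∧ t • b = a := by
  classical
  have := hb.finite
  have : Fact (Nat.Prime 2) := ⟨Nat.prime_two⟩
  obtain ⟨j, hj⟩ := exists_prime_orderOf_dvd_card'
    (G := ↥(stabilizer G a ⊓ stabilizer G b)) 2 heven.two_dvd
  have hj1 : (j : G) ≠ 1 := by
    intro h
    have : j = 1 := Subtype.ext h
    rw [this, orderOf_one] at hj
    omega
  have hj2 : (j : G) * j = 1 := by
    have : j ^ 2 = 1 := by rw [← hj]; exact pow_orderOf_eq_one j
    have h2 := congrArg Subtype.val this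
    simpa [pow_two] using h2
  have hja : (j : G) • a = a := j.2.1
  have hjb : (j : G) • b = b := j.2.2
  have key : ∀ x : Ω, x ≠ c → ∃ t : G, t ≠ 1 ∧ t * t = 1 ∧ t • c = c ∧ t • x = x := by
    intro x hx
    obtain ⟨g, hga, hgb⟩ := hb.two hab (Ne.symm hx)
    refine ⟨g * j * g⁻¹, ?_, ?_, ?_, ?_⟩
    · intro h
      apply hj1
      have : (j : G) = g⁻¹ * (g * j * g⁻¹) * g := by group
      rw [this, h]; group
    · have : g * j * g⁻¹ * (g * j * g⁻¹) = g * (j * j) * g⁻¹ := by group
      rw [this, hj2]; group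
    · rw [mul_smul, mul_smul, ← hga, inv_smul_smul, hja]
    · rw [mul_smul, mul_smul, ← hgb, inv_smul_smul, hjb]
  choose! J hJ1 hJ2 hJc hJx using key
  have hJne : ∀ x : Ω, x ≠ c → J x • a ≠ c := by
    intro x hx h
    have h2 : J x • a = J x • c := h.trans (hJc x hx).symm
    exact hca (MulAction.injective (J x) h2).symm
  let φ : {x : Ω // x ≠ c} → {x : Ω // x ≠ c} := fun x => ⟨J x • a, hJne x x.2⟩
  have hinj : Function.Injective φ := by
    rintro ⟨x, hx⟩ ⟨y, hy⟩ hxy
    have he : J x • a = J y • a := congrArg Subtype.val hxy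
    apply Subtype.ext
    show x = y
    by_contra hne
    by_cases hea : J x • a = a
    · have hxa : x = a := by
        by_contra hxa
        exact hJ1 x hx (hb.three (J x) c x a (Ne.symm hx) hxa hca (hJc x hx) (hJx x hx) hea)
      have hya : y = a := by
        by_contra hya
        exact hJ1 y hy (hb.three (J y) c y a (Ne.symm hy) hya hca (hJc y hy) (hJx y hy)
          (he ▸ hea))
      exact hne (hxa.trans hya.symm)
    · have hw : J y * J x = 1 := by
        apply hb.three (J y * J x) c a (J x • a) hca (Ne.symm hea) (Ne.symm (hJne x hx))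
        · rw [mul_smul, hJc x hx, hJc y hy]
        · rw [mul_smul, he, ← mul_smul, hJ2 y hy, one_smul]
        · rw [mul_smul, ← mul_smul (J x), hJ2 x hx, one_smul, he]
      have hJxy : J x = J y := by
        have h1 : J y * J x = J y * J y := hw.trans (hJ2 y hy).symm
        exact mul_left_cancel h1
      exact hJ1 x hx (hb.three (J x) c x y (Ne.symm hx) hne (Ne.symm hy) (hJc x hx) (hJx x hx)
        (hJxy ▸ hJx y hy))
  have hsurj := Finite.surjective_of_injective hinj
  obtain ⟨x, hx⟩ := hsurj ⟨b, hcb.symm⟩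
  have hxb : J x • a = b := congrArg Subtype.val hx
  refine ⟨J x, hJ2 x x.2, hJc x x.2, hxb, ?_⟩
  rw [← hxb, ← mul_smul, hJ2 x x.2, one_smul]

/-- The number of fixed points of an involution. -/
theorem Base.card_fixedBy_invol (hb : Base G Ω) [Fintype Ω] (s : G) (hs1 : s ≠ 1)
    (hs2 : s * s = 1) :
    Nat.card (fixedBy Ω s) ≤ 2 ∧ Nat.card (fixedBy Ω s) % 2 = Fintype.card Ω % 2 := by
  classical
  have e : Nat.card (fixedBy Ω s) = (MulAction.toPerm s : Equiv.Perm Ω).supportᶜ.card := by
    rw [Nat.card_eq_fintype_card]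
    apply Fintype.card_of_subtype
    intro x
    simp [mem_fixedBy]
  rw [e]
  constructor
  · by_contra hlt
    push Not at hlt
    obtain ⟨x, hx, y, hy, z, hz, hxy, hxz, hyz⟩ := Finset.two_lt_card.1 hlt
    simp only [Finset.mem_compl, Equiv.Perm.mem_support, MulAction.toPerm_apply, ne_eq,
      not_not] at hx hy hz
    exact hs1 (hb.three s x y z hxy hyz hxz hx hy hz)
  · have hσ : (MulAction.toPerm s : Equiv.Perm Ω) ^ 2 ^ 1 = 1 := by
      ext e
      simp [pow_two, ← mul_smul, hs2]
    have : Fact (Nat.Prime 2) := ⟨Nat.prime_two⟩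
    exact Equiv.Perm.card_compl_support_modEq hσ

theorem exists_third (hZ : Cfsg.IsZassenhausGroup G Ω) (a b : Ω) : ∃ c : Ω, c ≠ a ∧ c ≠ b := by
  classical
  obtain ⟨g, hg, a', b', hab', hga, hgb⟩ := hZ.2.2.2.1
  have hb := base_of_zassenhaus hZ
  have hc : ∃ c' : Ω, g • c' ≠ c' := by
    by_contra h
    push Not at h
    exact hg (hb.faithful g h)
  obtain ⟨c', hc'⟩ := hc
  have h1 : c' ≠ a' := by rintro rfl; exact hc' hga
  have h2 : c' ≠ b' := by rintro rfl; exact hc' hgb
  by_contra hcon
  push Not at hcon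
  have hmem : ∀ x : Ω, x = a ∨ x = b := by
    intro x
    by_cases hx : x = a
    · left; exact hx
    · right; exact hcon x hx
  rcases hmem a' with h | h <;> rcases hmem b' with h' | h' <;> rcases hmem c' with h'' | h'' <;>
    simp_all

/-- An involution interchanging two given points. -/
theorem exists_invol_swap (hZ : Cfsg.IsZassenhausGroup G Ω) [Finite Ω] {a b : Ω} (hab : a ≠ b) :
    ∃ t : G, t * t = 1 ∧ t • a = b ∧ t • b = a := by
  classical
  have hb := base_of_zassenhaus hZ
  have := hb.finite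
  rcases Nat.even_or_odd (Nat.card ↥(stabilizer G a ⊓ stabilizer G b)) with heven | hodd
  · obtain ⟨c, hca, hcb⟩ := exists_third hZ a b
    obtain ⟨t, ht, -, hta, htb⟩ := hb.exists_invol_fix_swap hab heven c hca hcb
    exact ⟨t, ht, hta, htb⟩
  · obtain ⟨u, hua, hub⟩ := hb.two hab hab.symm
    have hwa : (u * u) • a = a := by rw [mul_smul, hua, hub]
    have hwb : (u * u) • b = b := by rw [mul_smul, hub, hua]
    have hpowfix : ∀ (w : G) (e : Ω), w • e = e → ∀ j : ℕ, (w ^ j) • e = e := by
      intro w e he j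
      induction j with
      | zero => simp
      | succ j ih => rw [pow_succ, mul_smul, he, ih]
    have hmodd : Odd (orderOf (u * u)) := by
      have h1 : orderOf (⟨u * u, hwa, hwb⟩ : ↥(stabilizer G a ⊓ stabilizer G b)) ∣
          Nat.card ↥(stabilizer G a ⊓ stabilizer G b) := orderOf_dvd_natCard _
      have h2 : orderOf (⟨u * u, hwa, hwb⟩ : ↥(stabilizer G a ⊓ stabilizer G b))
          = orderOf (u * u) := by
        rw [← Subgroup.orderOf_coe]
      rw [h2] at h1
      exact Odd.of_dvd_nat hodd h1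
    obtain ⟨j, hj⟩ := hmodd
    refine ⟨u ^ orderOf (u * u), ?_, ?_, ?_⟩
    · rw [← pow_add, ← two_mul, pow_mul, pow_two, pow_orderOf_eq_one]
    · have hteq : u ^ orderOf (u * u) = (u * u) ^ j * u := by
        rw [hj, pow_succ, pow_mul, pow_two]
      rw [hteq, mul_smul, hua, hpowfix _ b hwb]
    · have hteq : u ^ orderOf (u * u) = (u * u) ^ j * u := by
        rw [hj, pow_succ, pow_mul, pow_two]
      rw [hteq, mul_smul, hub, hpowfix _ a hwa]

end Cfsg.Agent.Lib.Helper6.Zas
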