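import Cfsg.Agent.Lib.Helper6.Zas2

set_option autoImplicit false
set_option linter.unusedSectionVars false

/-! # Zassenhaus groups: counting -/

namespace Cfsg.Agent.Lib.Helper6.Zas

open MulAction

variable {G Ω : Type*} [Group G] [MulAction G Ω]

theorem Base.card_coset (hb : Base G Ω) {a b c d : Ω} (hab : a ≠ b) (hcd : c ≠ d) :
    Nat.card {g : G // g • a = c ∧ g • b = d} = Nat.card ↥(stabilizer G a ⊓ stabilizer G b) := by
  obtain ⟨g, hga, hgb⟩ := hb.two hab hcd
  apply Nat.card_congr
  refine ⟨fun x => ⟨g⁻¹ * x.1, ?_, ?_⟩, fun x => ⟨g * x.1, ?_, ?_⟩, ?_, ?_⟩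
  · show (g⁻¹ * x.1) • a = a
    rw [mul_smul, x.2.1, ← hga, inv_smul_smul]
  · show (g⁻¹ * x.1) • b = b
    rw [mul_smul, x.2.2, ← hgb, inv_smul_smul]
  · rw [mul_smul, mem_stabilizer_iff.1 x.2.1, hga]
  · rw [mul_smul, mem_stabilizer_iff.1 x.2.2, hgb]
  · intro x; ext; simp
  · intro x; ext; simp

theorem Base.card_stab2 (hb : Base G Ω) {a b c d : Ω} (hab : a ≠ b) (hcd : c ≠ d) :
    Nat.card ↥(stabilizer G c ⊓ stabilizer G d) = Nat.card ↥(stabilizer G a ⊓ stabilizer G b) := by
  rw [← hb.card_coset hab hcd, ← hb.card_coset hcd hcd]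
  obtain ⟨g, hga, hgb⟩ := hb.two hab hcd
  apply Nat.card_congr
  refine ⟨fun x => ⟨x.1 * g, ?_, ?_⟩, fun x => ⟨x.1 * g⁻¹, ?_, ?_⟩, ?_, ?_⟩
  · rw [mul_smul, hga, x.2.1]
  · rw [mul_smul, hgb, x.2.2]
  · have h1 : g⁻¹ • c = a := by rw [← hga, inv_smul_smul]
    rw [mul_smul, h1, x.2.1]
  · have h1 : g⁻¹ • d = b := by rw [← hgb, inv_smul_smul]
    rw [mul_smul, h1, x.2.2]
  · intro x; ext; simp
  · intro x; ext; simp

section count

variable [Fintype G] [DecidableEq G] [Fintype Ω] [DecidableEq Ω]

theorem Base.card_filter_coset (hb : Base G Ω) {a b : Ω} (hab : a ≠ b) {e : ℕ}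
    (he : Nat.card ↥(stabilizer G a ⊓ stabilizer G b) = e) {c d c' d' : Ω} (hcd : c ≠ d)
    (hcd' : c' ≠ d') : (Finset.univ.filter (fun g : G => g • c = c' ∧ g • d = d')).card = e := by
  rw [← he, ← hb.card_stab2 hab hcd, ← hb.card_coset hcd hcd', Nat.card_eq_fintype_card,
    Fintype.card_subtype]

theorem card_offDiag_univ {h : ℕ} (hh : Fintype.card Ω = h + 1) :
    (Finset.univ : Finset Ω).offDiag.card = (h + 1) * h := by
  rw [Finset.offDiag_card, Finset.card_univ, hh, Nat.mul_succ, Nat.add_sub_cancel]

theorem Base.card_group (hb : Base G Ω) {a b : Ω} (hab : a ≠ b) {e h : ℕ}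
    (he : Nat.card ↥(stabilizer G a ⊓ stabilizer G b) = e) (hh : Fintype.card Ω = h + 1) :
    Fintype.card G = (h + 1) * h * e := by
  have h1 := Finset.card_eq_sum_card_fiberwise (s := (Finset.univ : Finset G))
    (t := (Finset.univ : Finset Ω).offDiag) (f := fun g => (g • a, g • b)) (by
      intro g _
      simp only [Finset.coe_offDiag, Set.mem_offDiag, Finset.coe_univ, Set.mem_univ, true_and]
      exact fun h => hab (MulAction.injective g h))
  rw [Finset.card_univ] at h1
  rw [h1, Finset.sum_congr rfl (g := fun _ => e), Finset.sum_const, card_offDiag_univ hh,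
    smul_eq_mul]
  rintro ⟨c, d⟩ hcd
  rw [Finset.mem_offDiag] at hcd
  rw [← hb.card_filter_coset hab he hab hcd.2.2]
  congr 1
  ext g
  simp [Prod.ext_iff]

theorem Base.card_stab1 (hb : Base G Ω) {a b : Ω} (hab : a ≠ b) {e h : ℕ}
    (he : Nat.card ↥(stabilizer G a ⊓ stabilizer G b) = e) (hh : Fintype.card Ω = h + 1) (c : Ω) :
    (Finset.univ.filter (fun g : G => g • c = c)).card = h * e := by
  obtain ⟨d, hd⟩ : ∃ d, d ≠ c := by
    by_cases hc : a = c
    · exact ⟨b, fun h => hab (hc.trans h.symm)⟩
    · exact ⟨a, hc⟩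
  have h1 := Finset.card_eq_sum_card_fiberwise (s := Finset.univ.filter (fun g : G => g • c = c))
    (t := (Finset.univ : Finset Ω).erase c) (f := fun g => g • d) (by
      intro g hg
      simp only [Finset.coe_filter, Finset.mem_univ, true_and, Set.mem_ofPred_eq] at hg
      simp only [Finset.coe_erase, Finset.coe_univ, Set.mem_sdiff, Set.mem_univ, true_and,
        Set.mem_singleton_iff]
      intro h
      exact hd (MulAction.injective g (h.trans hg.symm)))
  rw [h1, Finset.sum_congr rfl (g := fun _ => e), Finset.sum_const,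
    Finset.card_erase_of_mem (Finset.mem_univ _), Finset.card_univ, hh, smul_eq_mul,
    Nat.add_sub_cancel]
  intro d' hd'
  rw [← hb.card_filter_coset hab he hd.symm (Finset.ne_of_mem_erase hd').symm]
  congr 1
  ext g
  simp

theorem Base.card_fix_le (hb : Base G Ω) (g : G) (hg : g ≠ 1) :
    (Finset.univ.filter (fun c : Ω => g • c = c)).card ≤ 2 := by
  by_contra hlt
  push Not at hlt
  obtain ⟨x, hx, y, hy, z, hz, hxy, hxz, hyz⟩ := Finset.two_lt_card.1 hlt
  simp only [Finset.mem_filter, Finset.mem_univ, true_and] at hx hy hz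
  exact hg (hb.three g x y z hxy hyz hxz hx hy hz)

theorem Base.sum_card_fix (hb : Base G Ω) {a b : Ω} (hab : a ≠ b) {e h : ℕ}
    (he : Nat.card ↥(stabilizer G a ⊓ stabilizer G b) = e) (hh : Fintype.card Ω = h + 1) :
    ∑ g : G, (Finset.univ.filter (fun c : Ω => g • c = c)).card = (h + 1) * (h * e) := by
  have h1 := Finset.sum_card_bipartiteAbove_eq_sum_card_bipartiteBelow
    (s := (Finset.univ : Finset G)) (t := (Finset.univ : Finset Ω)) (fun g c => g • c = c)
  unfold Finset.bipartiteAbove Finset.bipartiteBelow at h1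
  rw [h1, Finset.sum_congr rfl (g := fun _ => h * e) (fun c _ => hb.card_stab1 hab he hh c),
    Finset.sum_const, Finset.card_univ, hh, smul_eq_mul]

theorem Base.sum_card_fix_offDiag (hb : Base G Ω) {a b : Ω} (hab : a ≠ b) {e h : ℕ}
    (he : Nat.card ↥(stabilizer G a ⊓ stabilizer G b) = e) (hh : Fintype.card Ω = h + 1) :
    ∑ g : G, (Finset.univ.filter (fun c : Ω => g • c = c)).offDiag.card = (h + 1) * h * e := by
  have h1 := Finset.sum_card_bipartiteAbove_eq_sum_card_bipartiteBelow
    (s := (Finset.univ : Finset G)) (t := (Finset.univ : Finset Ω).offDiag)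
    (fun g p => g • p.1 = p.1 ∧ g • p.2 = p.2)
  unfold Finset.bipartiteAbove Finset.bipartiteBelow at h1
  have h2 : ∀ g : G, (Finset.univ.filter (fun c : Ω => g • c = c)).offDiag
      = (Finset.univ : Finset Ω).offDiag.filter (fun p => g • p.1 = p.1 ∧ g • p.2 = p.2) := by
    intro g
    ext ⟨x, y⟩
    simp only [Finset.mem_offDiag, Finset.mem_filter, Finset.mem_univ, true_and]
    tauto
  rw [Finset.sum_congr rfl (fun g _ => by rw [h2 g]), h1,
    Finset.sum_congr rfl (g := fun _ => e), Finset.sum_const, card_offDiag_univ hh, smul_eq_mul]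
  rintro ⟨c, d⟩ hcd
  rw [Finset.mem_offDiag] at hcd
  exact hb.card_filter_coset hab he hcd.2.2 hcd.2.2

/-- The number of fixed point free elements. -/
theorem Base.two_mul_card_fpf (hb : Base G Ω) {a b : Ω} (hab : a ≠ b) {e h : ℕ}
    (he : Nat.card ↥(stabilizer G a ⊓ stabilizer G b) = e) (hh : Fintype.card Ω = h + 1) :
    2 * (Finset.univ.filter (fun g : G => ∀ c : Ω, g • c ≠ c)).card + h * h
      = (h + 1) * h * e + h := by
  have s1 := hb.sum_card_fix hab he hh
  have s2 := hb.sum_card_fix_offDiag hab he hh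
  have s0 := hb.card_group hab he hh
  have hpt : ∀ g : G, 2 * (if ∀ c : Ω, g • c ≠ c then 1 else 0)
      + 2 * (Finset.univ.filter (fun c : Ω => g • c = c)).card + (if g = 1 then h * h else 0)
      = 2 + (Finset.univ.filter (fun c : Ω => g • c = c)).offDiag.card
        + (if g = 1 then h else 0) := by
    intro g
    by_cases hg : g = 1
    · subst hg
      have h1 : ¬ ∀ c : Ω, (1 : G) • c ≠ c := fun h => h a (one_smul _ _)
      have h2 : (Finset.univ.filter (fun c : Ω => (1 : G) • c = c)) = Finset.univ := by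
        ext c; simp
      rw [if_neg h1, if_pos rfl, if_pos rfl, h2, card_offDiag_univ hh, Finset.card_univ, hh]
      ring
    · rw [if_neg hg, if_neg hg, Finset.offDiag_card]
      have hle := hb.card_fix_le g hg
      by_cases hf : ∀ c : Ω, g • c ≠ c
      · have h2 : (Finset.univ.filter (fun c : Ω => g • c = c)) = ∅ := by
          ext c; simp [hf c]
        rw [if_pos hf, h2]
        simp
      · rw [if_neg hf]
        push Not at hf
        obtain ⟨c, hc⟩ := hf
        have hpos : 0 < (Finset.univ.filter (fun c : Ω => g • c = c)).card :=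
          Finset.card_pos.2 ⟨c, by simp [hc]⟩
        generalize (Finset.univ.filter (fun c : Ω => g • c = c)).card = k at *
        interval_cases k <;> simp
  have hsum := Finset.sum_congr (s₁ := (Finset.univ : Finset G)) rfl (fun g _ => hpt g)
  simp only [Finset.sum_add_distrib, ← Finset.mul_sum, Finset.sum_ite_eq', Finset.mem_univ,
    if_true, Finset.sum_const, Finset.card_univ, smul_eq_mul, s1, s2, s0] at hsum
  rw [Finset.sum_boole] at hsum
  simp only [Nat.cast_id] at hsum
  nlinarith [hsum]

/-- The number of elements whose only fixed point is `c`. -/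
theorem Base.card_fix_only (hb : Base G Ω) {a b : Ω} (hab : a ≠ b) {e h : ℕ}
    (he : Nat.card ↥(stabilizer G a ⊓ stabilizer G b) = e) (hh : Fintype.card Ω = h + 1) (c : Ω) :
    (Finset.univ.filter (fun g : G => g • c = c ∧ ∀ d : Ω, g • d = d → d = c)).card + 1 = h := by
  have s1 := hb.card_stab1 hab he hh c
  set S := Finset.univ.filter (fun g : G => g • c = c) with hS
  have h1 := Finset.sum_card_bipartiteAbove_eq_sum_card_bipartiteBelow
    (s := S) (t := (Finset.univ : Finset Ω).erase c) (fun g d => g • d = d)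
  unfold Finset.bipartiteAbove Finset.bipartiteBelow at h1
  have h2 : ∑ d ∈ (Finset.univ : Finset Ω).erase c, (S.filter (fun g => g • d = d)).card
      = h * e := by
    rw [Finset.sum_congr rfl (g := fun _ => e), Finset.sum_const,
      Finset.card_erase_of_mem (Finset.mem_univ _), Finset.card_univ, hh, smul_eq_mul,
      Nat.add_sub_cancel]
    intro d hd
    rw [← hb.card_filter_coset hab he (Finset.ne_of_mem_erase hd).symm
      (Finset.ne_of_mem_erase hd).symm, hS, Finset.filter_filter]
  rw [h2] at h1
  have hpt : ∀ g ∈ S, (if (∀ d : Ω, g • d = d → d = c) then 1 else 0)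
      + (((Finset.univ : Finset Ω).erase c).filter (fun d => g • d = d)).card
      + (if g = 1 then 1 else 0) = 1 + (if g = 1 then h else 0) := by
    intro g hgS
    have hgc : g • c = c := by simpa [hS] using hgS
    by_cases hg : g = 1
    · subst hg
      have h3 : (((Finset.univ : Finset Ω).erase c).filter (fun d => (1 : G) • d = d))
          = (Finset.univ : Finset Ω).erase c := by
        ext d; simp
      have h4 : ¬ (∀ d : Ω, (1 : G) • d = d → d = c) := by
        intro h
        exact hab ((h a (one_smul _ _)).trans (h b (one_smul _ _)).symm)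
      rw [if_neg h4, if_pos rfl, if_pos rfl, h3, Finset.card_erase_of_mem (Finset.mem_univ _),
        Finset.card_univ, hh]
      omega
    · rw [if_neg hg, if_neg hg]
      by_cases hf : ∀ d : Ω, g • d = d → d = c
      · have h3 : (((Finset.univ : Finset Ω).erase c).filter (fun d => g • d = d)) = ∅ := by
          ext d
          simp only [Finset.mem_filter, Finset.mem_erase, Finset.mem_univ, and_true,
            Finset.notMem_empty, iff_false, not_and]
          exact fun h h' => h (hf d h')
        rw [if_pos hf, h3]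
        simp
      · rw [if_neg hf]
        push Not at hf
        obtain ⟨d, hd, hdc⟩ := hf
        have h3 : (((Finset.univ : Finset Ω).erase c).filter (fun d => g • d = d)) = {d} := by
          ext d'
          simp only [Finset.mem_filter, Finset.mem_erase, Finset.mem_univ, and_true,
            Finset.mem_singleton]
          constructor
          · rintro ⟨h, h'⟩
            by_contra hne
            exact hg (hb.three g c d d' (Ne.symm hdc) (Ne.symm hne) (Ne.symm h) hgc hd h')
          · rintro rfl
            exact ⟨hdc, hd⟩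
        rw [h3]
        simp
  have hsum := Finset.sum_congr (s₁ := S) rfl hpt
  have h1S : (1 : G) ∈ S := by simp [hS]
  simp only [Finset.sum_add_distrib, Finset.sum_ite_eq', h1S, if_true, Finset.sum_const,
    smul_eq_mul, s1, h1] at hsum
  rw [Finset.sum_boole, hS, Finset.filter_filter] at hsum
  simp only [Nat.cast_id] at hsum
  omega

end count

end Cfsg.Agent.Lib.Helper6.Zas
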