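import Cfsg.Agent.Lib.Helper6.Zas3

set_option autoImplicit false
set_option linter.unusedSectionVars false

/-! # Zassenhaus groups with two point stabilisers of odd order: involutions -/

namespace Cfsg.Agent.Lib.Helper6.Zas

open MulAction

/-- An involution normalising a finite subgroup and centralising no non-identity element of it
inverts it. -/
theorem inverts_of_fpf {G : Type*} [Group G] (E : Subgroup G) [Finite E] (t : G) (ht : t * t = 1)
    (hn : ∀ x ∈ E, t * x * t⁻¹ ∈ E) (hf : ∀ x ∈ E, t * x = x * t → x = 1) :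
    ∀ x ∈ E, t * x * t⁻¹ = x⁻¹ := by
  have htinv : t⁻¹ = t := (eq_inv_of_mul_eq_one_right ht).symm
  let ψ : E → E := fun x => ⟨(x : G)⁻¹ * (t * x * t⁻¹), E.mul_mem (E.inv_mem x.2) (hn x x.2)⟩
  have hψinj : Function.Injective ψ := by
    intro x y hxy
    have h1 : (x : G)⁻¹ * (t * x * t⁻¹) = (y : G)⁻¹ * (t * y * t⁻¹) := congrArg Subtype.val hxy
    have hcomm : t * ((y : G) * (x : G)⁻¹) = ((y : G) * (x : G)⁻¹) * t := by
      have h2 : (y : G) * (x : G)⁻¹ = (t * y * t⁻¹) * (t * x * t⁻¹)⁻¹ := by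
        have h3 := congrArg (fun z => (y : G) * z * (t * x * t⁻¹)⁻¹) h1
        have e1 : (y : G) * ((x : G)⁻¹ * (t * x * t⁻¹)) * (t * x * t⁻¹)⁻¹ = (y : G) * (x : G)⁻¹ := by
          group
        have e2 : (y : G) * ((y : G)⁻¹ * (t * y * t⁻¹)) * (t * x * t⁻¹)⁻¹
            = (t * y * t⁻¹) * (t * x * t⁻¹)⁻¹ := by group
        rw [e1, e2] at h3
        exact h3
      have h4 : (t * (y : G) * t⁻¹) * (t * (x : G) * t⁻¹)⁻¹ = t * ((y : G) * (x : G)⁻¹) * t⁻¹ := by
        group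
      rw [h4] at h2
      have h5 := congrArg (· * t) h2
      simp only [inv_mul_cancel_right] at h5
      exact h5.symm
    have hz1 := hf _ (E.mul_mem y.2 (E.inv_mem x.2)) hcomm
    apply Subtype.ext
    exact (mul_inv_eq_one.1 hz1).symm
  have hψsurj : Function.Surjective ψ := Finite.surjective_of_injective hψinj
  intro h hh
  obtain ⟨x, hx⟩ := hψsurj ⟨h, hh⟩
  have h1 : (x : G)⁻¹ * (t * x * t⁻¹) = h := congrArg Subtype.val hx
  rw [← h1, htinv]
  have e1 : t * ((x : G)⁻¹ * (t * x * t)) * t = t * (x : G)⁻¹ * t * x * (t * t) := by group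
  have e2 : ((x : G)⁻¹ * (t * x * t))⁻¹ = t⁻¹ * (x : G)⁻¹ * t⁻¹ * x := by group
  rw [e1, e2, ht, htinv, mul_one]

/-- If an involution `t` inverts `E`, every element of the coset `t E` is an involution
inverting `E`. -/
theorem coset_inverts {G : Type*} [Group G] (E : Subgroup G) (t : G) (ht : t * t = 1)
    (hinv : ∀ x ∈ E, t * x * t⁻¹ = x⁻¹) (s : G) (hs : t⁻¹ * s ∈ E) :
    s * s = 1 ∧ ∀ x ∈ E, s * x * s⁻¹ = x⁻¹ := by
  have htinv : t⁻¹ = t := (eq_inv_of_mul_eq_one_right ht).symm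
  have hcomm : ∀ x ∈ E, ∀ y ∈ E, x * y = y * x := by
    intro x hx y hy
    have h1 := hinv _ (E.mul_mem (E.inv_mem hy) (E.inv_mem hx))
    have h2 : t * (y⁻¹ * x⁻¹) * t⁻¹ = (t * y⁻¹ * t⁻¹) * (t * x⁻¹ * t⁻¹) := by group
    rw [h2, hinv _ (E.inv_mem hy), hinv _ (E.inv_mem hx)] at h1
    simpa using h1.symm
  obtain ⟨y, hy, rfl⟩ : ∃ y ∈ E, s = t * y := ⟨t⁻¹ * s, hs, by group⟩
  constructor
  · have h1 := hinv y hy
    have h2 : t * y * (t * y) = (t * y * t⁻¹) * (t * t) * y := by group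
    rw [h2, h1, ht]
    group
  · intro x hx
    have h2 : t * y * x * (t * y)⁻¹ = t * (y * x * y⁻¹) * t⁻¹ := by group
    rw [h2, hcomm y hy x hx, mul_inv_cancel_right, hinv x hx]

variable {G Ω : Type*} [Group G] [MulAction G Ω]

theorem Base.invol_fix_unique (hb : Base G Ω) [Finite G] {a b : Ω} (hab : a ≠ b)
    (hodd : Odd (Nat.card ↥(stabilizer G a ⊓ stabilizer G b))) (t : G) (ht1 : t ≠ 1)
    (ht2 : t * t = 1) {c d : Ω} (hc : t • c = c) (hd : t • d = d) : c = d := by
  by_contra hcd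
  rw [← hb.card_stab2 hab hcd] at hodd
  have h1 : orderOf (⟨t, hc, hd⟩ : ↥(stabilizer G c ⊓ stabilizer G d)) ∣
      Nat.card ↥(stabilizer G c ⊓ stabilizer G d) := orderOf_dvd_natCard _
  have h2 : orderOf (⟨t, hc, hd⟩ : ↥(stabilizer G c ⊓ stabilizer G d)) = orderOf t := by
    rw [← Subgroup.orderOf_coe]
  have h3 : orderOf t = 2 := orderOf_eq_prime (by rw [pow_two]; exact ht2) ht1
  rw [h2, h3] at h1
  exact (Nat.not_even_iff_odd.2 hodd) (even_iff_two_dvd.2 h1)

theorem Base.invol_exists_fix (hb : Base G Ω) [Fintype Ω] (hn : Odd (Fintype.card Ω)) (t : G)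
    (ht1 : t ≠ 1) (ht2 : t * t = 1) : ∃ c : Ω, t • c = c := by
  obtain ⟨-, h2⟩ := hb.card_fixedBy_invol t ht1 ht2
  rw [Nat.odd_iff.1 hn] at h2
  have h3 : Nat.card (fixedBy Ω t) ≠ 0 := by omega
  have : Nonempty (fixedBy Ω t) := (Nat.card_ne_zero.1 h3).1
  obtain ⟨c, hc⟩ := this
  exact ⟨c, hc⟩

theorem Base.invol_fpf (hb : Base G Ω) [Finite G] [Fintype Ω] {a b : Ω} (hab : a ≠ b)
    (hodd : Odd (Nat.card ↥(stabilizer G a ⊓ stabilizer G b))) (hn : Even (Fintype.card Ω))
    (t : G) (ht1 : t ≠ 1) (ht2 : t * t = 1) (c : Ω) : t • c ≠ c := by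
  intro hc
  obtain ⟨h1, h2⟩ := hb.card_fixedBy_invol t ht1 ht2
  rw [Nat.even_iff.1 hn] at h2
  have : Nonempty (fixedBy Ω t) := ⟨⟨c, hc⟩⟩
  have h3 : Nat.card (fixedBy Ω t) ≠ 0 := Nat.card_ne_zero.2 ⟨this, inferInstance⟩
  have h4 : Nat.card (fixedBy Ω t) = 2 := by omega
  obtain ⟨x, y, hxy, -⟩ := Nat.card_eq_two_iff.1 h4
  exact hxy (Subtype.ext (hb.invol_fix_unique hab hodd t ht1 ht2 x.2 y.2))

/-- Odd degree: every element interchanging two points is an involution inverting their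
stabiliser. -/
theorem swap_inverts_of_odd_degree (hZ : Cfsg.IsZassenhausGroup G Ω) [Finite G] [Fintype Ω]
    (hn : Odd (Fintype.card Ω)) {c d : Ω} (hcd : c ≠ d)
    (hodd : Odd (Nat.card ↥(stabilizer G c ⊓ stabilizer G d))) (s : G) (hsc : s • c = d)
    (hsd : s • d = c) :
    s * s = 1 ∧ ∀ x ∈ stabilizer G c ⊓ stabilizer G d, s * x * s⁻¹ = x⁻¹ := by
  have hb := base_of_zassenhaus hZ
  obtain ⟨t, ht2, htc, htd⟩ := exists_invol_swap hZ hcd
  have ht1 : t ≠ 1 := by
    rintro rfl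
    rw [one_smul] at htc
    exact hcd htc
  have htinv : t⁻¹ = t := (eq_inv_of_mul_eq_one_right ht2).symm
  obtain ⟨p, hp⟩ := hb.invol_exists_fix hn t ht1 ht2
  have hpc : p ≠ c := by
    rintro rfl
    exact hcd (hp.symm.trans htc)
  have hpd : p ≠ d := by
    rintro rfl
    exact hcd (htd.symm.trans hp)
  have hinv := inverts_of_fpf (stabilizer G c ⊓ stabilizer G d) t ht2 (by
    rintro x ⟨hxc, hxd⟩
    replace hxc : x • c = c := hxc
    replace hxd : x • d = d := hxd
    constructor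
    · show (t * x * t⁻¹) • c = c
      rw [htinv, mul_smul, mul_smul, htc, hxd, htd]
    · show (t * x * t⁻¹) • d = d
      rw [htinv, mul_smul, mul_smul, htd, hxc, htc]) (by
    rintro x ⟨hxc, hxd⟩ hcomm
    replace hxc : x • c = c := hxc
    replace hxd : x • d = d := hxd
    have h1 : t • (x • p) = x • p := by
      rw [← mul_smul, hcomm, mul_smul, hp]
    have h2 : x • p = p := hb.invol_fix_unique hcd hodd t ht1 ht2 h1 hp
    exact hb.three x c d p hcd hpd.symm hpc.symm hxc hxd h2)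
  apply coset_inverts _ t ht2 hinv
  constructor
  · show (t⁻¹ * s) • c = c
    rw [htinv, mul_smul, hsc, htd]
  · show (t⁻¹ * s) • d = d
    rw [htinv, mul_smul, hsd, htc]

section count

variable [Fintype G] [DecidableEq G] [Fintype Ω] [DecidableEq Ω]

/-- If all elements interchanging two points are involutions, there are `h * e` involutions
moving a given point. -/
theorem Base.card_invol_move (hb : Base G Ω) {a b : Ω} (hab : a ≠ b) {e h : ℕ}
    (he : Nat.card ↥(stabilizer G a ⊓ stabilizer G b) = e) (hh : Fintype.card Ω = h + 1)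
    (hsw : ∀ c d : Ω, c ≠ d → ∀ s : G, s • c = d → s • d = c → s * s = 1) (c : Ω) :
    (Finset.univ.filter (fun t : G => (t ≠ 1 ∧ t * t = 1) ∧ t • c ≠ c)).card = h * e := by
  have h1 := Finset.card_eq_sum_card_fiberwise
    (s := Finset.univ.filter (fun t : G => (t ≠ 1 ∧ t * t = 1) ∧ t • c ≠ c))
    (t := (Finset.univ : Finset Ω).erase c) (f := fun g => g • c) (by
      intro g hg
      simp only [Finset.coe_filter, Finset.mem_univ, true_and, Set.mem_ofPred_eq] at hg
      simp only [Finset.coe_erase, Finset.coe_univ, Set.mem_sdiff, Set.mem_univ, true_and,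
        Set.mem_singleton_iff]
      exact hg.2)
  rw [h1, Finset.sum_congr rfl (g := fun _ => e), Finset.sum_const,
    Finset.card_erase_of_mem (Finset.mem_univ _), Finset.card_univ, hh, smul_eq_mul,
    Nat.add_sub_cancel]
  intro d hd
  have hdc := Finset.ne_of_mem_erase hd
  rw [← hb.card_filter_coset hab he hdc.symm hdc]
  congr 1
  ext g
  simp only [Finset.mem_filter, Finset.mem_univ, true_and]
  constructor
  · rintro ⟨⟨⟨-, h2⟩, -⟩, h3⟩
    refine ⟨h3, ?_⟩
    rw [← h3, ← mul_smul, h2, one_smul]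
  · rintro ⟨h2, h3⟩
    refine ⟨⟨⟨?_, hsw c d hdc.symm g h2 h3⟩, ?_⟩, h2⟩
    · rintro rfl
      rw [one_smul] at h2
      exact hdc h2.symm
    · rw [h2]
      exact hdc

theorem Base.card_invol_of_fpf (hb : Base G Ω) {a b : Ω} (hab : a ≠ b) {e h : ℕ}
    (he : Nat.card ↥(stabilizer G a ⊓ stabilizer G b) = e) (hh : Fintype.card Ω = h + 1)
    (hsw : ∀ c d : Ω, c ≠ d → ∀ s : G, s • c = d → s • d = c → s * s = 1)
    (hfpf : ∀ t : G, t ≠ 1 → t * t = 1 → ∀ c : Ω, t • c ≠ c) :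
    (Finset.univ.filter (fun t : G => t ≠ 1 ∧ t * t = 1)).card = h * e := by
  rw [← hb.card_invol_move hab he hh hsw a]
  congr 1
  ext t
  simp only [Finset.mem_filter, Finset.mem_univ, true_and]
  constructor
  · intro h
    exact ⟨h, hfpf t h.1 h.2 a⟩
  · intro h
    exact h.1

theorem Base.card_invol_of_fix (hb : Base G Ω) {a b : Ω} (hab : a ≠ b) {e h : ℕ}
    (he : Nat.card ↥(stabilizer G a ⊓ stabilizer G b) = e) (hh : Fintype.card Ω = h + 1)
    (hsw : ∀ c d : Ω, c ≠ d → ∀ s : G, s • c = d → s • d = c → s * s = 1)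
    (hfix : ∀ t : G, t ≠ 1 → t * t = 1 → ∃ c : Ω, t • c = c ∧ ∀ d : Ω, t • d = d → d = c) :
    (Finset.univ.filter (fun t : G => t ≠ 1 ∧ t * t = 1)).card = (h + 1) * e ∧
    ∀ c : Ω, (Finset.univ.filter (fun t : G => (t ≠ 1 ∧ t * t = 1) ∧ t • c = c)).card = e := by
  set I := Finset.univ.filter (fun t : G => t ≠ 1 ∧ t * t = 1) with hI
  have h1 : ∀ c : Ω, (I.filter (fun t => t • c = c)).card + h * e = I.card := by
    intro c
    rw [← hb.card_invol_move hab he hh hsw c, ← Finset.filter_filter, ← hI]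
    exact Finset.card_filter_add_card_filter_not _
  have h2 := Finset.sum_card_bipartiteAbove_eq_sum_card_bipartiteBelow
    (s := I) (t := (Finset.univ : Finset Ω)) (fun g c => g • c = c)
  unfold Finset.bipartiteAbove Finset.bipartiteBelow at h2
  have h3 : ∑ t ∈ I, (Finset.univ.filter (fun c : Ω => t • c = c)).card = I.card := by
    rw [Finset.card_eq_sum_ones]
    apply Finset.sum_congr rfl
    intro t ht
    rw [hI, Finset.mem_filter] at ht
    obtain ⟨c, hc, hc'⟩ := hfix t ht.2.1 ht.2.2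
    rw [Finset.card_eq_one]
    refine ⟨c, ?_⟩
    ext d
    simp only [Finset.mem_filter, Finset.mem_univ, true_and, Finset.mem_singleton]
    exact ⟨hc' d, fun h => h ▸ hc⟩
  rw [h3] at h2
  have h4 : ∑ c : Ω, ((I.filter (fun t => t • c = c)).card + h * e) = (h + 1) * I.card := by
    rw [Finset.sum_congr rfl (fun c _ => h1 c), Finset.sum_const, Finset.card_univ, hh,
      smul_eq_mul]
  rw [Finset.sum_add_distrib, ← h2, Finset.sum_const, Finset.card_univ, hh, smul_eq_mul] at h4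
  have hhpos : 0 < h := by
    have : 1 < Fintype.card Ω := Fintype.one_lt_card_iff.2 ⟨a, b, hab⟩
    omega
  have h5 : I.card = (h + 1) * e := by
    apply Nat.eq_of_mul_eq_mul_left hhpos
    nlinarith [h4]
  refine ⟨h5, fun c => ?_⟩
  have h6 := h1 c
  rw [h5, hI, Finset.filter_filter] at h6
  nlinarith [h6]

end count

end Cfsg.Agent.Lib.Helper6.Zas
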