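import Cfsg.Agent.Lib.Helper6.ZasFeit2
import Cfsg.Agent.Lib.Helper6.PSLCore3
import Cfsg.Agent.Lib.Helper19.ZasHalf
import Cfsg.Agent.S0741

set_option autoImplicit false
set_option linter.unusedSectionVars false

/-! # Zassenhaus groups whose point stabilisers have abelian kernels -/

namespace Cfsg.Agent.Lib.Helper6.Zas

open MulAction Cfsg.Agent.Lib.Helper19
open scoped Pointwise

variable {G Ω : Type*} [Group G] [MulAction G Ω]

/-- A regular normal subgroup of the point stabiliser gives `ZData`. -/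
theorem zdata_of_regular (hb : Base G Ω) {a b : Ω} (hab : a ≠ b) (F : Subgroup G)
    (hFle : F ≤ stabilizer G a) (hFn : (F.subgroupOf (stabilizer G a)).Normal)
    (hreg : ∀ y z : Ω, y ≠ a → z ≠ a → ∃! u : F, (u : G) • y = z) : ZData G Ω a b F where
  base := hb
  hab := hab
  Kfix := fun k hk => hFle hk
  Knorm := by
    intro g hg k hk
    exact hFn.conj_mem ⟨k, hFle hk⟩ hk ⟨g, hg⟩
  Ktrans := by
    intro c hc
    obtain ⟨u, hu, -⟩ := hreg b c hab.symm hc
    exact ⟨u, u.2, hu⟩
  Kfree := by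
    intro k hk c hc hkc
    obtain ⟨u, -, huniq⟩ := hreg c c hc hc
    have h1 := huniq ⟨k, hk⟩ hkc
    have h2 := huniq 1 (one_smul _ _)
    exact congrArg Subtype.val (h1.trans h2.symm)

/-- order `h - 1` of the two point stabiliser: sharply triply transitive -/
theorem sharp3_of_card (hb : Base G Ω) [Finite G] [Fintype Ω] {a b : Ω} (hab : a ≠ b)
    (hcard : Nat.card ↥(stabilizer G a ⊓ stabilizer G b) + 2 = Fintype.card Ω) :
    IsMultiplyPretransitive G Ω 3 ∧ ∀ t : Fin 3 ↪ Ω, stabilizer G t = ⊥ := by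
  classical
  have htr : ∀ c d : Ω, c ≠ a → c ≠ b → d ≠ a → d ≠ b →
      ∃ x : G, x • a = a ∧ x • b = b ∧ x • c = d := by
    intro c d hca hcb hda hdb
    have : Fintype ↥(stabilizer G a ⊓ stabilizer G b) := Fintype.ofFinite _
    let f : ↥(stabilizer G a ⊓ stabilizer G b) → {y : Ω // ¬ (y = a ∨ y = b)} := fun x =>
      ⟨(x : G) • c, by
        rintro (h | h)
        · exact hca (MulAction.injective (x : G) (h.trans (show (x : G) • a = a from x.2.1).symm))
        · exact hcb (MulAction.injective (x : G) (h.trans (show (x : G) • b = b from x.2.2).symm))⟩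
    have hinj : Function.Injective f := by
      intro x y hxy
      have h1 : (x : G) • c = (y : G) • c := congrArg Subtype.val hxy
      have h2 : (y : G)⁻¹ * x = 1 := by
        apply hb.three _ a b c hab hcb.symm hca.symm
        · rw [mul_smul, show (x : G) • a = a from x.2.1, inv_smul_eq_iff]
          exact (show (y : G) • a = a from y.2.1).symm
        · rw [mul_smul, show (x : G) • b = b from x.2.2, inv_smul_eq_iff]
          exact (show (y : G) • b = b from y.2.2).symm
        · rw [mul_smul, h1, inv_smul_smul]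
      exact Subtype.ext (inv_mul_eq_one.1 h2).symm
    have hc2 : Fintype.card {y : Ω // (y = a ∨ y = b)} = 2 := by
      rw [Fintype.card_subtype]
      have : (Finset.univ.filter (fun y : Ω => y = a ∨ y = b)) = {a, b} := by
        ext y; simp
      rw [this, Finset.card_pair hab]
    have hcard' : Fintype.card ↥(stabilizer G a ⊓ stabilizer G b)
        = Fintype.card {y : Ω // ¬ (y = a ∨ y = b)} := by
      rw [Fintype.card_subtype_compl, hc2, ← Nat.card_eq_fintype_card]
      omega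
    obtain ⟨x, hx⟩ := ((Fintype.bijective_iff_injective_and_card f).2 ⟨hinj, hcard'⟩).2
      ⟨d, by rintro (h | h); exacts [hda h, hdb h]⟩
    exact ⟨x, x.2.1, x.2.2, congrArg Subtype.val hx⟩
  constructor
  · rw [isMultiplyPretransitive_iff]
    intro s t
    have hs01 : s 0 ≠ s 1 := fun h => by simpa using s.injective h
    have hs02 : s 0 ≠ s 2 := fun h => by simpa using s.injective h
    have hs12 : s 1 ≠ s 2 := fun h => by simpa using s.injective h
    have ht01 : t 0 ≠ t 1 := fun h => by simpa using t.injective h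
    have ht02 : t 0 ≠ t 2 := fun h => by simpa using t.injective h
    have ht12 : t 1 ≠ t 2 := fun h => by simpa using t.injective h
    obtain ⟨g1, h1a, h1b⟩ := hb.two hs01 hab
    obtain ⟨g2, h2a, h2b⟩ := hb.two ht01 hab
    obtain ⟨x, hxa, hxb, hxc⟩ := htr (g1 • s 2) (g2 • t 2)
      (fun h => hs02 (MulAction.injective g1 (h1a.trans h.symm)))
      (fun h => hs12 (MulAction.injective g1 (h1b.trans h.symm)))
      (fun h => ht02 (MulAction.injective g2 (h2a.trans h.symm)))
      (fun h => ht12 (MulAction.injective g2 (h2b.trans h.symm)))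
    refine ⟨g2⁻¹ * x * g1, ?_⟩
    ext i
    rw [Function.Embedding.smul_apply]
    fin_cases i
    · show (g2⁻¹ * x * g1) • s 0 = t 0
      rw [mul_smul, mul_smul, h1a, hxa, inv_smul_eq_iff, h2a]
    · show (g2⁻¹ * x * g1) • s 1 = t 1
      rw [mul_smul, mul_smul, h1b, hxb, inv_smul_eq_iff, h2b]
    · show (g2⁻¹ * x * g1) • s 2 = t 2
      rw [mul_smul, mul_smul, hxc, inv_smul_smul]
  · intro t
    rw [eq_bot_iff]
    intro g hg
    rw [mem_stabilizer_iff] at hg
    rw [Subgroup.mem_bot]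
    have ht01 : t 0 ≠ t 1 := fun h => by simpa using t.injective h
    have ht02 : t 0 ≠ t 2 := fun h => by simpa using t.injective h
    have ht12 : t 1 ≠ t 2 := fun h => by simpa using t.injective h
    exact hb.three g (t 0) (t 1) (t 2) ht01 ht12 ht02 (DFunLike.congr_fun hg 0)
      (DFunLike.congr_fun hg 1) (DFunLike.congr_fun hg 2)

/-- abelian kernel, `e` odd and `2 e = h - 1`: the group is simple -/
theorem simple_of_half (hZ : Cfsg.IsZassenhausGroup G Ω) [Finite G] [Fintype Ω] {a b : Ω}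
    (hab : a ≠ b) (h e : ℕ) (hh : Fintype.card Ω = h + 1)
    (he : Nat.card ↥(stabilizer G a ⊓ stabilizer G b : Subgroup G) = e) (hodd : Odd e)
    (h2e : 2 * e = h - 1)
    (H : Subgroup G) (hHa : H ≤ stabilizer G a) (hHcard : Nat.card H + 1 = Fintype.card Ω)
    (hHfix : ∀ u ∈ H, u ≠ 1 → ∀ c : Ω, u • c = c → c = a)
    (hHab : ∀ u ∈ H, ∀ v ∈ H, u * v = v * u) : IsSimpleGroup G := by
  classical
  have hb := base_of_zassenhaus hZ
  obtain ⟨g, hg, -⟩ := hZ.2.2.2.1
  have : Nontrivial G := ⟨⟨g, 1, hg⟩⟩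
  refine ⟨fun N hNn => ?_⟩
  rw [or_iff_not_imp_left]
  intro hNbot
  have hZN : Cfsg.IsZassenhausGroup N Ω := Cfsg.Agent.S0339.result hZ N hNbot
  obtain ⟨HN, hHNa, -, hHNcard, hHNfix⟩ := exists_kernel hZN hab
  have hdvd : Nat.card ↥(stabilizer N a ⊓ stabilizer N b : Subgroup N) ∣ e := by
    rw [← he, ← Subgroup.card_map_of_injective N.subtype_injective]
    apply Subgroup.card_dvd_of_le
    rintro _ ⟨x, ⟨hx1, hx2⟩, rfl⟩
    exact ⟨hx1, hx2⟩
  have he0 : 0 < e := hodd.pos
  have hle := Nat.le_of_dvd he0 hdvd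
  have hsub : ∀ x ∈ HN, (x : G) ∈ H := by
    intro x hx
    by_cases hx1 : x = 1
    · rw [hx1]; exact H.one_mem
    · apply mem_kernel hb hab H hHa hHcard hHfix
      · exact hHNa hx
      · exact hHNfix x hx hx1
  have hge : h - 1 ≤ 2 * Nat.card ↥(stabilizer N a ⊓ stabilizer N b : Subgroup N) := by
    rcases feit_general _ N rfl hZN hab h _ hh rfl (Odd.of_dvd_nat hodd hdvd) HN hHNa hHNcard
      hHNfix with h1 | ⟨-, ⟨u, v, huv⟩, -⟩
    · exact h1
    · exfalso
      apply huv
      apply Subtype.ext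
      apply Subtype.ext
      exact hHab _ (hsub u u.2) _ (hsub v v.2)
  have heq : Nat.card ↥(stabilizer N a ⊓ stabilizer N b : Subgroup N) = e := by omega
  have : Fintype G := Fintype.ofFinite G
  have : Fintype N := Fintype.ofFinite N
  apply Subgroup.eq_top_of_card_eq
  rw [Nat.card_eq_fintype_card, Nat.card_eq_fintype_card, hb.card_group hab he hh,
    (base_of_zassenhaus hZN).card_group hab heq hh]

theorem abelian_kernel (hZ : Cfsg.IsZassenhausGroup G Ω) [Finite G] [Fintype Ω] {a b : Ω}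
    (hab : a ≠ b) (F : Subgroup G)
    (hFle : F ≤ stabilizer G a) (hFn : (F.subgroupOf (stabilizer G a)).Normal)
    (hFab : ∀ u ∈ F, ∀ v ∈ F, u * v = v * u)
    (hreg : ∀ y z : Ω, y ≠ a → z ≠ a → ∃! u : F, (u : G) • y = z) :
    (IsMultiplyPretransitive G Ω 3 ∧ ∀ t : Fin 3 ↪ Ω, stabilizer G t = ⊥) ∨
    ∃ (K : Type) (_ : Field K) (_ : Fintype K), ringChar K ≠ 2 ∧
      Nonempty (G ≃* Matrix.ProjectiveSpecialLinearGroup (Fin 2) K) := by
  classical
  have hb := base_of_zassenhaus hZ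
  have z := zdata_of_regular hb hab F hFle hFn hreg
  obtain ⟨h, hh⟩ : ∃ h, Fintype.card Ω = h + 1 :=
    ⟨Fintype.card Ω - 1, by have : 0 < Fintype.card Ω := Fintype.card_pos_iff.2 ⟨a⟩; omega⟩
  obtain ⟨e, he⟩ : ∃ e, Nat.card ↥(stabilizer G a ⊓ stabilizer G b : Subgroup G) = e := ⟨_, rfl⟩
  have hFcard : Nat.card F + 1 = Fintype.card Ω := by
    rw [← Nat.card_eq_fintype_card, z.card_K]
  have hFfix : ∀ u ∈ F, u ≠ 1 → ∀ c : Ω, u • c = c → c = a := by
    intro u hu hu1 c hc
    by_contra hca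
    exact hu1 (z.Kfree u hu c hca hc)
  have h3 : 2 < Fintype.card Ω := by
    obtain ⟨c, hca, hcb⟩ := exists_third hZ a b
    rw [Fintype.two_lt_card_iff]
    exact ⟨a, b, c, hab, hca.symm, hcb.symm⟩
  have hle : h - 1 ≤ 2 * e := by
    rcases Nat.even_or_odd e with heven | hodd
    · have := Cfsg.Agent.S0741.result hZ hab (he ▸ heven)
      rw [he] at this
      omega
    · rcases feit_general _ G rfl hZ hab h e hh he hodd F hFle hFcard hFfix with
        h1 | ⟨-, ⟨u, v, huv⟩, -⟩
      · exact h1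
      · exact absurd (Subtype.ext (hFab u u.2 v v.2)) huv
  obtain ⟨k, hk⟩ : e ∣ h - 1 := he ▸ hb.card_stab2_dvd hab hh
  have he0 : 0 < e := he ▸ Nat.card_pos
  have hk0 : k ≠ 0 := by
    rintro rfl
    omega
  have hk2 : k ≤ 2 := by
    by_contra hcon
    have : e * 3 ≤ e * k := Nat.mul_le_mul_left e (by omega)
    omega
  have hk12 : k = 1 ∨ k = 2 := by omega
  rcases hk12 with rfl | rfl
  · left
    apply sharp3_of_card hb hab
    rw [he]; omega
  right
  rcases Nat.even_or_odd e with heven | hodd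
  · obtain ⟨K, i1, i2, -, hK, hiso⟩ := psl_of_half z (he ▸ heven) (by rw [he]; omega)
    exact ⟨K, i1, i2, hK, hiso⟩
  have hsimple := simple_of_half hZ hab h e hh he hodd (by omega) F hFle hFcard hFfix hFab
  have : FaithfulSMul G Ω := hZ.1
  obtain ⟨u, hua, hub⟩ := hb.two hab hab.symm
  obtain ⟨huu, hud⟩ := swap_inverts_of_simple hZ hab (he ▸ hodd) hab u hua hub
  have hu1 : u ≠ 1 := by
    rintro rfl
    rw [one_smul] at hua
    exact hab hua
  have hHc : ∀ c ∈ stabilizer G a ⊓ stabilizer G b, ∀ d ∈ stabilizer G a ⊓ stabilizer G b,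
      c * d = d * c := by
    intro x hx y hy
    have h1 := hud _ (Subgroup.mul_mem _ (Subgroup.inv_mem _ hy) (Subgroup.inv_mem _ hx))
    have h2 : u * (y⁻¹ * x⁻¹) * u⁻¹ = (u * y⁻¹ * u⁻¹) * (u * x⁻¹ * u⁻¹) := by group
    rw [h2, hud _ (Subgroup.inv_mem _ hy), hud _ (Subgroup.inv_mem _ hx)] at h1
    simpa using h1.symm
  obtain ⟨K, i1, i2, -, hK, hiso⟩ := PSL3.psl2_core3 (G := G) (X := Ω) F
    (stabilizer G a ⊓ stabilizer G b) u a b hab.symm hFab z.Kfix z.Ktrans
    (fun t ht h => z.Kfree t ht b hab.symm h) hHc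
    (fun d hd => hd.1) (fun d hd => hd.2)
    (fun d hd t ht => z.Knorm d hd.1 t ht)
    z.stab z.free (by rw [he]; omega) (he ▸ hodd)
    (hb.invol_fpf hab (he ▸ hodd) (by rw [hh]; obtain ⟨j, hj⟩ := hodd; exact ⟨2 * j + 2, by omega⟩)
      u hu1 huu)
    hua hub huu hud (fun y₁ y₂ h => hb.two hab h)
  exact ⟨K, i1, i2, hK, hiso⟩

end Cfsg.Agent.Lib.Helper6.Zas
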